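import Mathlib
import Cfsg.Prelude.Def_KGroupFacts

/-! # Stem extensions: quotients by subgroups of the kernel, and the reduction of the bound on the kernels to the
odd case and the case of a kernel of order two -/

set_option autoImplicit false

namespace Cfsg.Agent.Lib.Lead.ON3

universe u v

section

variable {E : Type u} {G : Type v} [Group E] [Group G]

/-- a subgroup of the kernel of a stem extension is normal, being central -/
theorem normal_of_le_ker {s : E →* G} (hs : Cfsg.IsStemExtension s) {M : Subgroup E} (hM : M ≤ s.ker) :
    M.Normal := by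
  refine ⟨fun m hm x => ?_⟩
  have hc : m ∈ Subgroup.center E := hs.2.1 (hM hm)
  have : x * m * x⁻¹ = m := by
    rw [Subgroup.mem_center_iff] at hc
    rw [hc x, mul_inv_cancel_right]
  rw [this]
  exact hm

/-- the quotient of a stem extension by a subgroup of the kernel is a stem extension -/
theorem stem_quotient {s : E →* G} (hs : Cfsg.IsStemExtension s) {M : Subgroup E} [M.Normal]
    (hM : M ≤ s.ker) : Cfsg.IsStemExtension (QuotientGroup.lift M s (fun x hx => hM hx)) := by
  refine ⟨?_, ?_, ?_⟩
  · intro y
    obtain ⟨x, rfl⟩ := hs.1 y
    exact ⟨QuotientGroup.mk x, rfl⟩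
  · intro q hq
    induction q using QuotientGroup.induction_on with
    | _ x =>
      have hx : x ∈ s.ker := by
        rw [MonoidHom.mem_ker] at hq ⊢
        exact hq
      have hc := hs.2.1 hx
      rw [Subgroup.mem_center_iff] at hc ⊢
      intro r
      induction r using QuotientGroup.induction_on with
      | _ y =>
        rw [← QuotientGroup.mk_mul, ← QuotientGroup.mk_mul, hc y]
  · intro q hq
    induction q using QuotientGroup.induction_on with
    | _ x =>
      have hx : x ∈ s.ker := by
        rw [MonoidHom.mem_ker] at hq ⊢
        exact hq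
      have hc : x ∈ commutator E := hs.2.2 hx
      have : (QuotientGroup.mk' M) x ∈ (commutator E).map (QuotientGroup.mk' M) :=
        Subgroup.mem_map_of_mem _ hc
      rw [commutator_def, Subgroup.map_commutator] at this
      rw [commutator_def]
      refine Subgroup.commutator_mono le_top le_top this

/-- the order of the kernel of the quotient extension -/
theorem card_ker_quotient [Finite E] {s : E →* G} (hs : Cfsg.IsStemExtension s) {M : Subgroup E} [M.Normal]
    (hM : M ≤ s.ker) :
    Nat.card (QuotientGroup.lift M s (fun x hx => hM hx)).ker * Nat.card M = Nat.card s.ker := by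
  have hG : Finite G := Finite.of_surjective s hs.1
  have hs' := stem_quotient hs hM
  have h1 : Nat.card s.ker * Nat.card G = Nat.card E := by
    have := Subgroup.card_mul_index s.ker
    rw [Subgroup.index_ker, MonoidHom.range_eq_top.2 hs.1] at this
    rw [← this]
    congr 1
    exact (Nat.card_congr (Subgroup.topEquiv (G := G)).toEquiv).symm
  have h2 : Nat.card (QuotientGroup.lift M s (fun x hx => hM hx)).ker * Nat.card G = Nat.card (E ⧸ M) := by
    have := Subgroup.card_mul_index (QuotientGroup.lift M s (fun x hx => hM hx)).ker
    rw [Subgroup.index_ker, MonoidHom.range_eq_top.2 hs'.1] at this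
    rw [← this]
    congr 1
    exact (Nat.card_congr (Subgroup.topEquiv (G := G)).toEquiv).symm
  have h3 : Nat.card E = Nat.card (E ⧸ M) * Nat.card M := Subgroup.card_eq_card_quotient_mul_card_subgroup M
  have hGpos : 0 < Nat.card G := Nat.card_pos
  have : (Nat.card (QuotientGroup.lift M s (fun x hx => hM hx)).ker * Nat.card M) * Nat.card G =
      Nat.card s.ker * Nat.card G := by
    rw [h1, h3, ← h2]
    ring
  exact Nat.eq_of_mul_eq_mul_right hGpos this

end

/-- if no finite stem extension of `G` has a kernel of order two, then the kernels of the finite stem extensions of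
`G` have odd order -/
theorem odd_ker_of_no_two {G : Type v} [Group G]
    (hB : ∀ (E : Type u) [Group E] [Finite E] (s : E →* G), Cfsg.IsStemExtension s → Nat.card s.ker ≠ 2) :
    ∀ (n : ℕ) (E : Type u) [Group E] [Finite E] (s : E →* G), Cfsg.IsStemExtension s →
      Nat.card s.ker = n → ¬ 2 ∣ n := by
  intro n
  induction n using Nat.strong_induction_on with
  | _ n ih =>
    intro E _ _ s hs hn h2
    have hn2 : n ≠ 2 := by
      rw [← hn]
      exact hB E s hs
    have hpos : 0 < n := by
      rw [← hn]
      exact Nat.card_pos
    obtain ⟨t, rfl⟩ := h2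
    have ht : 2 ≤ t := by
      rcases t with _ | _ | t
      · omega
      · omega
      · omega
    obtain ⟨p, hp, hpt⟩ := Nat.exists_prime_and_dvd (show t ≠ 1 by omega)
    haveI : Fact p.Prime := ⟨hp⟩
    have hpn : p ∣ Nat.card s.ker := by
      rw [hn]
      exact Dvd.dvd.mul_left hpt 2
    obtain ⟨x, hx⟩ := exists_prime_orderOf_dvd_card' p hpn
    let M : Subgroup E := (Subgroup.zpowers x).map s.ker.subtype
    have hM : M ≤ s.ker := by
      rintro _ ⟨y, _, rfl⟩
      exact y.2
    have hcardM : Nat.card M = p := by
      have e : Nat.card M = Nat.card (Subgroup.zpowers x) :=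
        Nat.card_congr ((Subgroup.zpowers x).equivMapOfInjective s.ker.subtype
          (Subgroup.subtype_injective _)).symm.toEquiv
      rw [e, Nat.card_zpowers, hx]
    haveI : M.Normal := normal_of_le_ker hs hM
    have hs' := stem_quotient hs hM
    have hc := card_ker_quotient hs hM
    rw [hcardM, hn] at hc
    obtain ⟨r, rfl⟩ := hpt
    have hk : Nat.card (QuotientGroup.lift M s (fun x hx => hM hx)).ker = 2 * r := by
      have : Nat.card (QuotientGroup.lift M s (fun x hx => hM hx)).ker * p = (2 * r) * p := by
        rw [hc]
        ring
      exact Nat.eq_of_mul_eq_mul_right hp.pos this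
    have hlt : 2 * r < 2 * (p * r) := by
      have hr : 0 < r := by
        rcases r with _ | r
        · omega
        · omega
      have := hp.two_le
      nlinarith
    exact ih (2 * r) hlt (E ⧸ M) _ hs' hk ⟨r, rfl⟩

/-- **the reduction**: if the kernels of odd order of the finite stem extensions of `G` are images of `A`, and no
finite stem extension of `G` has a kernel of order two, then all kernels of finite stem extensions of `G` are images
of `A` -/
theorem upper_of_odd_of_no_two {G : Type v} [Group G] {A : Type*} [Group A]
    (hA : ∀ (E : Type u) [Group E] [Finite E] (s : E →* G), Cfsg.IsStemExtension s → Odd (Nat.card s.ker) →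
      ∃ π : A →* s.ker, Function.Surjective π)
    (hB : ∀ (E : Type u) [Group E] [Finite E] (s : E →* G), Cfsg.IsStemExtension s → Nat.card s.ker ≠ 2) :
    ∀ (E : Type u) [Group E] [Finite E] (s : E →* G), Cfsg.IsStemExtension s →
      ∃ π : A →* s.ker, Function.Surjective π := by
  intro E _ _ s hs
  refine hA E s hs ?_
  have := odd_ker_of_no_two hB (Nat.card s.ker) E s hs rfl
  exact Nat.odd_iff.2 (Nat.two_dvd_ne_zero.1 this)

end Cfsg.Agent.Lib.Lead.ON3
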