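import Cfsg.Agent.Lib.Lead.ON3.C3Data
import Cfsg.Agent.Lib.Helper6.TCRel3

/-! # The triple cover of O'N: the kernel check of a part of the relators on the table -/

set_option autoImplicit false

namespace Cfsg.Agent.Lib.Lead.ON3.C3

open Cfsg.Agent.Lib.Helper6.TC

theorem chk_pow11_0_0 : tab.minOKc [1, 5] 2 0 16000 = true := by decide +kernel

theorem chk_pow11_0_1 : tab.minOKc [1, 5] 2 16000 16000 = true := by decide +kernel

theorem chk_pow11_0_2 : tab.minOKc [1, 5] 2 32000 16000 = true := by decide +kernel

theorem chk_pow11_0_3 : tab.minOKc [1, 5] 2 48000 16000 = true := by decide +kernel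

theorem chk_pow11_0_4 : tab.minOKc [1, 5] 2 64000 16000 = true := by decide +kernel

theorem chk_pow11_0_5 : tab.minOKc [1, 5] 2 80000 16000 = true := by decide +kernel

theorem chk_pow11_0_6 : tab.minOKc [1, 5] 2 96000 16000 = true := by decide +kernel

theorem chk_pow11_0_7 : tab.minOKc [1, 5] 2 112000 16000 = true := by decide +kernel

theorem chk_pow11_0_8 : tab.minOKc [1, 5] 2 128000 16000 = true := by decide +kernel

theorem chk_pow11_0_9 : tab.minOKc [1, 5] 2 144000 16000 = true := by decide +kernel

theorem chk_pow11_0_10 : tab.minOKc [1, 5] 2 160000 16000 = true := by decide +kernel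

theorem chk_pow11_0_11 : tab.minOKc [1, 5] 2 176000 16000 = true := by decide +kernel

theorem chk_pow11_0_12 : tab.minOKc [1, 5] 2 192000 16000 = true := by decide +kernel

theorem chk_pow11_0_13 : tab.minOKc [1, 5] 2 208000 16000 = true := by decide +kernel

theorem chk_pow11_0_14 : tab.minOKc [1, 5] 2 224000 16000 = true := by decide +kernel

theorem chk_pow11_0 : tab.minOKc [1, 5] 2 0 240000 = true := by
  refine tab.minOKc_of_chunks [1, 5] 2 0 16000 15 (by norm_num) ?_
  intro i hi
  interval_cases i
  · exact chk_pow11_0_0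
  · exact chk_pow11_0_1
  · exact chk_pow11_0_2
  · exact chk_pow11_0_3
  · exact chk_pow11_0_4
  · exact chk_pow11_0_5
  · exact chk_pow11_0_6
  · exact chk_pow11_0_7
  · exact chk_pow11_0_8
  · exact chk_pow11_0_9
  · exact chk_pow11_0_10
  · exact chk_pow11_0_11
  · exact chk_pow11_0_12
  · exact chk_pow11_0_13
  · exact chk_pow11_0_14

theorem chk_pow11_1_0 : tab.minOKc [1, 5] 2 240000 16000 = true := by decide +kernel

theorem chk_pow11_1_1 : tab.minOKc [1, 5] 2 256000 16000 = true := by decide +kernel

theorem chk_pow11_1_2 : tab.minOKc [1, 5] 2 272000 16000 = true := by decide +kernel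

theorem chk_pow11_1_3 : tab.minOKc [1, 5] 2 288000 16000 = true := by decide +kernel

theorem chk_pow11_1_4 : tab.minOKc [1, 5] 2 304000 16000 = true := by decide +kernel

theorem chk_pow11_1_5 : tab.minOKc [1, 5] 2 320000 16000 = true := by decide +kernel

theorem chk_pow11_1_6 : tab.minOKc [1, 5] 2 336000 16000 = true := by decide +kernel

theorem chk_pow11_1_7 : tab.minOKc [1, 5] 2 352000 16000 = true := by decide +kernel

theorem chk_pow11_1_8 : tab.minOKc [1, 5] 2 368000 16000 = true := by decide +kernel

theorem chk_pow11_1_9 : tab.minOKc [1, 5] 2 384000 16000 = true := by decide +kernel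

theorem chk_pow11_1_10 : tab.minOKc [1, 5] 2 400000 16000 = true := by decide +kernel

theorem chk_pow11_1_11 : tab.minOKc [1, 5] 2 416000 16000 = true := by decide +kernel

theorem chk_pow11_1_12 : tab.minOKc [1, 5] 2 432000 16000 = true := by decide +kernel

theorem chk_pow11_1_13 : tab.minOKc [1, 5] 2 448000 16000 = true := by decide +kernel

theorem chk_pow11_1_14 : tab.minOKc [1, 5] 2 464000 16000 = true := by decide +kernel

theorem chk_pow11_1 : tab.minOKc [1, 5] 2 240000 240000 = true := by
  refine tab.minOKc_of_chunks [1, 5] 2 240000 16000 15 (by norm_num) ?_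
  intro i hi
  interval_cases i
  · exact chk_pow11_1_0
  · exact chk_pow11_1_1
  · exact chk_pow11_1_2
  · exact chk_pow11_1_3
  · exact chk_pow11_1_4
  · exact chk_pow11_1_5
  · exact chk_pow11_1_6
  · exact chk_pow11_1_7
  · exact chk_pow11_1_8
  · exact chk_pow11_1_9
  · exact chk_pow11_1_10
  · exact chk_pow11_1_11
  · exact chk_pow11_1_12
  · exact chk_pow11_1_13
  · exact chk_pow11_1_14


end Cfsg.Agent.Lib.Lead.ON3.C3
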