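import Cfsg.Agent.Lib.Lead.ON3.C3Data
import Cfsg.Agent.Lib.Helper6.TCRel3

/-! # The triple cover of O'N: the kernel check of a part of the relators on the table -/

set_option autoImplicit false

namespace Cfsg.Agent.Lib.Lead.ON3.C3

open Cfsg.Agent.Lib.Helper6.TC

theorem chk_pow15_0_0 : tab.minOKc [0, 5, 7, 7] 1 0 8000 = true := by decide +kernel

theorem chk_pow15_0_1 : tab.minOKc [0, 5, 7, 7] 1 8000 8000 = true := by decide +kernel

theorem chk_pow15_0_2 : tab.minOKc [0, 5, 7, 7] 1 16000 8000 = true := by decide +kernel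

theorem chk_pow15_0_3 : tab.minOKc [0, 5, 7, 7] 1 24000 8000 = true := by decide +kernel

theorem chk_pow15_0_4 : tab.minOKc [0, 5, 7, 7] 1 32000 8000 = true := by decide +kernel

theorem chk_pow15_0_5 : tab.minOKc [0, 5, 7, 7] 1 40000 8000 = true := by decide +kernel

theorem chk_pow15_0_6 : tab.minOKc [0, 5, 7, 7] 1 48000 8000 = true := by decide +kernel

theorem chk_pow15_0_7 : tab.minOKc [0, 5, 7, 7] 1 56000 8000 = true := by decide +kernel

theorem chk_pow15_0_8 : tab.minOKc [0, 5, 7, 7] 1 64000 8000 = true := by decide +kernel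

theorem chk_pow15_0_9 : tab.minOKc [0, 5, 7, 7] 1 72000 8000 = true := by decide +kernel

theorem chk_pow15_0_10 : tab.minOKc [0, 5, 7, 7] 1 80000 8000 = true := by decide +kernel

theorem chk_pow15_0_11 : tab.minOKc [0, 5, 7, 7] 1 88000 8000 = true := by decide +kernel

theorem chk_pow15_0_12 : tab.minOKc [0, 5, 7, 7] 1 96000 8000 = true := by decide +kernel

theorem chk_pow15_0_13 : tab.minOKc [0, 5, 7, 7] 1 104000 8000 = true := by decide +kernel

theorem chk_pow15_0_14 : tab.minOKc [0, 5, 7, 7] 1 112000 8000 = true := by decide +kernel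

theorem chk_pow15_0 : tab.minOKc [0, 5, 7, 7] 1 0 120000 = true := by
  refine tab.minOKc_of_chunks [0, 5, 7, 7] 1 0 8000 15 (by norm_num) ?_
  intro i hi
  interval_cases i
  · exact chk_pow15_0_0
  · exact chk_pow15_0_1
  · exact chk_pow15_0_2
  · exact chk_pow15_0_3
  · exact chk_pow15_0_4
  · exact chk_pow15_0_5
  · exact chk_pow15_0_6
  · exact chk_pow15_0_7
  · exact chk_pow15_0_8
  · exact chk_pow15_0_9
  · exact chk_pow15_0_10
  · exact chk_pow15_0_11
  · exact chk_pow15_0_12
  · exact chk_pow15_0_13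
  · exact chk_pow15_0_14

theorem chk_pow15_1_0 : tab.minOKc [0, 5, 7, 7] 1 120000 8000 = true := by decide +kernel

theorem chk_pow15_1_1 : tab.minOKc [0, 5, 7, 7] 1 128000 8000 = true := by decide +kernel

theorem chk_pow15_1_2 : tab.minOKc [0, 5, 7, 7] 1 136000 8000 = true := by decide +kernel

theorem chk_pow15_1_3 : tab.minOKc [0, 5, 7, 7] 1 144000 8000 = true := by decide +kernel

theorem chk_pow15_1_4 : tab.minOKc [0, 5, 7, 7] 1 152000 8000 = true := by decide +kernel

theorem chk_pow15_1_5 : tab.minOKc [0, 5, 7, 7] 1 160000 8000 = true := by decide +kernel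

theorem chk_pow15_1_6 : tab.minOKc [0, 5, 7, 7] 1 168000 8000 = true := by decide +kernel

theorem chk_pow15_1_7 : tab.minOKc [0, 5, 7, 7] 1 176000 8000 = true := by decide +kernel

theorem chk_pow15_1_8 : tab.minOKc [0, 5, 7, 7] 1 184000 8000 = true := by decide +kernel

theorem chk_pow15_1_9 : tab.minOKc [0, 5, 7, 7] 1 192000 8000 = true := by decide +kernel

theorem chk_pow15_1_10 : tab.minOKc [0, 5, 7, 7] 1 200000 8000 = true := by decide +kernel

theorem chk_pow15_1_11 : tab.minOKc [0, 5, 7, 7] 1 208000 8000 = true := by decide +kernel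

theorem chk_pow15_1_12 : tab.minOKc [0, 5, 7, 7] 1 216000 8000 = true := by decide +kernel

theorem chk_pow15_1_13 : tab.minOKc [0, 5, 7, 7] 1 224000 8000 = true := by decide +kernel

theorem chk_pow15_1_14 : tab.minOKc [0, 5, 7, 7] 1 232000 8000 = true := by decide +kernel

theorem chk_pow15_1 : tab.minOKc [0, 5, 7, 7] 1 120000 120000 = true := by
  refine tab.minOKc_of_chunks [0, 5, 7, 7] 1 120000 8000 15 (by norm_num) ?_
  intro i hi
  interval_cases i
  · exact chk_pow15_1_0
  · exact chk_pow15_1_1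
  · exact chk_pow15_1_2
  · exact chk_pow15_1_3
  · exact chk_pow15_1_4
  · exact chk_pow15_1_5
  · exact chk_pow15_1_6
  · exact chk_pow15_1_7
  · exact chk_pow15_1_8
  · exact chk_pow15_1_9
  · exact chk_pow15_1_10
  · exact chk_pow15_1_11
  · exact chk_pow15_1_12
  · exact chk_pow15_1_13
  · exact chk_pow15_1_14


end Cfsg.Agent.Lib.Lead.ON3.C3
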