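import Cfsg.Agent.Lib.Lead.ON3.C3Data
import Cfsg.Agent.Lib.Helper6.TCRel3
import Cfsg.Agent.Lib.Lead.ON3.C3Rel0

/-! # The triple cover of O'N: the kernel check of a part of the relators on the table -/

set_option autoImplicit false

namespace Cfsg.Agent.Lib.Lead.ON3.C3

open Cfsg.Agent.Lib.Helper6.TC

theorem chk_pow15_2_0 : tab.minOKc [0, 5, 7, 7] 1 240000 8000 = true := by decide +kernel

theorem chk_pow15_2_1 : tab.minOKc [0, 5, 7, 7] 1 248000 8000 = true := by decide +kernel

theorem chk_pow15_2_2 : tab.minOKc [0, 5, 7, 7] 1 256000 8000 = true := by decide +kernel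

theorem chk_pow15_2_3 : tab.minOKc [0, 5, 7, 7] 1 264000 8000 = true := by decide +kernel

theorem chk_pow15_2_4 : tab.minOKc [0, 5, 7, 7] 1 272000 8000 = true := by decide +kernel

theorem chk_pow15_2_5 : tab.minOKc [0, 5, 7, 7] 1 280000 8000 = true := by decide +kernel

theorem chk_pow15_2_6 : tab.minOKc [0, 5, 7, 7] 1 288000 8000 = true := by decide +kernel

theorem chk_pow15_2_7 : tab.minOKc [0, 5, 7, 7] 1 296000 8000 = true := by decide +kernel

theorem chk_pow15_2_8 : tab.minOKc [0, 5, 7, 7] 1 304000 8000 = true := by decide +kernel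

theorem chk_pow15_2_9 : tab.minOKc [0, 5, 7, 7] 1 312000 8000 = true := by decide +kernel

theorem chk_pow15_2_10 : tab.minOKc [0, 5, 7, 7] 1 320000 8000 = true := by decide +kernel

theorem chk_pow15_2_11 : tab.minOKc [0, 5, 7, 7] 1 328000 8000 = true := by decide +kernel

theorem chk_pow15_2_12 : tab.minOKc [0, 5, 7, 7] 1 336000 8000 = true := by decide +kernel

theorem chk_pow15_2_13 : tab.minOKc [0, 5, 7, 7] 1 344000 8000 = true := by decide +kernel

theorem chk_pow15_2_14 : tab.minOKc [0, 5, 7, 7] 1 352000 8000 = true := by decide +kernel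

theorem chk_pow15_2 : tab.minOKc [0, 5, 7, 7] 1 240000 120000 = true := by
  refine tab.minOKc_of_chunks [0, 5, 7, 7] 1 240000 8000 15 (by norm_num) ?_
  intro i hi
  interval_cases i
  · exact chk_pow15_2_0
  · exact chk_pow15_2_1
  · exact chk_pow15_2_2
  · exact chk_pow15_2_3
  · exact chk_pow15_2_4
  · exact chk_pow15_2_5
  · exact chk_pow15_2_6
  · exact chk_pow15_2_7
  · exact chk_pow15_2_8
  · exact chk_pow15_2_9
  · exact chk_pow15_2_10
  · exact chk_pow15_2_11
  · exact chk_pow15_2_12
  · exact chk_pow15_2_13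
  · exact chk_pow15_2_14

theorem chk_pow15_3_0 : tab.minOKc [0, 5, 7, 7] 1 360000 8000 = true := by decide +kernel

theorem chk_pow15_3_1 : tab.minOKc [0, 5, 7, 7] 1 368000 8000 = true := by decide +kernel

theorem chk_pow15_3_2 : tab.minOKc [0, 5, 7, 7] 1 376000 8000 = true := by decide +kernel

theorem chk_pow15_3_3 : tab.minOKc [0, 5, 7, 7] 1 384000 8000 = true := by decide +kernel

theorem chk_pow15_3_4 : tab.minOKc [0, 5, 7, 7] 1 392000 8000 = true := by decide +kernel

theorem chk_pow15_3_5 : tab.minOKc [0, 5, 7, 7] 1 400000 8000 = true := by decide +kernel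

theorem chk_pow15_3_6 : tab.minOKc [0, 5, 7, 7] 1 408000 8000 = true := by decide +kernel

theorem chk_pow15_3_7 : tab.minOKc [0, 5, 7, 7] 1 416000 8000 = true := by decide +kernel

theorem chk_pow15_3_8 : tab.minOKc [0, 5, 7, 7] 1 424000 8000 = true := by decide +kernel

theorem chk_pow15_3_9 : tab.minOKc [0, 5, 7, 7] 1 432000 8000 = true := by decide +kernel

theorem chk_pow15_3_10 : tab.minOKc [0, 5, 7, 7] 1 440000 8000 = true := by decide +kernel

theorem chk_pow15_3_11 : tab.minOKc [0, 5, 7, 7] 1 448000 8000 = true := by decide +kernel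

theorem chk_pow15_3_12 : tab.minOKc [0, 5, 7, 7] 1 456000 8000 = true := by decide +kernel

theorem chk_pow15_3_13 : tab.minOKc [0, 5, 7, 7] 1 464000 8000 = true := by decide +kernel

theorem chk_pow15_3_14 : tab.minOKc [0, 5, 7, 7] 1 472000 8000 = true := by decide +kernel

theorem chk_pow15_3 : tab.minOKc [0, 5, 7, 7] 1 360000 120000 = true := by
  refine tab.minOKc_of_chunks [0, 5, 7, 7] 1 360000 8000 15 (by norm_num) ?_
  intro i hi
  interval_cases i
  · exact chk_pow15_3_0
  · exact chk_pow15_3_1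
  · exact chk_pow15_3_2
  · exact chk_pow15_3_3
  · exact chk_pow15_3_4
  · exact chk_pow15_3_5
  · exact chk_pow15_3_6
  · exact chk_pow15_3_7
  · exact chk_pow15_3_8
  · exact chk_pow15_3_9
  · exact chk_pow15_3_10
  · exact chk_pow15_3_11
  · exact chk_pow15_3_12
  · exact chk_pow15_3_13
  · exact chk_pow15_3_14


end Cfsg.Agent.Lib.Lead.ON3.C3
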