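import Cfsg.Agent.Lib.Lead.ON3.C3Data
import Cfsg.Agent.Lib.Helper6.TCRel3
import Cfsg.Agent.Lib.Lead.ON3.C3Rel1

/-! # The triple cover of O'N: the kernel check of a part of the relators on the table -/

set_option autoImplicit false

namespace Cfsg.Agent.Lib.Lead.ON3.C3

open Cfsg.Agent.Lib.Helper6.TC

theorem chk_pow16_0_0 : tab.minOKc [0, 5, 3, 2, 3, 2, 3, 2, 3, 2] 1 0 3200 = true := by decide +kernel

theorem chk_pow16_0_1 : tab.minOKc [0, 5, 3, 2, 3, 2, 3, 2, 3, 2] 1 3200 3200 = true := by decide +kernel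

theorem chk_pow16_0_2 : tab.minOKc [0, 5, 3, 2, 3, 2, 3, 2, 3, 2] 1 6400 3200 = true := by decide +kernel

theorem chk_pow16_0_3 : tab.minOKc [0, 5, 3, 2, 3, 2, 3, 2, 3, 2] 1 9600 3200 = true := by decide +kernel

theorem chk_pow16_0_4 : tab.minOKc [0, 5, 3, 2, 3, 2, 3, 2, 3, 2] 1 12800 3200 = true := by decide +kernel

theorem chk_pow16_0_5 : tab.minOKc [0, 5, 3, 2, 3, 2, 3, 2, 3, 2] 1 16000 3200 = true := by decide +kernel

theorem chk_pow16_0_6 : tab.minOKc [0, 5, 3, 2, 3, 2, 3, 2, 3, 2] 1 19200 3200 = true := by decide +kernel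

theorem chk_pow16_0_7 : tab.minOKc [0, 5, 3, 2, 3, 2, 3, 2, 3, 2] 1 22400 3200 = true := by decide +kernel

theorem chk_pow16_0_8 : tab.minOKc [0, 5, 3, 2, 3, 2, 3, 2, 3, 2] 1 25600 3200 = true := by decide +kernel

theorem chk_pow16_0_9 : tab.minOKc [0, 5, 3, 2, 3, 2, 3, 2, 3, 2] 1 28800 3200 = true := by decide +kernel

theorem chk_pow16_0_10 : tab.minOKc [0, 5, 3, 2, 3, 2, 3, 2, 3, 2] 1 32000 3200 = true := by decide +kernel

theorem chk_pow16_0_11 : tab.minOKc [0, 5, 3, 2, 3, 2, 3, 2, 3, 2] 1 35200 3200 = true := by decide +kernel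

theorem chk_pow16_0_12 : tab.minOKc [0, 5, 3, 2, 3, 2, 3, 2, 3, 2] 1 38400 3200 = true := by decide +kernel

theorem chk_pow16_0_13 : tab.minOKc [0, 5, 3, 2, 3, 2, 3, 2, 3, 2] 1 41600 3200 = true := by decide +kernel

theorem chk_pow16_0_14 : tab.minOKc [0, 5, 3, 2, 3, 2, 3, 2, 3, 2] 1 44800 3200 = true := by decide +kernel

theorem chk_pow16_0 : tab.minOKc [0, 5, 3, 2, 3, 2, 3, 2, 3, 2] 1 0 48000 = true := by
  refine tab.minOKc_of_chunks [0, 5, 3, 2, 3, 2, 3, 2, 3, 2] 1 0 3200 15 (by norm_num) ?_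
  intro i hi
  interval_cases i
  · exact chk_pow16_0_0
  · exact chk_pow16_0_1
  · exact chk_pow16_0_2
  · exact chk_pow16_0_3
  · exact chk_pow16_0_4
  · exact chk_pow16_0_5
  · exact chk_pow16_0_6
  · exact chk_pow16_0_7
  · exact chk_pow16_0_8
  · exact chk_pow16_0_9
  · exact chk_pow16_0_10
  · exact chk_pow16_0_11
  · exact chk_pow16_0_12
  · exact chk_pow16_0_13
  · exact chk_pow16_0_14

theorem chk_pow16_1_0 : tab.minOKc [0, 5, 3, 2, 3, 2, 3, 2, 3, 2] 1 48000 3200 = true := by decide +kernel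

theorem chk_pow16_1_1 : tab.minOKc [0, 5, 3, 2, 3, 2, 3, 2, 3, 2] 1 51200 3200 = true := by decide +kernel

theorem chk_pow16_1_2 : tab.minOKc [0, 5, 3, 2, 3, 2, 3, 2, 3, 2] 1 54400 3200 = true := by decide +kernel

theorem chk_pow16_1_3 : tab.minOKc [0, 5, 3, 2, 3, 2, 3, 2, 3, 2] 1 57600 3200 = true := by decide +kernel

theorem chk_pow16_1_4 : tab.minOKc [0, 5, 3, 2, 3, 2, 3, 2, 3, 2] 1 60800 3200 = true := by decide +kernel

theorem chk_pow16_1_5 : tab.minOKc [0, 5, 3, 2, 3, 2, 3, 2, 3, 2] 1 64000 3200 = true := by decide +kernel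

theorem chk_pow16_1_6 : tab.minOKc [0, 5, 3, 2, 3, 2, 3, 2, 3, 2] 1 67200 3200 = true := by decide +kernel

theorem chk_pow16_1_7 : tab.minOKc [0, 5, 3, 2, 3, 2, 3, 2, 3, 2] 1 70400 3200 = true := by decide +kernel

theorem chk_pow16_1_8 : tab.minOKc [0, 5, 3, 2, 3, 2, 3, 2, 3, 2] 1 73600 3200 = true := by decide +kernel

theorem chk_pow16_1_9 : tab.minOKc [0, 5, 3, 2, 3, 2, 3, 2, 3, 2] 1 76800 3200 = true := by decide +kernel

theorem chk_pow16_1_10 : tab.minOKc [0, 5, 3, 2, 3, 2, 3, 2, 3, 2] 1 80000 3200 = true := by decide +kernel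

theorem chk_pow16_1_11 : tab.minOKc [0, 5, 3, 2, 3, 2, 3, 2, 3, 2] 1 83200 3200 = true := by decide +kernel

theorem chk_pow16_1_12 : tab.minOKc [0, 5, 3, 2, 3, 2, 3, 2, 3, 2] 1 86400 3200 = true := by decide +kernel

theorem chk_pow16_1_13 : tab.minOKc [0, 5, 3, 2, 3, 2, 3, 2, 3, 2] 1 89600 3200 = true := by decide +kernel

theorem chk_pow16_1_14 : tab.minOKc [0, 5, 3, 2, 3, 2, 3, 2, 3, 2] 1 92800 3200 = true := by decide +kernel

theorem chk_pow16_1 : tab.minOKc [0, 5, 3, 2, 3, 2, 3, 2, 3, 2] 1 48000 48000 = true := by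
  refine tab.minOKc_of_chunks [0, 5, 3, 2, 3, 2, 3, 2, 3, 2] 1 48000 3200 15 (by norm_num) ?_
  intro i hi
  interval_cases i
  · exact chk_pow16_1_0
  · exact chk_pow16_1_1
  · exact chk_pow16_1_2
  · exact chk_pow16_1_3
  · exact chk_pow16_1_4
  · exact chk_pow16_1_5
  · exact chk_pow16_1_6
  · exact chk_pow16_1_7
  · exact chk_pow16_1_8
  · exact chk_pow16_1_9
  · exact chk_pow16_1_10
  · exact chk_pow16_1_11
  · exact chk_pow16_1_12
  · exact chk_pow16_1_13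
  · exact chk_pow16_1_14


end Cfsg.Agent.Lib.Lead.ON3.C3
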