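import Cfsg.Agent.Lib.Lead.ON3.C3Data
import Cfsg.Agent.Lib.Helper6.TCRel3
import Cfsg.Agent.Lib.Lead.ON3.C3Rel3

/-! # The triple cover of O'N: the kernel check of a part of the relators on the table -/

set_option autoImplicit false

namespace Cfsg.Agent.Lib.Lead.ON3.C3

open Cfsg.Agent.Lib.Helper6.TC

theorem chk_pow16_4_0 : tab.minOKc [0, 5, 3, 2, 3, 2, 3, 2, 3, 2] 1 192000 3200 = true := by decide +kernel

theorem chk_pow16_4_1 : tab.minOKc [0, 5, 3, 2, 3, 2, 3, 2, 3, 2] 1 195200 3200 = true := by decide +kernel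

theorem chk_pow16_4_2 : tab.minOKc [0, 5, 3, 2, 3, 2, 3, 2, 3, 2] 1 198400 3200 = true := by decide +kernel

theorem chk_pow16_4_3 : tab.minOKc [0, 5, 3, 2, 3, 2, 3, 2, 3, 2] 1 201600 3200 = true := by decide +kernel

theorem chk_pow16_4_4 : tab.minOKc [0, 5, 3, 2, 3, 2, 3, 2, 3, 2] 1 204800 3200 = true := by decide +kernel

theorem chk_pow16_4_5 : tab.minOKc [0, 5, 3, 2, 3, 2, 3, 2, 3, 2] 1 208000 3200 = true := by decide +kernel

theorem chk_pow16_4_6 : tab.minOKc [0, 5, 3, 2, 3, 2, 3, 2, 3, 2] 1 211200 3200 = true := by decide +kernel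

theorem chk_pow16_4_7 : tab.minOKc [0, 5, 3, 2, 3, 2, 3, 2, 3, 2] 1 214400 3200 = true := by decide +kernel

theorem chk_pow16_4_8 : tab.minOKc [0, 5, 3, 2, 3, 2, 3, 2, 3, 2] 1 217600 3200 = true := by decide +kernel

theorem chk_pow16_4_9 : tab.minOKc [0, 5, 3, 2, 3, 2, 3, 2, 3, 2] 1 220800 3200 = true := by decide +kernel

theorem chk_pow16_4_10 : tab.minOKc [0, 5, 3, 2, 3, 2, 3, 2, 3, 2] 1 224000 3200 = true := by decide +kernel

theorem chk_pow16_4_11 : tab.minOKc [0, 5, 3, 2, 3, 2, 3, 2, 3, 2] 1 227200 3200 = true := by decide +kernel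

theorem chk_pow16_4_12 : tab.minOKc [0, 5, 3, 2, 3, 2, 3, 2, 3, 2] 1 230400 3200 = true := by decide +kernel

theorem chk_pow16_4_13 : tab.minOKc [0, 5, 3, 2, 3, 2, 3, 2, 3, 2] 1 233600 3200 = true := by decide +kernel

theorem chk_pow16_4_14 : tab.minOKc [0, 5, 3, 2, 3, 2, 3, 2, 3, 2] 1 236800 3200 = true := by decide +kernel

theorem chk_pow16_4 : tab.minOKc [0, 5, 3, 2, 3, 2, 3, 2, 3, 2] 1 192000 48000 = true := by
  refine tab.minOKc_of_chunks [0, 5, 3, 2, 3, 2, 3, 2, 3, 2] 1 192000 3200 15 (by norm_num) ?_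
  intro i hi
  interval_cases i
  · exact chk_pow16_4_0
  · exact chk_pow16_4_1
  · exact chk_pow16_4_2
  · exact chk_pow16_4_3
  · exact chk_pow16_4_4
  · exact chk_pow16_4_5
  · exact chk_pow16_4_6
  · exact chk_pow16_4_7
  · exact chk_pow16_4_8
  · exact chk_pow16_4_9
  · exact chk_pow16_4_10
  · exact chk_pow16_4_11
  · exact chk_pow16_4_12
  · exact chk_pow16_4_13
  · exact chk_pow16_4_14

theorem chk_pow16_5_0 : tab.minOKc [0, 5, 3, 2, 3, 2, 3, 2, 3, 2] 1 240000 3200 = true := by decide +kernel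

theorem chk_pow16_5_1 : tab.minOKc [0, 5, 3, 2, 3, 2, 3, 2, 3, 2] 1 243200 3200 = true := by decide +kernel

theorem chk_pow16_5_2 : tab.minOKc [0, 5, 3, 2, 3, 2, 3, 2, 3, 2] 1 246400 3200 = true := by decide +kernel

theorem chk_pow16_5_3 : tab.minOKc [0, 5, 3, 2, 3, 2, 3, 2, 3, 2] 1 249600 3200 = true := by decide +kernel

theorem chk_pow16_5_4 : tab.minOKc [0, 5, 3, 2, 3, 2, 3, 2, 3, 2] 1 252800 3200 = true := by decide +kernel

theorem chk_pow16_5_5 : tab.minOKc [0, 5, 3, 2, 3, 2, 3, 2, 3, 2] 1 256000 3200 = true := by decide +kernel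

theorem chk_pow16_5_6 : tab.minOKc [0, 5, 3, 2, 3, 2, 3, 2, 3, 2] 1 259200 3200 = true := by decide +kernel

theorem chk_pow16_5_7 : tab.minOKc [0, 5, 3, 2, 3, 2, 3, 2, 3, 2] 1 262400 3200 = true := by decide +kernel

theorem chk_pow16_5_8 : tab.minOKc [0, 5, 3, 2, 3, 2, 3, 2, 3, 2] 1 265600 3200 = true := by decide +kernel

theorem chk_pow16_5_9 : tab.minOKc [0, 5, 3, 2, 3, 2, 3, 2, 3, 2] 1 268800 3200 = true := by decide +kernel

theorem chk_pow16_5_10 : tab.minOKc [0, 5, 3, 2, 3, 2, 3, 2, 3, 2] 1 272000 3200 = true := by decide +kernel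

theorem chk_pow16_5_11 : tab.minOKc [0, 5, 3, 2, 3, 2, 3, 2, 3, 2] 1 275200 3200 = true := by decide +kernel

theorem chk_pow16_5_12 : tab.minOKc [0, 5, 3, 2, 3, 2, 3, 2, 3, 2] 1 278400 3200 = true := by decide +kernel

theorem chk_pow16_5_13 : tab.minOKc [0, 5, 3, 2, 3, 2, 3, 2, 3, 2] 1 281600 3200 = true := by decide +kernel

theorem chk_pow16_5_14 : tab.minOKc [0, 5, 3, 2, 3, 2, 3, 2, 3, 2] 1 284800 3200 = true := by decide +kernel

theorem chk_pow16_5 : tab.minOKc [0, 5, 3, 2, 3, 2, 3, 2, 3, 2] 1 240000 48000 = true := by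
  refine tab.minOKc_of_chunks [0, 5, 3, 2, 3, 2, 3, 2, 3, 2] 1 240000 3200 15 (by norm_num) ?_
  intro i hi
  interval_cases i
  · exact chk_pow16_5_0
  · exact chk_pow16_5_1
  · exact chk_pow16_5_2
  · exact chk_pow16_5_3
  · exact chk_pow16_5_4
  · exact chk_pow16_5_5
  · exact chk_pow16_5_6
  · exact chk_pow16_5_7
  · exact chk_pow16_5_8
  · exact chk_pow16_5_9
  · exact chk_pow16_5_10
  · exact chk_pow16_5_11
  · exact chk_pow16_5_12
  · exact chk_pow16_5_13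
  · exact chk_pow16_5_14


end Cfsg.Agent.Lib.Lead.ON3.C3
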