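import Cfsg.Agent.Lib.Lead.ON3.C3Data
import Cfsg.Agent.Lib.Helper6.TCRel3
import Cfsg.Agent.Lib.Lead.ON3.C3Rel4

/-! # The triple cover of O'N: the kernel check of a part of the relators on the table -/

set_option autoImplicit false

namespace Cfsg.Agent.Lib.Lead.ON3.C3

open Cfsg.Agent.Lib.Helper6.TC

theorem chk_pow16_6_0 : tab.minOKc [0, 5, 3, 2, 3, 2, 3, 2, 3, 2] 1 288000 3200 = true := by decide +kernel

theorem chk_pow16_6_1 : tab.minOKc [0, 5, 3, 2, 3, 2, 3, 2, 3, 2] 1 291200 3200 = true := by decide +kernel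

theorem chk_pow16_6_2 : tab.minOKc [0, 5, 3, 2, 3, 2, 3, 2, 3, 2] 1 294400 3200 = true := by decide +kernel

theorem chk_pow16_6_3 : tab.minOKc [0, 5, 3, 2, 3, 2, 3, 2, 3, 2] 1 297600 3200 = true := by decide +kernel

theorem chk_pow16_6_4 : tab.minOKc [0, 5, 3, 2, 3, 2, 3, 2, 3, 2] 1 300800 3200 = true := by decide +kernel

theorem chk_pow16_6_5 : tab.minOKc [0, 5, 3, 2, 3, 2, 3, 2, 3, 2] 1 304000 3200 = true := by decide +kernel

theorem chk_pow16_6_6 : tab.minOKc [0, 5, 3, 2, 3, 2, 3, 2, 3, 2] 1 307200 3200 = true := by decide +kernel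

theorem chk_pow16_6_7 : tab.minOKc [0, 5, 3, 2, 3, 2, 3, 2, 3, 2] 1 310400 3200 = true := by decide +kernel

theorem chk_pow16_6_8 : tab.minOKc [0, 5, 3, 2, 3, 2, 3, 2, 3, 2] 1 313600 3200 = true := by decide +kernel

theorem chk_pow16_6_9 : tab.minOKc [0, 5, 3, 2, 3, 2, 3, 2, 3, 2] 1 316800 3200 = true := by decide +kernel

theorem chk_pow16_6_10 : tab.minOKc [0, 5, 3, 2, 3, 2, 3, 2, 3, 2] 1 320000 3200 = true := by decide +kernel

theorem chk_pow16_6_11 : tab.minOKc [0, 5, 3, 2, 3, 2, 3, 2, 3, 2] 1 323200 3200 = true := by decide +kernel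

theorem chk_pow16_6_12 : tab.minOKc [0, 5, 3, 2, 3, 2, 3, 2, 3, 2] 1 326400 3200 = true := by decide +kernel

theorem chk_pow16_6_13 : tab.minOKc [0, 5, 3, 2, 3, 2, 3, 2, 3, 2] 1 329600 3200 = true := by decide +kernel

theorem chk_pow16_6_14 : tab.minOKc [0, 5, 3, 2, 3, 2, 3, 2, 3, 2] 1 332800 3200 = true := by decide +kernel

theorem chk_pow16_6 : tab.minOKc [0, 5, 3, 2, 3, 2, 3, 2, 3, 2] 1 288000 48000 = true := by
  refine tab.minOKc_of_chunks [0, 5, 3, 2, 3, 2, 3, 2, 3, 2] 1 288000 3200 15 (by norm_num) ?_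
  intro i hi
  interval_cases i
  · exact chk_pow16_6_0
  · exact chk_pow16_6_1
  · exact chk_pow16_6_2
  · exact chk_pow16_6_3
  · exact chk_pow16_6_4
  · exact chk_pow16_6_5
  · exact chk_pow16_6_6
  · exact chk_pow16_6_7
  · exact chk_pow16_6_8
  · exact chk_pow16_6_9
  · exact chk_pow16_6_10
  · exact chk_pow16_6_11
  · exact chk_pow16_6_12
  · exact chk_pow16_6_13
  · exact chk_pow16_6_14

theorem chk_pow16_7_0 : tab.minOKc [0, 5, 3, 2, 3, 2, 3, 2, 3, 2] 1 336000 3200 = true := by decide +kernel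

theorem chk_pow16_7_1 : tab.minOKc [0, 5, 3, 2, 3, 2, 3, 2, 3, 2] 1 339200 3200 = true := by decide +kernel

theorem chk_pow16_7_2 : tab.minOKc [0, 5, 3, 2, 3, 2, 3, 2, 3, 2] 1 342400 3200 = true := by decide +kernel

theorem chk_pow16_7_3 : tab.minOKc [0, 5, 3, 2, 3, 2, 3, 2, 3, 2] 1 345600 3200 = true := by decide +kernel

theorem chk_pow16_7_4 : tab.minOKc [0, 5, 3, 2, 3, 2, 3, 2, 3, 2] 1 348800 3200 = true := by decide +kernel

theorem chk_pow16_7_5 : tab.minOKc [0, 5, 3, 2, 3, 2, 3, 2, 3, 2] 1 352000 3200 = true := by decide +kernel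

theorem chk_pow16_7_6 : tab.minOKc [0, 5, 3, 2, 3, 2, 3, 2, 3, 2] 1 355200 3200 = true := by decide +kernel

theorem chk_pow16_7_7 : tab.minOKc [0, 5, 3, 2, 3, 2, 3, 2, 3, 2] 1 358400 3200 = true := by decide +kernel

theorem chk_pow16_7_8 : tab.minOKc [0, 5, 3, 2, 3, 2, 3, 2, 3, 2] 1 361600 3200 = true := by decide +kernel

theorem chk_pow16_7_9 : tab.minOKc [0, 5, 3, 2, 3, 2, 3, 2, 3, 2] 1 364800 3200 = true := by decide +kernel

theorem chk_pow16_7_10 : tab.minOKc [0, 5, 3, 2, 3, 2, 3, 2, 3, 2] 1 368000 3200 = true := by decide +kernel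

theorem chk_pow16_7_11 : tab.minOKc [0, 5, 3, 2, 3, 2, 3, 2, 3, 2] 1 371200 3200 = true := by decide +kernel

theorem chk_pow16_7_12 : tab.minOKc [0, 5, 3, 2, 3, 2, 3, 2, 3, 2] 1 374400 3200 = true := by decide +kernel

theorem chk_pow16_7_13 : tab.minOKc [0, 5, 3, 2, 3, 2, 3, 2, 3, 2] 1 377600 3200 = true := by decide +kernel

theorem chk_pow16_7_14 : tab.minOKc [0, 5, 3, 2, 3, 2, 3, 2, 3, 2] 1 380800 3200 = true := by decide +kernel

theorem chk_pow16_7 : tab.minOKc [0, 5, 3, 2, 3, 2, 3, 2, 3, 2] 1 336000 48000 = true := by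
  refine tab.minOKc_of_chunks [0, 5, 3, 2, 3, 2, 3, 2, 3, 2] 1 336000 3200 15 (by norm_num) ?_
  intro i hi
  interval_cases i
  · exact chk_pow16_7_0
  · exact chk_pow16_7_1
  · exact chk_pow16_7_2
  · exact chk_pow16_7_3
  · exact chk_pow16_7_4
  · exact chk_pow16_7_5
  · exact chk_pow16_7_6
  · exact chk_pow16_7_7
  · exact chk_pow16_7_8
  · exact chk_pow16_7_9
  · exact chk_pow16_7_10
  · exact chk_pow16_7_11
  · exact chk_pow16_7_12
  · exact chk_pow16_7_13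
  · exact chk_pow16_7_14


end Cfsg.Agent.Lib.Lead.ON3.C3
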