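import Cfsg.Agent.Lib.Lead.ON3.C3Data
import Cfsg.Agent.Lib.Helper6.TCRel3

/-! # The triple cover of O'N: the kernel check of a part of the relators on the table -/

set_option autoImplicit false

namespace Cfsg.Agent.Lib.Lead.ON3.C3

open Cfsg.Agent.Lib.Helper6.TC

theorem chk_pow5_0_0 : tab.minOKc [2, 3] 8 0 16000 = true := by decide +kernel

theorem chk_pow5_0_1 : tab.minOKc [2, 3] 8 16000 16000 = true := by decide +kernel

theorem chk_pow5_0_2 : tab.minOKc [2, 3] 8 32000 16000 = true := by decide +kernel

theorem chk_pow5_0_3 : tab.minOKc [2, 3] 8 48000 16000 = true := by decide +kernel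

theorem chk_pow5_0_4 : tab.minOKc [2, 3] 8 64000 16000 = true := by decide +kernel

theorem chk_pow5_0_5 : tab.minOKc [2, 3] 8 80000 16000 = true := by decide +kernel

theorem chk_pow5_0_6 : tab.minOKc [2, 3] 8 96000 16000 = true := by decide +kernel

theorem chk_pow5_0_7 : tab.minOKc [2, 3] 8 112000 16000 = true := by decide +kernel

theorem chk_pow5_0_8 : tab.minOKc [2, 3] 8 128000 16000 = true := by decide +kernel

theorem chk_pow5_0_9 : tab.minOKc [2, 3] 8 144000 16000 = true := by decide +kernel

theorem chk_pow5_0_10 : tab.minOKc [2, 3] 8 160000 16000 = true := by decide +kernel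

theorem chk_pow5_0_11 : tab.minOKc [2, 3] 8 176000 16000 = true := by decide +kernel

theorem chk_pow5_0_12 : tab.minOKc [2, 3] 8 192000 16000 = true := by decide +kernel

theorem chk_pow5_0_13 : tab.minOKc [2, 3] 8 208000 16000 = true := by decide +kernel

theorem chk_pow5_0_14 : tab.minOKc [2, 3] 8 224000 16000 = true := by decide +kernel

theorem chk_pow5_0 : tab.minOKc [2, 3] 8 0 240000 = true := by
  refine tab.minOKc_of_chunks [2, 3] 8 0 16000 15 (by norm_num) ?_
  intro i hi
  interval_cases i
  · exact chk_pow5_0_0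
  · exact chk_pow5_0_1
  · exact chk_pow5_0_2
  · exact chk_pow5_0_3
  · exact chk_pow5_0_4
  · exact chk_pow5_0_5
  · exact chk_pow5_0_6
  · exact chk_pow5_0_7
  · exact chk_pow5_0_8
  · exact chk_pow5_0_9
  · exact chk_pow5_0_10
  · exact chk_pow5_0_11
  · exact chk_pow5_0_12
  · exact chk_pow5_0_13
  · exact chk_pow5_0_14

theorem chk_pow5_1_0 : tab.minOKc [2, 3] 8 240000 16000 = true := by decide +kernel

theorem chk_pow5_1_1 : tab.minOKc [2, 3] 8 256000 16000 = true := by decide +kernel

theorem chk_pow5_1_2 : tab.minOKc [2, 3] 8 272000 16000 = true := by decide +kernel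

theorem chk_pow5_1_3 : tab.minOKc [2, 3] 8 288000 16000 = true := by decide +kernel

theorem chk_pow5_1_4 : tab.minOKc [2, 3] 8 304000 16000 = true := by decide +kernel

theorem chk_pow5_1_5 : tab.minOKc [2, 3] 8 320000 16000 = true := by decide +kernel

theorem chk_pow5_1_6 : tab.minOKc [2, 3] 8 336000 16000 = true := by decide +kernel

theorem chk_pow5_1_7 : tab.minOKc [2, 3] 8 352000 16000 = true := by decide +kernel

theorem chk_pow5_1_8 : tab.minOKc [2, 3] 8 368000 16000 = true := by decide +kernel

theorem chk_pow5_1_9 : tab.minOKc [2, 3] 8 384000 16000 = true := by decide +kernel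

theorem chk_pow5_1_10 : tab.minOKc [2, 3] 8 400000 16000 = true := by decide +kernel

theorem chk_pow5_1_11 : tab.minOKc [2, 3] 8 416000 16000 = true := by decide +kernel

theorem chk_pow5_1_12 : tab.minOKc [2, 3] 8 432000 16000 = true := by decide +kernel

theorem chk_pow5_1_13 : tab.minOKc [2, 3] 8 448000 16000 = true := by decide +kernel

theorem chk_pow5_1_14 : tab.minOKc [2, 3] 8 464000 16000 = true := by decide +kernel

theorem chk_pow5_1 : tab.minOKc [2, 3] 8 240000 240000 = true := by
  refine tab.minOKc_of_chunks [2, 3] 8 240000 16000 15 (by norm_num) ?_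
  intro i hi
  interval_cases i
  · exact chk_pow5_1_0
  · exact chk_pow5_1_1
  · exact chk_pow5_1_2
  · exact chk_pow5_1_3
  · exact chk_pow5_1_4
  · exact chk_pow5_1_5
  · exact chk_pow5_1_6
  · exact chk_pow5_1_7
  · exact chk_pow5_1_8
  · exact chk_pow5_1_9
  · exact chk_pow5_1_10
  · exact chk_pow5_1_11
  · exact chk_pow5_1_12
  · exact chk_pow5_1_13
  · exact chk_pow5_1_14


end Cfsg.Agent.Lib.Lead.ON3.C3
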