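import Cfsg.Agent.Lib.Lead.ON3.C3Data
import Cfsg.Agent.Lib.Helper6.TCRel3

/-! # The triple cover of O'N: the kernel check of a part of the relators on the table -/

set_option autoImplicit false

namespace Cfsg.Agent.Lib.Lead.ON3.C3

open Cfsg.Agent.Lib.Helper6.TC

theorem chk_pow9_0_0 : tab.minOKc [3, 4] 3 0 16000 = true := by decide +kernel

theorem chk_pow9_0_1 : tab.minOKc [3, 4] 3 16000 16000 = true := by decide +kernel

theorem chk_pow9_0_2 : tab.minOKc [3, 4] 3 32000 16000 = true := by decide +kernel

theorem chk_pow9_0_3 : tab.minOKc [3, 4] 3 48000 16000 = true := by decide +kernel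

theorem chk_pow9_0_4 : tab.minOKc [3, 4] 3 64000 16000 = true := by decide +kernel

theorem chk_pow9_0_5 : tab.minOKc [3, 4] 3 80000 16000 = true := by decide +kernel

theorem chk_pow9_0_6 : tab.minOKc [3, 4] 3 96000 16000 = true := by decide +kernel

theorem chk_pow9_0_7 : tab.minOKc [3, 4] 3 112000 16000 = true := by decide +kernel

theorem chk_pow9_0_8 : tab.minOKc [3, 4] 3 128000 16000 = true := by decide +kernel

theorem chk_pow9_0_9 : tab.minOKc [3, 4] 3 144000 16000 = true := by decide +kernel

theorem chk_pow9_0_10 : tab.minOKc [3, 4] 3 160000 16000 = true := by decide +kernel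

theorem chk_pow9_0_11 : tab.minOKc [3, 4] 3 176000 16000 = true := by decide +kernel

theorem chk_pow9_0_12 : tab.minOKc [3, 4] 3 192000 16000 = true := by decide +kernel

theorem chk_pow9_0_13 : tab.minOKc [3, 4] 3 208000 16000 = true := by decide +kernel

theorem chk_pow9_0_14 : tab.minOKc [3, 4] 3 224000 16000 = true := by decide +kernel

theorem chk_pow9_0 : tab.minOKc [3, 4] 3 0 240000 = true := by
  refine tab.minOKc_of_chunks [3, 4] 3 0 16000 15 (by norm_num) ?_
  intro i hi
  interval_cases i
  · exact chk_pow9_0_0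
  · exact chk_pow9_0_1
  · exact chk_pow9_0_2
  · exact chk_pow9_0_3
  · exact chk_pow9_0_4
  · exact chk_pow9_0_5
  · exact chk_pow9_0_6
  · exact chk_pow9_0_7
  · exact chk_pow9_0_8
  · exact chk_pow9_0_9
  · exact chk_pow9_0_10
  · exact chk_pow9_0_11
  · exact chk_pow9_0_12
  · exact chk_pow9_0_13
  · exact chk_pow9_0_14

theorem chk_pow9_1_0 : tab.minOKc [3, 4] 3 240000 16000 = true := by decide +kernel

theorem chk_pow9_1_1 : tab.minOKc [3, 4] 3 256000 16000 = true := by decide +kernel

theorem chk_pow9_1_2 : tab.minOKc [3, 4] 3 272000 16000 = true := by decide +kernel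

theorem chk_pow9_1_3 : tab.minOKc [3, 4] 3 288000 16000 = true := by decide +kernel

theorem chk_pow9_1_4 : tab.minOKc [3, 4] 3 304000 16000 = true := by decide +kernel

theorem chk_pow9_1_5 : tab.minOKc [3, 4] 3 320000 16000 = true := by decide +kernel

theorem chk_pow9_1_6 : tab.minOKc [3, 4] 3 336000 16000 = true := by decide +kernel

theorem chk_pow9_1_7 : tab.minOKc [3, 4] 3 352000 16000 = true := by decide +kernel

theorem chk_pow9_1_8 : tab.minOKc [3, 4] 3 368000 16000 = true := by decide +kernel

theorem chk_pow9_1_9 : tab.minOKc [3, 4] 3 384000 16000 = true := by decide +kernel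

theorem chk_pow9_1_10 : tab.minOKc [3, 4] 3 400000 16000 = true := by decide +kernel

theorem chk_pow9_1_11 : tab.minOKc [3, 4] 3 416000 16000 = true := by decide +kernel

theorem chk_pow9_1_12 : tab.minOKc [3, 4] 3 432000 16000 = true := by decide +kernel

theorem chk_pow9_1_13 : tab.minOKc [3, 4] 3 448000 16000 = true := by decide +kernel

theorem chk_pow9_1_14 : tab.minOKc [3, 4] 3 464000 16000 = true := by decide +kernel

theorem chk_pow9_1 : tab.minOKc [3, 4] 3 240000 240000 = true := by
  refine tab.minOKc_of_chunks [3, 4] 3 240000 16000 15 (by norm_num) ?_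
  intro i hi
  interval_cases i
  · exact chk_pow9_1_0
  · exact chk_pow9_1_1
  · exact chk_pow9_1_2
  · exact chk_pow9_1_3
  · exact chk_pow9_1_4
  · exact chk_pow9_1_5
  · exact chk_pow9_1_6
  · exact chk_pow9_1_7
  · exact chk_pow9_1_8
  · exact chk_pow9_1_9
  · exact chk_pow9_1_10
  · exact chk_pow9_1_11
  · exact chk_pow9_1_12
  · exact chk_pow9_1_13
  · exact chk_pow9_1_14


end Cfsg.Agent.Lib.Lead.ON3.C3
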