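import Cfsg.Agent.Lib.Lead.ON3.C3Data
import Cfsg.Agent.Lib.Helper6.TCRel3
import Cfsg.Agent.Lib.Lead.ON3.C3Rel10

/-! # The triple cover of O'N: the kernel check of a part of the relators on the table -/

set_option autoImplicit false

namespace Cfsg.Agent.Lib.Lead.ON3.C3

open Cfsg.Agent.Lib.Helper6.TC

theorem chk_pow18_2_0 : tab.minOKc [3, 7, 2, 7, 2, 3, 2, 6, 2, 6] 1 96000 3200 = true := by decide +kernel

theorem chk_pow18_2_1 : tab.minOKc [3, 7, 2, 7, 2, 3, 2, 6, 2, 6] 1 99200 3200 = true := by decide +kernel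

theorem chk_pow18_2_2 : tab.minOKc [3, 7, 2, 7, 2, 3, 2, 6, 2, 6] 1 102400 3200 = true := by decide +kernel

theorem chk_pow18_2_3 : tab.minOKc [3, 7, 2, 7, 2, 3, 2, 6, 2, 6] 1 105600 3200 = true := by decide +kernel

theorem chk_pow18_2_4 : tab.minOKc [3, 7, 2, 7, 2, 3, 2, 6, 2, 6] 1 108800 3200 = true := by decide +kernel

theorem chk_pow18_2_5 : tab.minOKc [3, 7, 2, 7, 2, 3, 2, 6, 2, 6] 1 112000 3200 = true := by decide +kernel

theorem chk_pow18_2_6 : tab.minOKc [3, 7, 2, 7, 2, 3, 2, 6, 2, 6] 1 115200 3200 = true := by decide +kernel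

theorem chk_pow18_2_7 : tab.minOKc [3, 7, 2, 7, 2, 3, 2, 6, 2, 6] 1 118400 3200 = true := by decide +kernel

theorem chk_pow18_2_8 : tab.minOKc [3, 7, 2, 7, 2, 3, 2, 6, 2, 6] 1 121600 3200 = true := by decide +kernel

theorem chk_pow18_2_9 : tab.minOKc [3, 7, 2, 7, 2, 3, 2, 6, 2, 6] 1 124800 3200 = true := by decide +kernel

theorem chk_pow18_2_10 : tab.minOKc [3, 7, 2, 7, 2, 3, 2, 6, 2, 6] 1 128000 3200 = true := by decide +kernel

theorem chk_pow18_2_11 : tab.minOKc [3, 7, 2, 7, 2, 3, 2, 6, 2, 6] 1 131200 3200 = true := by decide +kernel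

theorem chk_pow18_2_12 : tab.minOKc [3, 7, 2, 7, 2, 3, 2, 6, 2, 6] 1 134400 3200 = true := by decide +kernel

theorem chk_pow18_2_13 : tab.minOKc [3, 7, 2, 7, 2, 3, 2, 6, 2, 6] 1 137600 3200 = true := by decide +kernel

theorem chk_pow18_2_14 : tab.minOKc [3, 7, 2, 7, 2, 3, 2, 6, 2, 6] 1 140800 3200 = true := by decide +kernel

theorem chk_pow18_2 : tab.minOKc [3, 7, 2, 7, 2, 3, 2, 6, 2, 6] 1 96000 48000 = true := by
  refine tab.minOKc_of_chunks [3, 7, 2, 7, 2, 3, 2, 6, 2, 6] 1 96000 3200 15 (by norm_num) ?_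
  intro i hi
  interval_cases i
  · exact chk_pow18_2_0
  · exact chk_pow18_2_1
  · exact chk_pow18_2_2
  · exact chk_pow18_2_3
  · exact chk_pow18_2_4
  · exact chk_pow18_2_5
  · exact chk_pow18_2_6
  · exact chk_pow18_2_7
  · exact chk_pow18_2_8
  · exact chk_pow18_2_9
  · exact chk_pow18_2_10
  · exact chk_pow18_2_11
  · exact chk_pow18_2_12
  · exact chk_pow18_2_13
  · exact chk_pow18_2_14

theorem chk_pow18_3_0 : tab.minOKc [3, 7, 2, 7, 2, 3, 2, 6, 2, 6] 1 144000 3200 = true := by decide +kernel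

theorem chk_pow18_3_1 : tab.minOKc [3, 7, 2, 7, 2, 3, 2, 6, 2, 6] 1 147200 3200 = true := by decide +kernel

theorem chk_pow18_3_2 : tab.minOKc [3, 7, 2, 7, 2, 3, 2, 6, 2, 6] 1 150400 3200 = true := by decide +kernel

theorem chk_pow18_3_3 : tab.minOKc [3, 7, 2, 7, 2, 3, 2, 6, 2, 6] 1 153600 3200 = true := by decide +kernel

theorem chk_pow18_3_4 : tab.minOKc [3, 7, 2, 7, 2, 3, 2, 6, 2, 6] 1 156800 3200 = true := by decide +kernel

theorem chk_pow18_3_5 : tab.minOKc [3, 7, 2, 7, 2, 3, 2, 6, 2, 6] 1 160000 3200 = true := by decide +kernel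

theorem chk_pow18_3_6 : tab.minOKc [3, 7, 2, 7, 2, 3, 2, 6, 2, 6] 1 163200 3200 = true := by decide +kernel

theorem chk_pow18_3_7 : tab.minOKc [3, 7, 2, 7, 2, 3, 2, 6, 2, 6] 1 166400 3200 = true := by decide +kernel

theorem chk_pow18_3_8 : tab.minOKc [3, 7, 2, 7, 2, 3, 2, 6, 2, 6] 1 169600 3200 = true := by decide +kernel

theorem chk_pow18_3_9 : tab.minOKc [3, 7, 2, 7, 2, 3, 2, 6, 2, 6] 1 172800 3200 = true := by decide +kernel

theorem chk_pow18_3_10 : tab.minOKc [3, 7, 2, 7, 2, 3, 2, 6, 2, 6] 1 176000 3200 = true := by decide +kernel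

theorem chk_pow18_3_11 : tab.minOKc [3, 7, 2, 7, 2, 3, 2, 6, 2, 6] 1 179200 3200 = true := by decide +kernel

theorem chk_pow18_3_12 : tab.minOKc [3, 7, 2, 7, 2, 3, 2, 6, 2, 6] 1 182400 3200 = true := by decide +kernel

theorem chk_pow18_3_13 : tab.minOKc [3, 7, 2, 7, 2, 3, 2, 6, 2, 6] 1 185600 3200 = true := by decide +kernel

theorem chk_pow18_3_14 : tab.minOKc [3, 7, 2, 7, 2, 3, 2, 6, 2, 6] 1 188800 3200 = true := by decide +kernel

theorem chk_pow18_3 : tab.minOKc [3, 7, 2, 7, 2, 3, 2, 6, 2, 6] 1 144000 48000 = true := by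
  refine tab.minOKc_of_chunks [3, 7, 2, 7, 2, 3, 2, 6, 2, 6] 1 144000 3200 15 (by norm_num) ?_
  intro i hi
  interval_cases i
  · exact chk_pow18_3_0
  · exact chk_pow18_3_1
  · exact chk_pow18_3_2
  · exact chk_pow18_3_3
  · exact chk_pow18_3_4
  · exact chk_pow18_3_5
  · exact chk_pow18_3_6
  · exact chk_pow18_3_7
  · exact chk_pow18_3_8
  · exact chk_pow18_3_9
  · exact chk_pow18_3_10
  · exact chk_pow18_3_11
  · exact chk_pow18_3_12
  · exact chk_pow18_3_13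
  · exact chk_pow18_3_14


end Cfsg.Agent.Lib.Lead.ON3.C3
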