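import Cfsg.Agent.Lib.Lead.ON3.C3Data
import Cfsg.Agent.Lib.Helper6.TCRel3
import Cfsg.Agent.Lib.Lead.ON3.C3Rel13

/-! # The triple cover of O'N: the kernel check of a part of the relators on the table -/

set_option autoImplicit false

namespace Cfsg.Agent.Lib.Lead.ON3.C3

open Cfsg.Agent.Lib.Helper6.TC

theorem chk_pow19_0_0 : tab.minOKc [1, 2, 3, 6, 1, 2, 3, 6, 1, 2, 3, 6, 1, 2, 3, 6, 1, 2, 3, 6, 9] 1 0 1523 = true := by decide +kernel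

theorem chk_pow19_0_1 : tab.minOKc [1, 2, 3, 6, 1, 2, 3, 6, 1, 2, 3, 6, 1, 2, 3, 6, 1, 2, 3, 6, 9] 1 1523 1523 = true := by decide +kernel

theorem chk_pow19_0_2 : tab.minOKc [1, 2, 3, 6, 1, 2, 3, 6, 1, 2, 3, 6, 1, 2, 3, 6, 1, 2, 3, 6, 9] 1 3046 1523 = true := by decide +kernel

theorem chk_pow19_0_3 : tab.minOKc [1, 2, 3, 6, 1, 2, 3, 6, 1, 2, 3, 6, 1, 2, 3, 6, 1, 2, 3, 6, 9] 1 4569 1523 = true := by decide +kernel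

theorem chk_pow19_0_4 : tab.minOKc [1, 2, 3, 6, 1, 2, 3, 6, 1, 2, 3, 6, 1, 2, 3, 6, 1, 2, 3, 6, 9] 1 6092 1523 = true := by decide +kernel

theorem chk_pow19_0_5 : tab.minOKc [1, 2, 3, 6, 1, 2, 3, 6, 1, 2, 3, 6, 1, 2, 3, 6, 1, 2, 3, 6, 9] 1 7615 1523 = true := by decide +kernel

theorem chk_pow19_0_6 : tab.minOKc [1, 2, 3, 6, 1, 2, 3, 6, 1, 2, 3, 6, 1, 2, 3, 6, 1, 2, 3, 6, 9] 1 9138 1523 = true := by decide +kernel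

theorem chk_pow19_0_7 : tab.minOKc [1, 2, 3, 6, 1, 2, 3, 6, 1, 2, 3, 6, 1, 2, 3, 6, 1, 2, 3, 6, 9] 1 10661 1523 = true := by decide +kernel

theorem chk_pow19_0_8 : tab.minOKc [1, 2, 3, 6, 1, 2, 3, 6, 1, 2, 3, 6, 1, 2, 3, 6, 1, 2, 3, 6, 9] 1 12184 1523 = true := by decide +kernel

theorem chk_pow19_0_9 : tab.minOKc [1, 2, 3, 6, 1, 2, 3, 6, 1, 2, 3, 6, 1, 2, 3, 6, 1, 2, 3, 6, 9] 1 13707 1523 = true := by decide +kernel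

theorem chk_pow19_0_10 : tab.minOKc [1, 2, 3, 6, 1, 2, 3, 6, 1, 2, 3, 6, 1, 2, 3, 6, 1, 2, 3, 6, 9] 1 15230 1523 = true := by decide +kernel

theorem chk_pow19_0_11 : tab.minOKc [1, 2, 3, 6, 1, 2, 3, 6, 1, 2, 3, 6, 1, 2, 3, 6, 1, 2, 3, 6, 9] 1 16753 1523 = true := by decide +kernel

theorem chk_pow19_0_12 : tab.minOKc [1, 2, 3, 6, 1, 2, 3, 6, 1, 2, 3, 6, 1, 2, 3, 6, 1, 2, 3, 6, 9] 1 18276 1523 = true := by decide +kernel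

theorem chk_pow19_0_13 : tab.minOKc [1, 2, 3, 6, 1, 2, 3, 6, 1, 2, 3, 6, 1, 2, 3, 6, 1, 2, 3, 6, 9] 1 19799 1523 = true := by decide +kernel

theorem chk_pow19_0_14 : tab.minOKc [1, 2, 3, 6, 1, 2, 3, 6, 1, 2, 3, 6, 1, 2, 3, 6, 1, 2, 3, 6, 9] 1 21322 1523 = true := by decide +kernel

theorem chk_pow19_0 : tab.minOKc [1, 2, 3, 6, 1, 2, 3, 6, 1, 2, 3, 6, 1, 2, 3, 6, 1, 2, 3, 6, 9] 1 0 22845 = true := by
  refine tab.minOKc_of_chunks [1, 2, 3, 6, 1, 2, 3, 6, 1, 2, 3, 6, 1, 2, 3, 6, 1, 2, 3, 6, 9] 1 0 1523 15 (by norm_num) ?_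
  intro i hi
  interval_cases i
  · exact chk_pow19_0_0
  · exact chk_pow19_0_1
  · exact chk_pow19_0_2
  · exact chk_pow19_0_3
  · exact chk_pow19_0_4
  · exact chk_pow19_0_5
  · exact chk_pow19_0_6
  · exact chk_pow19_0_7
  · exact chk_pow19_0_8
  · exact chk_pow19_0_9
  · exact chk_pow19_0_10
  · exact chk_pow19_0_11
  · exact chk_pow19_0_12
  · exact chk_pow19_0_13
  · exact chk_pow19_0_14

theorem chk_pow19_1_0 : tab.minOKc [1, 2, 3, 6, 1, 2, 3, 6, 1, 2, 3, 6, 1, 2, 3, 6, 1, 2, 3, 6, 9] 1 22845 1523 = true := by decide +kernel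

theorem chk_pow19_1_1 : tab.minOKc [1, 2, 3, 6, 1, 2, 3, 6, 1, 2, 3, 6, 1, 2, 3, 6, 1, 2, 3, 6, 9] 1 24368 1523 = true := by decide +kernel

theorem chk_pow19_1_2 : tab.minOKc [1, 2, 3, 6, 1, 2, 3, 6, 1, 2, 3, 6, 1, 2, 3, 6, 1, 2, 3, 6, 9] 1 25891 1523 = true := by decide +kernel

theorem chk_pow19_1_3 : tab.minOKc [1, 2, 3, 6, 1, 2, 3, 6, 1, 2, 3, 6, 1, 2, 3, 6, 1, 2, 3, 6, 9] 1 27414 1523 = true := by decide +kernel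

theorem chk_pow19_1_4 : tab.minOKc [1, 2, 3, 6, 1, 2, 3, 6, 1, 2, 3, 6, 1, 2, 3, 6, 1, 2, 3, 6, 9] 1 28937 1523 = true := by decide +kernel

theorem chk_pow19_1_5 : tab.minOKc [1, 2, 3, 6, 1, 2, 3, 6, 1, 2, 3, 6, 1, 2, 3, 6, 1, 2, 3, 6, 9] 1 30460 1523 = true := by decide +kernel

theorem chk_pow19_1_6 : tab.minOKc [1, 2, 3, 6, 1, 2, 3, 6, 1, 2, 3, 6, 1, 2, 3, 6, 1, 2, 3, 6, 9] 1 31983 1523 = true := by decide +kernel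

theorem chk_pow19_1_7 : tab.minOKc [1, 2, 3, 6, 1, 2, 3, 6, 1, 2, 3, 6, 1, 2, 3, 6, 1, 2, 3, 6, 9] 1 33506 1523 = true := by decide +kernel

theorem chk_pow19_1_8 : tab.minOKc [1, 2, 3, 6, 1, 2, 3, 6, 1, 2, 3, 6, 1, 2, 3, 6, 1, 2, 3, 6, 9] 1 35029 1523 = true := by decide +kernel

theorem chk_pow19_1_9 : tab.minOKc [1, 2, 3, 6, 1, 2, 3, 6, 1, 2, 3, 6, 1, 2, 3, 6, 1, 2, 3, 6, 9] 1 36552 1523 = true := by decide +kernel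

theorem chk_pow19_1_10 : tab.minOKc [1, 2, 3, 6, 1, 2, 3, 6, 1, 2, 3, 6, 1, 2, 3, 6, 1, 2, 3, 6, 9] 1 38075 1523 = true := by decide +kernel

theorem chk_pow19_1_11 : tab.minOKc [1, 2, 3, 6, 1, 2, 3, 6, 1, 2, 3, 6, 1, 2, 3, 6, 1, 2, 3, 6, 9] 1 39598 1523 = true := by decide +kernel

theorem chk_pow19_1_12 : tab.minOKc [1, 2, 3, 6, 1, 2, 3, 6, 1, 2, 3, 6, 1, 2, 3, 6, 1, 2, 3, 6, 9] 1 41121 1523 = true := by decide +kernel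

theorem chk_pow19_1_13 : tab.minOKc [1, 2, 3, 6, 1, 2, 3, 6, 1, 2, 3, 6, 1, 2, 3, 6, 1, 2, 3, 6, 9] 1 42644 1523 = true := by decide +kernel

theorem chk_pow19_1_14 : tab.minOKc [1, 2, 3, 6, 1, 2, 3, 6, 1, 2, 3, 6, 1, 2, 3, 6, 1, 2, 3, 6, 9] 1 44167 1523 = true := by decide +kernel

theorem chk_pow19_1 : tab.minOKc [1, 2, 3, 6, 1, 2, 3, 6, 1, 2, 3, 6, 1, 2, 3, 6, 1, 2, 3, 6, 9] 1 22845 22845 = true := by
  refine tab.minOKc_of_chunks [1, 2, 3, 6, 1, 2, 3, 6, 1, 2, 3, 6, 1, 2, 3, 6, 1, 2, 3, 6, 9] 1 22845 1523 15 (by norm_num) ?_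
  intro i hi
  interval_cases i
  · exact chk_pow19_1_0
  · exact chk_pow19_1_1
  · exact chk_pow19_1_2
  · exact chk_pow19_1_3
  · exact chk_pow19_1_4
  · exact chk_pow19_1_5
  · exact chk_pow19_1_6
  · exact chk_pow19_1_7
  · exact chk_pow19_1_8
  · exact chk_pow19_1_9
  · exact chk_pow19_1_10
  · exact chk_pow19_1_11
  · exact chk_pow19_1_12
  · exact chk_pow19_1_13
  · exact chk_pow19_1_14


end Cfsg.Agent.Lib.Lead.ON3.C3
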