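import Cfsg.Agent.Lib.Lead.ON3.C3Data
import Cfsg.Agent.Lib.Helper6.TCRel3
import Cfsg.Agent.Lib.Lead.ON3.C3Rel14

/-! # The triple cover of O'N: the kernel check of a part of the relators on the table -/

set_option autoImplicit false

namespace Cfsg.Agent.Lib.Lead.ON3.C3

open Cfsg.Agent.Lib.Helper6.TC

theorem chk_pow19_2_0 : tab.minOKc [1, 2, 3, 6, 1, 2, 3, 6, 1, 2, 3, 6, 1, 2, 3, 6, 1, 2, 3, 6, 9] 1 45690 1523 = true := by decide +kernel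

theorem chk_pow19_2_1 : tab.minOKc [1, 2, 3, 6, 1, 2, 3, 6, 1, 2, 3, 6, 1, 2, 3, 6, 1, 2, 3, 6, 9] 1 47213 1523 = true := by decide +kernel

theorem chk_pow19_2_2 : tab.minOKc [1, 2, 3, 6, 1, 2, 3, 6, 1, 2, 3, 6, 1, 2, 3, 6, 1, 2, 3, 6, 9] 1 48736 1523 = true := by decide +kernel

theorem chk_pow19_2_3 : tab.minOKc [1, 2, 3, 6, 1, 2, 3, 6, 1, 2, 3, 6, 1, 2, 3, 6, 1, 2, 3, 6, 9] 1 50259 1523 = true := by decide +kernel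

theorem chk_pow19_2_4 : tab.minOKc [1, 2, 3, 6, 1, 2, 3, 6, 1, 2, 3, 6, 1, 2, 3, 6, 1, 2, 3, 6, 9] 1 51782 1523 = true := by decide +kernel

theorem chk_pow19_2_5 : tab.minOKc [1, 2, 3, 6, 1, 2, 3, 6, 1, 2, 3, 6, 1, 2, 3, 6, 1, 2, 3, 6, 9] 1 53305 1523 = true := by decide +kernel

theorem chk_pow19_2_6 : tab.minOKc [1, 2, 3, 6, 1, 2, 3, 6, 1, 2, 3, 6, 1, 2, 3, 6, 1, 2, 3, 6, 9] 1 54828 1523 = true := by decide +kernel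

theorem chk_pow19_2_7 : tab.minOKc [1, 2, 3, 6, 1, 2, 3, 6, 1, 2, 3, 6, 1, 2, 3, 6, 1, 2, 3, 6, 9] 1 56351 1523 = true := by decide +kernel

theorem chk_pow19_2_8 : tab.minOKc [1, 2, 3, 6, 1, 2, 3, 6, 1, 2, 3, 6, 1, 2, 3, 6, 1, 2, 3, 6, 9] 1 57874 1523 = true := by decide +kernel

theorem chk_pow19_2_9 : tab.minOKc [1, 2, 3, 6, 1, 2, 3, 6, 1, 2, 3, 6, 1, 2, 3, 6, 1, 2, 3, 6, 9] 1 59397 1523 = true := by decide +kernel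

theorem chk_pow19_2_10 : tab.minOKc [1, 2, 3, 6, 1, 2, 3, 6, 1, 2, 3, 6, 1, 2, 3, 6, 1, 2, 3, 6, 9] 1 60920 1523 = true := by decide +kernel

theorem chk_pow19_2_11 : tab.minOKc [1, 2, 3, 6, 1, 2, 3, 6, 1, 2, 3, 6, 1, 2, 3, 6, 1, 2, 3, 6, 9] 1 62443 1523 = true := by decide +kernel

theorem chk_pow19_2_12 : tab.minOKc [1, 2, 3, 6, 1, 2, 3, 6, 1, 2, 3, 6, 1, 2, 3, 6, 1, 2, 3, 6, 9] 1 63966 1523 = true := by decide +kernel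

theorem chk_pow19_2_13 : tab.minOKc [1, 2, 3, 6, 1, 2, 3, 6, 1, 2, 3, 6, 1, 2, 3, 6, 1, 2, 3, 6, 9] 1 65489 1523 = true := by decide +kernel

theorem chk_pow19_2_14 : tab.minOKc [1, 2, 3, 6, 1, 2, 3, 6, 1, 2, 3, 6, 1, 2, 3, 6, 1, 2, 3, 6, 9] 1 67012 1523 = true := by decide +kernel

theorem chk_pow19_2 : tab.minOKc [1, 2, 3, 6, 1, 2, 3, 6, 1, 2, 3, 6, 1, 2, 3, 6, 1, 2, 3, 6, 9] 1 45690 22845 = true := by
  refine tab.minOKc_of_chunks [1, 2, 3, 6, 1, 2, 3, 6, 1, 2, 3, 6, 1, 2, 3, 6, 1, 2, 3, 6, 9] 1 45690 1523 15 (by norm_num) ?_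
  intro i hi
  interval_cases i
  · exact chk_pow19_2_0
  · exact chk_pow19_2_1
  · exact chk_pow19_2_2
  · exact chk_pow19_2_3
  · exact chk_pow19_2_4
  · exact chk_pow19_2_5
  · exact chk_pow19_2_6
  · exact chk_pow19_2_7
  · exact chk_pow19_2_8
  · exact chk_pow19_2_9
  · exact chk_pow19_2_10
  · exact chk_pow19_2_11
  · exact chk_pow19_2_12
  · exact chk_pow19_2_13
  · exact chk_pow19_2_14

theorem chk_pow19_3_0 : tab.minOKc [1, 2, 3, 6, 1, 2, 3, 6, 1, 2, 3, 6, 1, 2, 3, 6, 1, 2, 3, 6, 9] 1 68535 1523 = true := by decide +kernel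

theorem chk_pow19_3_1 : tab.minOKc [1, 2, 3, 6, 1, 2, 3, 6, 1, 2, 3, 6, 1, 2, 3, 6, 1, 2, 3, 6, 9] 1 70058 1523 = true := by decide +kernel

theorem chk_pow19_3_2 : tab.minOKc [1, 2, 3, 6, 1, 2, 3, 6, 1, 2, 3, 6, 1, 2, 3, 6, 1, 2, 3, 6, 9] 1 71581 1523 = true := by decide +kernel

theorem chk_pow19_3_3 : tab.minOKc [1, 2, 3, 6, 1, 2, 3, 6, 1, 2, 3, 6, 1, 2, 3, 6, 1, 2, 3, 6, 9] 1 73104 1523 = true := by decide +kernel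

theorem chk_pow19_3_4 : tab.minOKc [1, 2, 3, 6, 1, 2, 3, 6, 1, 2, 3, 6, 1, 2, 3, 6, 1, 2, 3, 6, 9] 1 74627 1523 = true := by decide +kernel

theorem chk_pow19_3_5 : tab.minOKc [1, 2, 3, 6, 1, 2, 3, 6, 1, 2, 3, 6, 1, 2, 3, 6, 1, 2, 3, 6, 9] 1 76150 1523 = true := by decide +kernel

theorem chk_pow19_3_6 : tab.minOKc [1, 2, 3, 6, 1, 2, 3, 6, 1, 2, 3, 6, 1, 2, 3, 6, 1, 2, 3, 6, 9] 1 77673 1523 = true := by decide +kernel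

theorem chk_pow19_3_7 : tab.minOKc [1, 2, 3, 6, 1, 2, 3, 6, 1, 2, 3, 6, 1, 2, 3, 6, 1, 2, 3, 6, 9] 1 79196 1523 = true := by decide +kernel

theorem chk_pow19_3_8 : tab.minOKc [1, 2, 3, 6, 1, 2, 3, 6, 1, 2, 3, 6, 1, 2, 3, 6, 1, 2, 3, 6, 9] 1 80719 1523 = true := by decide +kernel

theorem chk_pow19_3_9 : tab.minOKc [1, 2, 3, 6, 1, 2, 3, 6, 1, 2, 3, 6, 1, 2, 3, 6, 1, 2, 3, 6, 9] 1 82242 1523 = true := by decide +kernel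

theorem chk_pow19_3_10 : tab.minOKc [1, 2, 3, 6, 1, 2, 3, 6, 1, 2, 3, 6, 1, 2, 3, 6, 1, 2, 3, 6, 9] 1 83765 1523 = true := by decide +kernel

theorem chk_pow19_3_11 : tab.minOKc [1, 2, 3, 6, 1, 2, 3, 6, 1, 2, 3, 6, 1, 2, 3, 6, 1, 2, 3, 6, 9] 1 85288 1523 = true := by decide +kernel

theorem chk_pow19_3_12 : tab.minOKc [1, 2, 3, 6, 1, 2, 3, 6, 1, 2, 3, 6, 1, 2, 3, 6, 1, 2, 3, 6, 9] 1 86811 1523 = true := by decide +kernel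

theorem chk_pow19_3_13 : tab.minOKc [1, 2, 3, 6, 1, 2, 3, 6, 1, 2, 3, 6, 1, 2, 3, 6, 1, 2, 3, 6, 9] 1 88334 1523 = true := by decide +kernel

theorem chk_pow19_3_14 : tab.minOKc [1, 2, 3, 6, 1, 2, 3, 6, 1, 2, 3, 6, 1, 2, 3, 6, 1, 2, 3, 6, 9] 1 89857 1523 = true := by decide +kernel

theorem chk_pow19_3 : tab.minOKc [1, 2, 3, 6, 1, 2, 3, 6, 1, 2, 3, 6, 1, 2, 3, 6, 1, 2, 3, 6, 9] 1 68535 22845 = true := by
  refine tab.minOKc_of_chunks [1, 2, 3, 6, 1, 2, 3, 6, 1, 2, 3, 6, 1, 2, 3, 6, 1, 2, 3, 6, 9] 1 68535 1523 15 (by norm_num) ?_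
  intro i hi
  interval_cases i
  · exact chk_pow19_3_0
  · exact chk_pow19_3_1
  · exact chk_pow19_3_2
  · exact chk_pow19_3_3
  · exact chk_pow19_3_4
  · exact chk_pow19_3_5
  · exact chk_pow19_3_6
  · exact chk_pow19_3_7
  · exact chk_pow19_3_8
  · exact chk_pow19_3_9
  · exact chk_pow19_3_10
  · exact chk_pow19_3_11
  · exact chk_pow19_3_12
  · exact chk_pow19_3_13
  · exact chk_pow19_3_14


end Cfsg.Agent.Lib.Lead.ON3.C3
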