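import Cfsg.Agent.Lib.Lead.ON3.C3Data
import Cfsg.Agent.Lib.Helper6.TCRel3
import Cfsg.Agent.Lib.Lead.ON3.C3Rel15

/-! # The triple cover of O'N: the kernel check of a part of the relators on the table -/

set_option autoImplicit false

namespace Cfsg.Agent.Lib.Lead.ON3.C3

open Cfsg.Agent.Lib.Helper6.TC

theorem chk_pow19_4_0 : tab.minOKc [1, 2, 3, 6, 1, 2, 3, 6, 1, 2, 3, 6, 1, 2, 3, 6, 1, 2, 3, 6, 9] 1 91380 1523 = true := by decide +kernel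

theorem chk_pow19_4_1 : tab.minOKc [1, 2, 3, 6, 1, 2, 3, 6, 1, 2, 3, 6, 1, 2, 3, 6, 1, 2, 3, 6, 9] 1 92903 1523 = true := by decide +kernel

theorem chk_pow19_4_2 : tab.minOKc [1, 2, 3, 6, 1, 2, 3, 6, 1, 2, 3, 6, 1, 2, 3, 6, 1, 2, 3, 6, 9] 1 94426 1523 = true := by decide +kernel

theorem chk_pow19_4_3 : tab.minOKc [1, 2, 3, 6, 1, 2, 3, 6, 1, 2, 3, 6, 1, 2, 3, 6, 1, 2, 3, 6, 9] 1 95949 1523 = true := by decide +kernel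

theorem chk_pow19_4_4 : tab.minOKc [1, 2, 3, 6, 1, 2, 3, 6, 1, 2, 3, 6, 1, 2, 3, 6, 1, 2, 3, 6, 9] 1 97472 1523 = true := by decide +kernel

theorem chk_pow19_4_5 : tab.minOKc [1, 2, 3, 6, 1, 2, 3, 6, 1, 2, 3, 6, 1, 2, 3, 6, 1, 2, 3, 6, 9] 1 98995 1523 = true := by decide +kernel

theorem chk_pow19_4_6 : tab.minOKc [1, 2, 3, 6, 1, 2, 3, 6, 1, 2, 3, 6, 1, 2, 3, 6, 1, 2, 3, 6, 9] 1 100518 1523 = true := by decide +kernel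

theorem chk_pow19_4_7 : tab.minOKc [1, 2, 3, 6, 1, 2, 3, 6, 1, 2, 3, 6, 1, 2, 3, 6, 1, 2, 3, 6, 9] 1 102041 1523 = true := by decide +kernel

theorem chk_pow19_4_8 : tab.minOKc [1, 2, 3, 6, 1, 2, 3, 6, 1, 2, 3, 6, 1, 2, 3, 6, 1, 2, 3, 6, 9] 1 103564 1523 = true := by decide +kernel

theorem chk_pow19_4_9 : tab.minOKc [1, 2, 3, 6, 1, 2, 3, 6, 1, 2, 3, 6, 1, 2, 3, 6, 1, 2, 3, 6, 9] 1 105087 1523 = true := by decide +kernel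

theorem chk_pow19_4_10 : tab.minOKc [1, 2, 3, 6, 1, 2, 3, 6, 1, 2, 3, 6, 1, 2, 3, 6, 1, 2, 3, 6, 9] 1 106610 1523 = true := by decide +kernel

theorem chk_pow19_4_11 : tab.minOKc [1, 2, 3, 6, 1, 2, 3, 6, 1, 2, 3, 6, 1, 2, 3, 6, 1, 2, 3, 6, 9] 1 108133 1523 = true := by decide +kernel

theorem chk_pow19_4_12 : tab.minOKc [1, 2, 3, 6, 1, 2, 3, 6, 1, 2, 3, 6, 1, 2, 3, 6, 1, 2, 3, 6, 9] 1 109656 1523 = true := by decide +kernel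

theorem chk_pow19_4_13 : tab.minOKc [1, 2, 3, 6, 1, 2, 3, 6, 1, 2, 3, 6, 1, 2, 3, 6, 1, 2, 3, 6, 9] 1 111179 1523 = true := by decide +kernel

theorem chk_pow19_4_14 : tab.minOKc [1, 2, 3, 6, 1, 2, 3, 6, 1, 2, 3, 6, 1, 2, 3, 6, 1, 2, 3, 6, 9] 1 112702 1523 = true := by decide +kernel

theorem chk_pow19_4 : tab.minOKc [1, 2, 3, 6, 1, 2, 3, 6, 1, 2, 3, 6, 1, 2, 3, 6, 1, 2, 3, 6, 9] 1 91380 22845 = true := by
  refine tab.minOKc_of_chunks [1, 2, 3, 6, 1, 2, 3, 6, 1, 2, 3, 6, 1, 2, 3, 6, 1, 2, 3, 6, 9] 1 91380 1523 15 (by norm_num) ?_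
  intro i hi
  interval_cases i
  · exact chk_pow19_4_0
  · exact chk_pow19_4_1
  · exact chk_pow19_4_2
  · exact chk_pow19_4_3
  · exact chk_pow19_4_4
  · exact chk_pow19_4_5
  · exact chk_pow19_4_6
  · exact chk_pow19_4_7
  · exact chk_pow19_4_8
  · exact chk_pow19_4_9
  · exact chk_pow19_4_10
  · exact chk_pow19_4_11
  · exact chk_pow19_4_12
  · exact chk_pow19_4_13
  · exact chk_pow19_4_14

theorem chk_pow19_5_0 : tab.minOKc [1, 2, 3, 6, 1, 2, 3, 6, 1, 2, 3, 6, 1, 2, 3, 6, 1, 2, 3, 6, 9] 1 114225 1523 = true := by decide +kernel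

theorem chk_pow19_5_1 : tab.minOKc [1, 2, 3, 6, 1, 2, 3, 6, 1, 2, 3, 6, 1, 2, 3, 6, 1, 2, 3, 6, 9] 1 115748 1523 = true := by decide +kernel

theorem chk_pow19_5_2 : tab.minOKc [1, 2, 3, 6, 1, 2, 3, 6, 1, 2, 3, 6, 1, 2, 3, 6, 1, 2, 3, 6, 9] 1 117271 1523 = true := by decide +kernel

theorem chk_pow19_5_3 : tab.minOKc [1, 2, 3, 6, 1, 2, 3, 6, 1, 2, 3, 6, 1, 2, 3, 6, 1, 2, 3, 6, 9] 1 118794 1523 = true := by decide +kernel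

theorem chk_pow19_5_4 : tab.minOKc [1, 2, 3, 6, 1, 2, 3, 6, 1, 2, 3, 6, 1, 2, 3, 6, 1, 2, 3, 6, 9] 1 120317 1523 = true := by decide +kernel

theorem chk_pow19_5_5 : tab.minOKc [1, 2, 3, 6, 1, 2, 3, 6, 1, 2, 3, 6, 1, 2, 3, 6, 1, 2, 3, 6, 9] 1 121840 1523 = true := by decide +kernel

theorem chk_pow19_5_6 : tab.minOKc [1, 2, 3, 6, 1, 2, 3, 6, 1, 2, 3, 6, 1, 2, 3, 6, 1, 2, 3, 6, 9] 1 123363 1523 = true := by decide +kernel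

theorem chk_pow19_5_7 : tab.minOKc [1, 2, 3, 6, 1, 2, 3, 6, 1, 2, 3, 6, 1, 2, 3, 6, 1, 2, 3, 6, 9] 1 124886 1523 = true := by decide +kernel

theorem chk_pow19_5_8 : tab.minOKc [1, 2, 3, 6, 1, 2, 3, 6, 1, 2, 3, 6, 1, 2, 3, 6, 1, 2, 3, 6, 9] 1 126409 1523 = true := by decide +kernel

theorem chk_pow19_5_9 : tab.minOKc [1, 2, 3, 6, 1, 2, 3, 6, 1, 2, 3, 6, 1, 2, 3, 6, 1, 2, 3, 6, 9] 1 127932 1523 = true := by decide +kernel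

theorem chk_pow19_5_10 : tab.minOKc [1, 2, 3, 6, 1, 2, 3, 6, 1, 2, 3, 6, 1, 2, 3, 6, 1, 2, 3, 6, 9] 1 129455 1523 = true := by decide +kernel

theorem chk_pow19_5_11 : tab.minOKc [1, 2, 3, 6, 1, 2, 3, 6, 1, 2, 3, 6, 1, 2, 3, 6, 1, 2, 3, 6, 9] 1 130978 1523 = true := by decide +kernel

theorem chk_pow19_5_12 : tab.minOKc [1, 2, 3, 6, 1, 2, 3, 6, 1, 2, 3, 6, 1, 2, 3, 6, 1, 2, 3, 6, 9] 1 132501 1523 = true := by decide +kernel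

theorem chk_pow19_5_13 : tab.minOKc [1, 2, 3, 6, 1, 2, 3, 6, 1, 2, 3, 6, 1, 2, 3, 6, 1, 2, 3, 6, 9] 1 134024 1523 = true := by decide +kernel

theorem chk_pow19_5_14 : tab.minOKc [1, 2, 3, 6, 1, 2, 3, 6, 1, 2, 3, 6, 1, 2, 3, 6, 1, 2, 3, 6, 9] 1 135547 1523 = true := by decide +kernel

theorem chk_pow19_5 : tab.minOKc [1, 2, 3, 6, 1, 2, 3, 6, 1, 2, 3, 6, 1, 2, 3, 6, 1, 2, 3, 6, 9] 1 114225 22845 = true := by
  refine tab.minOKc_of_chunks [1, 2, 3, 6, 1, 2, 3, 6, 1, 2, 3, 6, 1, 2, 3, 6, 1, 2, 3, 6, 9] 1 114225 1523 15 (by norm_num) ?_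
  intro i hi
  interval_cases i
  · exact chk_pow19_5_0
  · exact chk_pow19_5_1
  · exact chk_pow19_5_2
  · exact chk_pow19_5_3
  · exact chk_pow19_5_4
  · exact chk_pow19_5_5
  · exact chk_pow19_5_6
  · exact chk_pow19_5_7
  · exact chk_pow19_5_8
  · exact chk_pow19_5_9
  · exact chk_pow19_5_10
  · exact chk_pow19_5_11
  · exact chk_pow19_5_12
  · exact chk_pow19_5_13
  · exact chk_pow19_5_14


end Cfsg.Agent.Lib.Lead.ON3.C3
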