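import Cfsg.Agent.Lib.Lead.ON3.C3Data
import Cfsg.Agent.Lib.Helper6.TCRel3
import Cfsg.Agent.Lib.Lead.ON3.C3Rel16

/-! # The triple cover of O'N: the kernel check of a part of the relators on the table -/

set_option autoImplicit false

namespace Cfsg.Agent.Lib.Lead.ON3.C3

open Cfsg.Agent.Lib.Helper6.TC

theorem chk_pow19_6_0 : tab.minOKc [1, 2, 3, 6, 1, 2, 3, 6, 1, 2, 3, 6, 1, 2, 3, 6, 1, 2, 3, 6, 9] 1 137070 1523 = true := by decide +kernel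

theorem chk_pow19_6_1 : tab.minOKc [1, 2, 3, 6, 1, 2, 3, 6, 1, 2, 3, 6, 1, 2, 3, 6, 1, 2, 3, 6, 9] 1 138593 1523 = true := by decide +kernel

theorem chk_pow19_6_2 : tab.minOKc [1, 2, 3, 6, 1, 2, 3, 6, 1, 2, 3, 6, 1, 2, 3, 6, 1, 2, 3, 6, 9] 1 140116 1523 = true := by decide +kernel

theorem chk_pow19_6_3 : tab.minOKc [1, 2, 3, 6, 1, 2, 3, 6, 1, 2, 3, 6, 1, 2, 3, 6, 1, 2, 3, 6, 9] 1 141639 1523 = true := by decide +kernel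

theorem chk_pow19_6_4 : tab.minOKc [1, 2, 3, 6, 1, 2, 3, 6, 1, 2, 3, 6, 1, 2, 3, 6, 1, 2, 3, 6, 9] 1 143162 1523 = true := by decide +kernel

theorem chk_pow19_6_5 : tab.minOKc [1, 2, 3, 6, 1, 2, 3, 6, 1, 2, 3, 6, 1, 2, 3, 6, 1, 2, 3, 6, 9] 1 144685 1523 = true := by decide +kernel

theorem chk_pow19_6_6 : tab.minOKc [1, 2, 3, 6, 1, 2, 3, 6, 1, 2, 3, 6, 1, 2, 3, 6, 1, 2, 3, 6, 9] 1 146208 1523 = true := by decide +kernel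

theorem chk_pow19_6_7 : tab.minOKc [1, 2, 3, 6, 1, 2, 3, 6, 1, 2, 3, 6, 1, 2, 3, 6, 1, 2, 3, 6, 9] 1 147731 1523 = true := by decide +kernel

theorem chk_pow19_6_8 : tab.minOKc [1, 2, 3, 6, 1, 2, 3, 6, 1, 2, 3, 6, 1, 2, 3, 6, 1, 2, 3, 6, 9] 1 149254 1523 = true := by decide +kernel

theorem chk_pow19_6_9 : tab.minOKc [1, 2, 3, 6, 1, 2, 3, 6, 1, 2, 3, 6, 1, 2, 3, 6, 1, 2, 3, 6, 9] 1 150777 1523 = true := by decide +kernel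

theorem chk_pow19_6_10 : tab.minOKc [1, 2, 3, 6, 1, 2, 3, 6, 1, 2, 3, 6, 1, 2, 3, 6, 1, 2, 3, 6, 9] 1 152300 1523 = true := by decide +kernel

theorem chk_pow19_6_11 : tab.minOKc [1, 2, 3, 6, 1, 2, 3, 6, 1, 2, 3, 6, 1, 2, 3, 6, 1, 2, 3, 6, 9] 1 153823 1523 = true := by decide +kernel

theorem chk_pow19_6_12 : tab.minOKc [1, 2, 3, 6, 1, 2, 3, 6, 1, 2, 3, 6, 1, 2, 3, 6, 1, 2, 3, 6, 9] 1 155346 1523 = true := by decide +kernel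

theorem chk_pow19_6_13 : tab.minOKc [1, 2, 3, 6, 1, 2, 3, 6, 1, 2, 3, 6, 1, 2, 3, 6, 1, 2, 3, 6, 9] 1 156869 1523 = true := by decide +kernel

theorem chk_pow19_6_14 : tab.minOKc [1, 2, 3, 6, 1, 2, 3, 6, 1, 2, 3, 6, 1, 2, 3, 6, 1, 2, 3, 6, 9] 1 158392 1523 = true := by decide +kernel

theorem chk_pow19_6 : tab.minOKc [1, 2, 3, 6, 1, 2, 3, 6, 1, 2, 3, 6, 1, 2, 3, 6, 1, 2, 3, 6, 9] 1 137070 22845 = true := by
  refine tab.minOKc_of_chunks [1, 2, 3, 6, 1, 2, 3, 6, 1, 2, 3, 6, 1, 2, 3, 6, 1, 2, 3, 6, 9] 1 137070 1523 15 (by norm_num) ?_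
  intro i hi
  interval_cases i
  · exact chk_pow19_6_0
  · exact chk_pow19_6_1
  · exact chk_pow19_6_2
  · exact chk_pow19_6_3
  · exact chk_pow19_6_4
  · exact chk_pow19_6_5
  · exact chk_pow19_6_6
  · exact chk_pow19_6_7
  · exact chk_pow19_6_8
  · exact chk_pow19_6_9
  · exact chk_pow19_6_10
  · exact chk_pow19_6_11
  · exact chk_pow19_6_12
  · exact chk_pow19_6_13
  · exact chk_pow19_6_14

theorem chk_pow19_7_0 : tab.minOKc [1, 2, 3, 6, 1, 2, 3, 6, 1, 2, 3, 6, 1, 2, 3, 6, 1, 2, 3, 6, 9] 1 159915 1523 = true := by decide +kernel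

theorem chk_pow19_7_1 : tab.minOKc [1, 2, 3, 6, 1, 2, 3, 6, 1, 2, 3, 6, 1, 2, 3, 6, 1, 2, 3, 6, 9] 1 161438 1523 = true := by decide +kernel

theorem chk_pow19_7_2 : tab.minOKc [1, 2, 3, 6, 1, 2, 3, 6, 1, 2, 3, 6, 1, 2, 3, 6, 1, 2, 3, 6, 9] 1 162961 1523 = true := by decide +kernel

theorem chk_pow19_7_3 : tab.minOKc [1, 2, 3, 6, 1, 2, 3, 6, 1, 2, 3, 6, 1, 2, 3, 6, 1, 2, 3, 6, 9] 1 164484 1523 = true := by decide +kernel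

theorem chk_pow19_7_4 : tab.minOKc [1, 2, 3, 6, 1, 2, 3, 6, 1, 2, 3, 6, 1, 2, 3, 6, 1, 2, 3, 6, 9] 1 166007 1523 = true := by decide +kernel

theorem chk_pow19_7_5 : tab.minOKc [1, 2, 3, 6, 1, 2, 3, 6, 1, 2, 3, 6, 1, 2, 3, 6, 1, 2, 3, 6, 9] 1 167530 1523 = true := by decide +kernel

theorem chk_pow19_7_6 : tab.minOKc [1, 2, 3, 6, 1, 2, 3, 6, 1, 2, 3, 6, 1, 2, 3, 6, 1, 2, 3, 6, 9] 1 169053 1523 = true := by decide +kernel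

theorem chk_pow19_7_7 : tab.minOKc [1, 2, 3, 6, 1, 2, 3, 6, 1, 2, 3, 6, 1, 2, 3, 6, 1, 2, 3, 6, 9] 1 170576 1523 = true := by decide +kernel

theorem chk_pow19_7_8 : tab.minOKc [1, 2, 3, 6, 1, 2, 3, 6, 1, 2, 3, 6, 1, 2, 3, 6, 1, 2, 3, 6, 9] 1 172099 1523 = true := by decide +kernel

theorem chk_pow19_7_9 : tab.minOKc [1, 2, 3, 6, 1, 2, 3, 6, 1, 2, 3, 6, 1, 2, 3, 6, 1, 2, 3, 6, 9] 1 173622 1523 = true := by decide +kernel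

theorem chk_pow19_7_10 : tab.minOKc [1, 2, 3, 6, 1, 2, 3, 6, 1, 2, 3, 6, 1, 2, 3, 6, 1, 2, 3, 6, 9] 1 175145 1523 = true := by decide +kernel

theorem chk_pow19_7_11 : tab.minOKc [1, 2, 3, 6, 1, 2, 3, 6, 1, 2, 3, 6, 1, 2, 3, 6, 1, 2, 3, 6, 9] 1 176668 1523 = true := by decide +kernel

theorem chk_pow19_7_12 : tab.minOKc [1, 2, 3, 6, 1, 2, 3, 6, 1, 2, 3, 6, 1, 2, 3, 6, 1, 2, 3, 6, 9] 1 178191 1523 = true := by decide +kernel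

theorem chk_pow19_7_13 : tab.minOKc [1, 2, 3, 6, 1, 2, 3, 6, 1, 2, 3, 6, 1, 2, 3, 6, 1, 2, 3, 6, 9] 1 179714 1523 = true := by decide +kernel

theorem chk_pow19_7_14 : tab.minOKc [1, 2, 3, 6, 1, 2, 3, 6, 1, 2, 3, 6, 1, 2, 3, 6, 1, 2, 3, 6, 9] 1 181237 1523 = true := by decide +kernel

theorem chk_pow19_7 : tab.minOKc [1, 2, 3, 6, 1, 2, 3, 6, 1, 2, 3, 6, 1, 2, 3, 6, 1, 2, 3, 6, 9] 1 159915 22845 = true := by
  refine tab.minOKc_of_chunks [1, 2, 3, 6, 1, 2, 3, 6, 1, 2, 3, 6, 1, 2, 3, 6, 1, 2, 3, 6, 9] 1 159915 1523 15 (by norm_num) ?_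
  intro i hi
  interval_cases i
  · exact chk_pow19_7_0
  · exact chk_pow19_7_1
  · exact chk_pow19_7_2
  · exact chk_pow19_7_3
  · exact chk_pow19_7_4
  · exact chk_pow19_7_5
  · exact chk_pow19_7_6
  · exact chk_pow19_7_7
  · exact chk_pow19_7_8
  · exact chk_pow19_7_9
  · exact chk_pow19_7_10
  · exact chk_pow19_7_11
  · exact chk_pow19_7_12
  · exact chk_pow19_7_13
  · exact chk_pow19_7_14


end Cfsg.Agent.Lib.Lead.ON3.C3
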