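import Cfsg.Agent.Lib.Lead.ON3.C3Data
import Cfsg.Agent.Lib.Helper6.TCRel3
import Cfsg.Agent.Lib.Lead.ON3.C3Rel17

/-! # The triple cover of O'N: the kernel check of a part of the relators on the table -/

set_option autoImplicit false

namespace Cfsg.Agent.Lib.Lead.ON3.C3

open Cfsg.Agent.Lib.Helper6.TC

theorem chk_pow19_8_0 : tab.minOKc [1, 2, 3, 6, 1, 2, 3, 6, 1, 2, 3, 6, 1, 2, 3, 6, 1, 2, 3, 6, 9] 1 182760 1523 = true := by decide +kernel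

theorem chk_pow19_8_1 : tab.minOKc [1, 2, 3, 6, 1, 2, 3, 6, 1, 2, 3, 6, 1, 2, 3, 6, 1, 2, 3, 6, 9] 1 184283 1523 = true := by decide +kernel

theorem chk_pow19_8_2 : tab.minOKc [1, 2, 3, 6, 1, 2, 3, 6, 1, 2, 3, 6, 1, 2, 3, 6, 1, 2, 3, 6, 9] 1 185806 1523 = true := by decide +kernel

theorem chk_pow19_8_3 : tab.minOKc [1, 2, 3, 6, 1, 2, 3, 6, 1, 2, 3, 6, 1, 2, 3, 6, 1, 2, 3, 6, 9] 1 187329 1523 = true := by decide +kernel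

theorem chk_pow19_8_4 : tab.minOKc [1, 2, 3, 6, 1, 2, 3, 6, 1, 2, 3, 6, 1, 2, 3, 6, 1, 2, 3, 6, 9] 1 188852 1523 = true := by decide +kernel

theorem chk_pow19_8_5 : tab.minOKc [1, 2, 3, 6, 1, 2, 3, 6, 1, 2, 3, 6, 1, 2, 3, 6, 1, 2, 3, 6, 9] 1 190375 1523 = true := by decide +kernel

theorem chk_pow19_8_6 : tab.minOKc [1, 2, 3, 6, 1, 2, 3, 6, 1, 2, 3, 6, 1, 2, 3, 6, 1, 2, 3, 6, 9] 1 191898 1523 = true := by decide +kernel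

theorem chk_pow19_8_7 : tab.minOKc [1, 2, 3, 6, 1, 2, 3, 6, 1, 2, 3, 6, 1, 2, 3, 6, 1, 2, 3, 6, 9] 1 193421 1523 = true := by decide +kernel

theorem chk_pow19_8_8 : tab.minOKc [1, 2, 3, 6, 1, 2, 3, 6, 1, 2, 3, 6, 1, 2, 3, 6, 1, 2, 3, 6, 9] 1 194944 1523 = true := by decide +kernel

theorem chk_pow19_8_9 : tab.minOKc [1, 2, 3, 6, 1, 2, 3, 6, 1, 2, 3, 6, 1, 2, 3, 6, 1, 2, 3, 6, 9] 1 196467 1523 = true := by decide +kernel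

theorem chk_pow19_8_10 : tab.minOKc [1, 2, 3, 6, 1, 2, 3, 6, 1, 2, 3, 6, 1, 2, 3, 6, 1, 2, 3, 6, 9] 1 197990 1523 = true := by decide +kernel

theorem chk_pow19_8_11 : tab.minOKc [1, 2, 3, 6, 1, 2, 3, 6, 1, 2, 3, 6, 1, 2, 3, 6, 1, 2, 3, 6, 9] 1 199513 1523 = true := by decide +kernel

theorem chk_pow19_8_12 : tab.minOKc [1, 2, 3, 6, 1, 2, 3, 6, 1, 2, 3, 6, 1, 2, 3, 6, 1, 2, 3, 6, 9] 1 201036 1523 = true := by decide +kernel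

theorem chk_pow19_8_13 : tab.minOKc [1, 2, 3, 6, 1, 2, 3, 6, 1, 2, 3, 6, 1, 2, 3, 6, 1, 2, 3, 6, 9] 1 202559 1523 = true := by decide +kernel

theorem chk_pow19_8_14 : tab.minOKc [1, 2, 3, 6, 1, 2, 3, 6, 1, 2, 3, 6, 1, 2, 3, 6, 1, 2, 3, 6, 9] 1 204082 1523 = true := by decide +kernel

theorem chk_pow19_8 : tab.minOKc [1, 2, 3, 6, 1, 2, 3, 6, 1, 2, 3, 6, 1, 2, 3, 6, 1, 2, 3, 6, 9] 1 182760 22845 = true := by
  refine tab.minOKc_of_chunks [1, 2, 3, 6, 1, 2, 3, 6, 1, 2, 3, 6, 1, 2, 3, 6, 1, 2, 3, 6, 9] 1 182760 1523 15 (by norm_num) ?_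
  intro i hi
  interval_cases i
  · exact chk_pow19_8_0
  · exact chk_pow19_8_1
  · exact chk_pow19_8_2
  · exact chk_pow19_8_3
  · exact chk_pow19_8_4
  · exact chk_pow19_8_5
  · exact chk_pow19_8_6
  · exact chk_pow19_8_7
  · exact chk_pow19_8_8
  · exact chk_pow19_8_9
  · exact chk_pow19_8_10
  · exact chk_pow19_8_11
  · exact chk_pow19_8_12
  · exact chk_pow19_8_13
  · exact chk_pow19_8_14

theorem chk_pow19_9_0 : tab.minOKc [1, 2, 3, 6, 1, 2, 3, 6, 1, 2, 3, 6, 1, 2, 3, 6, 1, 2, 3, 6, 9] 1 205605 1523 = true := by decide +kernel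

theorem chk_pow19_9_1 : tab.minOKc [1, 2, 3, 6, 1, 2, 3, 6, 1, 2, 3, 6, 1, 2, 3, 6, 1, 2, 3, 6, 9] 1 207128 1523 = true := by decide +kernel

theorem chk_pow19_9_2 : tab.minOKc [1, 2, 3, 6, 1, 2, 3, 6, 1, 2, 3, 6, 1, 2, 3, 6, 1, 2, 3, 6, 9] 1 208651 1523 = true := by decide +kernel

theorem chk_pow19_9_3 : tab.minOKc [1, 2, 3, 6, 1, 2, 3, 6, 1, 2, 3, 6, 1, 2, 3, 6, 1, 2, 3, 6, 9] 1 210174 1523 = true := by decide +kernel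

theorem chk_pow19_9_4 : tab.minOKc [1, 2, 3, 6, 1, 2, 3, 6, 1, 2, 3, 6, 1, 2, 3, 6, 1, 2, 3, 6, 9] 1 211697 1523 = true := by decide +kernel

theorem chk_pow19_9_5 : tab.minOKc [1, 2, 3, 6, 1, 2, 3, 6, 1, 2, 3, 6, 1, 2, 3, 6, 1, 2, 3, 6, 9] 1 213220 1523 = true := by decide +kernel

theorem chk_pow19_9_6 : tab.minOKc [1, 2, 3, 6, 1, 2, 3, 6, 1, 2, 3, 6, 1, 2, 3, 6, 1, 2, 3, 6, 9] 1 214743 1523 = true := by decide +kernel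

theorem chk_pow19_9_7 : tab.minOKc [1, 2, 3, 6, 1, 2, 3, 6, 1, 2, 3, 6, 1, 2, 3, 6, 1, 2, 3, 6, 9] 1 216266 1523 = true := by decide +kernel

theorem chk_pow19_9_8 : tab.minOKc [1, 2, 3, 6, 1, 2, 3, 6, 1, 2, 3, 6, 1, 2, 3, 6, 1, 2, 3, 6, 9] 1 217789 1523 = true := by decide +kernel

theorem chk_pow19_9_9 : tab.minOKc [1, 2, 3, 6, 1, 2, 3, 6, 1, 2, 3, 6, 1, 2, 3, 6, 1, 2, 3, 6, 9] 1 219312 1523 = true := by decide +kernel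

theorem chk_pow19_9_10 : tab.minOKc [1, 2, 3, 6, 1, 2, 3, 6, 1, 2, 3, 6, 1, 2, 3, 6, 1, 2, 3, 6, 9] 1 220835 1523 = true := by decide +kernel

theorem chk_pow19_9_11 : tab.minOKc [1, 2, 3, 6, 1, 2, 3, 6, 1, 2, 3, 6, 1, 2, 3, 6, 1, 2, 3, 6, 9] 1 222358 1523 = true := by decide +kernel

theorem chk_pow19_9_12 : tab.minOKc [1, 2, 3, 6, 1, 2, 3, 6, 1, 2, 3, 6, 1, 2, 3, 6, 1, 2, 3, 6, 9] 1 223881 1523 = true := by decide +kernel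

theorem chk_pow19_9_13 : tab.minOKc [1, 2, 3, 6, 1, 2, 3, 6, 1, 2, 3, 6, 1, 2, 3, 6, 1, 2, 3, 6, 9] 1 225404 1523 = true := by decide +kernel

theorem chk_pow19_9_14 : tab.minOKc [1, 2, 3, 6, 1, 2, 3, 6, 1, 2, 3, 6, 1, 2, 3, 6, 1, 2, 3, 6, 9] 1 226927 1523 = true := by decide +kernel

theorem chk_pow19_9 : tab.minOKc [1, 2, 3, 6, 1, 2, 3, 6, 1, 2, 3, 6, 1, 2, 3, 6, 1, 2, 3, 6, 9] 1 205605 22845 = true := by
  refine tab.minOKc_of_chunks [1, 2, 3, 6, 1, 2, 3, 6, 1, 2, 3, 6, 1, 2, 3, 6, 1, 2, 3, 6, 9] 1 205605 1523 15 (by norm_num) ?_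
  intro i hi
  interval_cases i
  · exact chk_pow19_9_0
  · exact chk_pow19_9_1
  · exact chk_pow19_9_2
  · exact chk_pow19_9_3
  · exact chk_pow19_9_4
  · exact chk_pow19_9_5
  · exact chk_pow19_9_6
  · exact chk_pow19_9_7
  · exact chk_pow19_9_8
  · exact chk_pow19_9_9
  · exact chk_pow19_9_10
  · exact chk_pow19_9_11
  · exact chk_pow19_9_12
  · exact chk_pow19_9_13
  · exact chk_pow19_9_14


end Cfsg.Agent.Lib.Lead.ON3.C3
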