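import Cfsg.Agent.Lib.Lead.ON3.C3Data
import Cfsg.Agent.Lib.Helper6.TCRel3
import Cfsg.Agent.Lib.Lead.ON3.C3Rel18

/-! # The triple cover of O'N: the kernel check of a part of the relators on the table -/

set_option autoImplicit false

namespace Cfsg.Agent.Lib.Lead.ON3.C3

open Cfsg.Agent.Lib.Helper6.TC

theorem chk_pow19_10_0 : tab.minOKc [1, 2, 3, 6, 1, 2, 3, 6, 1, 2, 3, 6, 1, 2, 3, 6, 1, 2, 3, 6, 9] 1 228450 1523 = true := by decide +kernel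

theorem chk_pow19_10_1 : tab.minOKc [1, 2, 3, 6, 1, 2, 3, 6, 1, 2, 3, 6, 1, 2, 3, 6, 1, 2, 3, 6, 9] 1 229973 1523 = true := by decide +kernel

theorem chk_pow19_10_2 : tab.minOKc [1, 2, 3, 6, 1, 2, 3, 6, 1, 2, 3, 6, 1, 2, 3, 6, 1, 2, 3, 6, 9] 1 231496 1523 = true := by decide +kernel

theorem chk_pow19_10_3 : tab.minOKc [1, 2, 3, 6, 1, 2, 3, 6, 1, 2, 3, 6, 1, 2, 3, 6, 1, 2, 3, 6, 9] 1 233019 1523 = true := by decide +kernel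

theorem chk_pow19_10_4 : tab.minOKc [1, 2, 3, 6, 1, 2, 3, 6, 1, 2, 3, 6, 1, 2, 3, 6, 1, 2, 3, 6, 9] 1 234542 1523 = true := by decide +kernel

theorem chk_pow19_10_5 : tab.minOKc [1, 2, 3, 6, 1, 2, 3, 6, 1, 2, 3, 6, 1, 2, 3, 6, 1, 2, 3, 6, 9] 1 236065 1523 = true := by decide +kernel

theorem chk_pow19_10_6 : tab.minOKc [1, 2, 3, 6, 1, 2, 3, 6, 1, 2, 3, 6, 1, 2, 3, 6, 1, 2, 3, 6, 9] 1 237588 1523 = true := by decide +kernel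

theorem chk_pow19_10_7 : tab.minOKc [1, 2, 3, 6, 1, 2, 3, 6, 1, 2, 3, 6, 1, 2, 3, 6, 1, 2, 3, 6, 9] 1 239111 1523 = true := by decide +kernel

theorem chk_pow19_10_8 : tab.minOKc [1, 2, 3, 6, 1, 2, 3, 6, 1, 2, 3, 6, 1, 2, 3, 6, 1, 2, 3, 6, 9] 1 240634 1523 = true := by decide +kernel

theorem chk_pow19_10_9 : tab.minOKc [1, 2, 3, 6, 1, 2, 3, 6, 1, 2, 3, 6, 1, 2, 3, 6, 1, 2, 3, 6, 9] 1 242157 1523 = true := by decide +kernel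

theorem chk_pow19_10_10 : tab.minOKc [1, 2, 3, 6, 1, 2, 3, 6, 1, 2, 3, 6, 1, 2, 3, 6, 1, 2, 3, 6, 9] 1 243680 1523 = true := by decide +kernel

theorem chk_pow19_10_11 : tab.minOKc [1, 2, 3, 6, 1, 2, 3, 6, 1, 2, 3, 6, 1, 2, 3, 6, 1, 2, 3, 6, 9] 1 245203 1523 = true := by decide +kernel

theorem chk_pow19_10_12 : tab.minOKc [1, 2, 3, 6, 1, 2, 3, 6, 1, 2, 3, 6, 1, 2, 3, 6, 1, 2, 3, 6, 9] 1 246726 1523 = true := by decide +kernel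

theorem chk_pow19_10_13 : tab.minOKc [1, 2, 3, 6, 1, 2, 3, 6, 1, 2, 3, 6, 1, 2, 3, 6, 1, 2, 3, 6, 9] 1 248249 1523 = true := by decide +kernel

theorem chk_pow19_10_14 : tab.minOKc [1, 2, 3, 6, 1, 2, 3, 6, 1, 2, 3, 6, 1, 2, 3, 6, 1, 2, 3, 6, 9] 1 249772 1523 = true := by decide +kernel

theorem chk_pow19_10 : tab.minOKc [1, 2, 3, 6, 1, 2, 3, 6, 1, 2, 3, 6, 1, 2, 3, 6, 1, 2, 3, 6, 9] 1 228450 22845 = true := by
  refine tab.minOKc_of_chunks [1, 2, 3, 6, 1, 2, 3, 6, 1, 2, 3, 6, 1, 2, 3, 6, 1, 2, 3, 6, 9] 1 228450 1523 15 (by norm_num) ?_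
  intro i hi
  interval_cases i
  · exact chk_pow19_10_0
  · exact chk_pow19_10_1
  · exact chk_pow19_10_2
  · exact chk_pow19_10_3
  · exact chk_pow19_10_4
  · exact chk_pow19_10_5
  · exact chk_pow19_10_6
  · exact chk_pow19_10_7
  · exact chk_pow19_10_8
  · exact chk_pow19_10_9
  · exact chk_pow19_10_10
  · exact chk_pow19_10_11
  · exact chk_pow19_10_12
  · exact chk_pow19_10_13
  · exact chk_pow19_10_14

theorem chk_pow19_11_0 : tab.minOKc [1, 2, 3, 6, 1, 2, 3, 6, 1, 2, 3, 6, 1, 2, 3, 6, 1, 2, 3, 6, 9] 1 251295 1523 = true := by decide +kernel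

theorem chk_pow19_11_1 : tab.minOKc [1, 2, 3, 6, 1, 2, 3, 6, 1, 2, 3, 6, 1, 2, 3, 6, 1, 2, 3, 6, 9] 1 252818 1523 = true := by decide +kernel

theorem chk_pow19_11_2 : tab.minOKc [1, 2, 3, 6, 1, 2, 3, 6, 1, 2, 3, 6, 1, 2, 3, 6, 1, 2, 3, 6, 9] 1 254341 1523 = true := by decide +kernel

theorem chk_pow19_11_3 : tab.minOKc [1, 2, 3, 6, 1, 2, 3, 6, 1, 2, 3, 6, 1, 2, 3, 6, 1, 2, 3, 6, 9] 1 255864 1523 = true := by decide +kernel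

theorem chk_pow19_11_4 : tab.minOKc [1, 2, 3, 6, 1, 2, 3, 6, 1, 2, 3, 6, 1, 2, 3, 6, 1, 2, 3, 6, 9] 1 257387 1523 = true := by decide +kernel

theorem chk_pow19_11_5 : tab.minOKc [1, 2, 3, 6, 1, 2, 3, 6, 1, 2, 3, 6, 1, 2, 3, 6, 1, 2, 3, 6, 9] 1 258910 1523 = true := by decide +kernel

theorem chk_pow19_11_6 : tab.minOKc [1, 2, 3, 6, 1, 2, 3, 6, 1, 2, 3, 6, 1, 2, 3, 6, 1, 2, 3, 6, 9] 1 260433 1523 = true := by decide +kernel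

theorem chk_pow19_11_7 : tab.minOKc [1, 2, 3, 6, 1, 2, 3, 6, 1, 2, 3, 6, 1, 2, 3, 6, 1, 2, 3, 6, 9] 1 261956 1523 = true := by decide +kernel

theorem chk_pow19_11_8 : tab.minOKc [1, 2, 3, 6, 1, 2, 3, 6, 1, 2, 3, 6, 1, 2, 3, 6, 1, 2, 3, 6, 9] 1 263479 1523 = true := by decide +kernel

theorem chk_pow19_11_9 : tab.minOKc [1, 2, 3, 6, 1, 2, 3, 6, 1, 2, 3, 6, 1, 2, 3, 6, 1, 2, 3, 6, 9] 1 265002 1523 = true := by decide +kernel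

theorem chk_pow19_11_10 : tab.minOKc [1, 2, 3, 6, 1, 2, 3, 6, 1, 2, 3, 6, 1, 2, 3, 6, 1, 2, 3, 6, 9] 1 266525 1523 = true := by decide +kernel

theorem chk_pow19_11_11 : tab.minOKc [1, 2, 3, 6, 1, 2, 3, 6, 1, 2, 3, 6, 1, 2, 3, 6, 1, 2, 3, 6, 9] 1 268048 1523 = true := by decide +kernel

theorem chk_pow19_11_12 : tab.minOKc [1, 2, 3, 6, 1, 2, 3, 6, 1, 2, 3, 6, 1, 2, 3, 6, 1, 2, 3, 6, 9] 1 269571 1523 = true := by decide +kernel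

theorem chk_pow19_11_13 : tab.minOKc [1, 2, 3, 6, 1, 2, 3, 6, 1, 2, 3, 6, 1, 2, 3, 6, 1, 2, 3, 6, 9] 1 271094 1523 = true := by decide +kernel

theorem chk_pow19_11_14 : tab.minOKc [1, 2, 3, 6, 1, 2, 3, 6, 1, 2, 3, 6, 1, 2, 3, 6, 1, 2, 3, 6, 9] 1 272617 1523 = true := by decide +kernel

theorem chk_pow19_11 : tab.minOKc [1, 2, 3, 6, 1, 2, 3, 6, 1, 2, 3, 6, 1, 2, 3, 6, 1, 2, 3, 6, 9] 1 251295 22845 = true := by
  refine tab.minOKc_of_chunks [1, 2, 3, 6, 1, 2, 3, 6, 1, 2, 3, 6, 1, 2, 3, 6, 1, 2, 3, 6, 9] 1 251295 1523 15 (by norm_num) ?_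
  intro i hi
  interval_cases i
  · exact chk_pow19_11_0
  · exact chk_pow19_11_1
  · exact chk_pow19_11_2
  · exact chk_pow19_11_3
  · exact chk_pow19_11_4
  · exact chk_pow19_11_5
  · exact chk_pow19_11_6
  · exact chk_pow19_11_7
  · exact chk_pow19_11_8
  · exact chk_pow19_11_9
  · exact chk_pow19_11_10
  · exact chk_pow19_11_11
  · exact chk_pow19_11_12
  · exact chk_pow19_11_13
  · exact chk_pow19_11_14


end Cfsg.Agent.Lib.Lead.ON3.C3
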