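import Cfsg.Agent.Lib.Lead.ON3.C3Data
import Cfsg.Agent.Lib.Helper6.TCRel3
import Cfsg.Agent.Lib.Lead.ON3.C3Rel19

/-! # The triple cover of O'N: the kernel check of a part of the relators on the table -/

set_option autoImplicit false

namespace Cfsg.Agent.Lib.Lead.ON3.C3

open Cfsg.Agent.Lib.Helper6.TC

theorem chk_pow19_12_0 : tab.minOKc [1, 2, 3, 6, 1, 2, 3, 6, 1, 2, 3, 6, 1, 2, 3, 6, 1, 2, 3, 6, 9] 1 274140 1523 = true := by decide +kernel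

theorem chk_pow19_12_1 : tab.minOKc [1, 2, 3, 6, 1, 2, 3, 6, 1, 2, 3, 6, 1, 2, 3, 6, 1, 2, 3, 6, 9] 1 275663 1523 = true := by decide +kernel

theorem chk_pow19_12_2 : tab.minOKc [1, 2, 3, 6, 1, 2, 3, 6, 1, 2, 3, 6, 1, 2, 3, 6, 1, 2, 3, 6, 9] 1 277186 1523 = true := by decide +kernel

theorem chk_pow19_12_3 : tab.minOKc [1, 2, 3, 6, 1, 2, 3, 6, 1, 2, 3, 6, 1, 2, 3, 6, 1, 2, 3, 6, 9] 1 278709 1523 = true := by decide +kernel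

theorem chk_pow19_12_4 : tab.minOKc [1, 2, 3, 6, 1, 2, 3, 6, 1, 2, 3, 6, 1, 2, 3, 6, 1, 2, 3, 6, 9] 1 280232 1523 = true := by decide +kernel

theorem chk_pow19_12_5 : tab.minOKc [1, 2, 3, 6, 1, 2, 3, 6, 1, 2, 3, 6, 1, 2, 3, 6, 1, 2, 3, 6, 9] 1 281755 1523 = true := by decide +kernel

theorem chk_pow19_12_6 : tab.minOKc [1, 2, 3, 6, 1, 2, 3, 6, 1, 2, 3, 6, 1, 2, 3, 6, 1, 2, 3, 6, 9] 1 283278 1523 = true := by decide +kernel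

theorem chk_pow19_12_7 : tab.minOKc [1, 2, 3, 6, 1, 2, 3, 6, 1, 2, 3, 6, 1, 2, 3, 6, 1, 2, 3, 6, 9] 1 284801 1523 = true := by decide +kernel

theorem chk_pow19_12_8 : tab.minOKc [1, 2, 3, 6, 1, 2, 3, 6, 1, 2, 3, 6, 1, 2, 3, 6, 1, 2, 3, 6, 9] 1 286324 1523 = true := by decide +kernel

theorem chk_pow19_12_9 : tab.minOKc [1, 2, 3, 6, 1, 2, 3, 6, 1, 2, 3, 6, 1, 2, 3, 6, 1, 2, 3, 6, 9] 1 287847 1523 = true := by decide +kernel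

theorem chk_pow19_12_10 : tab.minOKc [1, 2, 3, 6, 1, 2, 3, 6, 1, 2, 3, 6, 1, 2, 3, 6, 1, 2, 3, 6, 9] 1 289370 1523 = true := by decide +kernel

theorem chk_pow19_12_11 : tab.minOKc [1, 2, 3, 6, 1, 2, 3, 6, 1, 2, 3, 6, 1, 2, 3, 6, 1, 2, 3, 6, 9] 1 290893 1523 = true := by decide +kernel

theorem chk_pow19_12_12 : tab.minOKc [1, 2, 3, 6, 1, 2, 3, 6, 1, 2, 3, 6, 1, 2, 3, 6, 1, 2, 3, 6, 9] 1 292416 1523 = true := by decide +kernel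

theorem chk_pow19_12_13 : tab.minOKc [1, 2, 3, 6, 1, 2, 3, 6, 1, 2, 3, 6, 1, 2, 3, 6, 1, 2, 3, 6, 9] 1 293939 1523 = true := by decide +kernel

theorem chk_pow19_12_14 : tab.minOKc [1, 2, 3, 6, 1, 2, 3, 6, 1, 2, 3, 6, 1, 2, 3, 6, 1, 2, 3, 6, 9] 1 295462 1523 = true := by decide +kernel

theorem chk_pow19_12 : tab.minOKc [1, 2, 3, 6, 1, 2, 3, 6, 1, 2, 3, 6, 1, 2, 3, 6, 1, 2, 3, 6, 9] 1 274140 22845 = true := by
  refine tab.minOKc_of_chunks [1, 2, 3, 6, 1, 2, 3, 6, 1, 2, 3, 6, 1, 2, 3, 6, 1, 2, 3, 6, 9] 1 274140 1523 15 (by norm_num) ?_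
  intro i hi
  interval_cases i
  · exact chk_pow19_12_0
  · exact chk_pow19_12_1
  · exact chk_pow19_12_2
  · exact chk_pow19_12_3
  · exact chk_pow19_12_4
  · exact chk_pow19_12_5
  · exact chk_pow19_12_6
  · exact chk_pow19_12_7
  · exact chk_pow19_12_8
  · exact chk_pow19_12_9
  · exact chk_pow19_12_10
  · exact chk_pow19_12_11
  · exact chk_pow19_12_12
  · exact chk_pow19_12_13
  · exact chk_pow19_12_14

theorem chk_pow19_13_0 : tab.minOKc [1, 2, 3, 6, 1, 2, 3, 6, 1, 2, 3, 6, 1, 2, 3, 6, 1, 2, 3, 6, 9] 1 296985 1523 = true := by decide +kernel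

theorem chk_pow19_13_1 : tab.minOKc [1, 2, 3, 6, 1, 2, 3, 6, 1, 2, 3, 6, 1, 2, 3, 6, 1, 2, 3, 6, 9] 1 298508 1523 = true := by decide +kernel

theorem chk_pow19_13_2 : tab.minOKc [1, 2, 3, 6, 1, 2, 3, 6, 1, 2, 3, 6, 1, 2, 3, 6, 1, 2, 3, 6, 9] 1 300031 1523 = true := by decide +kernel

theorem chk_pow19_13_3 : tab.minOKc [1, 2, 3, 6, 1, 2, 3, 6, 1, 2, 3, 6, 1, 2, 3, 6, 1, 2, 3, 6, 9] 1 301554 1523 = true := by decide +kernel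

theorem chk_pow19_13_4 : tab.minOKc [1, 2, 3, 6, 1, 2, 3, 6, 1, 2, 3, 6, 1, 2, 3, 6, 1, 2, 3, 6, 9] 1 303077 1523 = true := by decide +kernel

theorem chk_pow19_13_5 : tab.minOKc [1, 2, 3, 6, 1, 2, 3, 6, 1, 2, 3, 6, 1, 2, 3, 6, 1, 2, 3, 6, 9] 1 304600 1523 = true := by decide +kernel

theorem chk_pow19_13_6 : tab.minOKc [1, 2, 3, 6, 1, 2, 3, 6, 1, 2, 3, 6, 1, 2, 3, 6, 1, 2, 3, 6, 9] 1 306123 1523 = true := by decide +kernel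

theorem chk_pow19_13_7 : tab.minOKc [1, 2, 3, 6, 1, 2, 3, 6, 1, 2, 3, 6, 1, 2, 3, 6, 1, 2, 3, 6, 9] 1 307646 1523 = true := by decide +kernel

theorem chk_pow19_13_8 : tab.minOKc [1, 2, 3, 6, 1, 2, 3, 6, 1, 2, 3, 6, 1, 2, 3, 6, 1, 2, 3, 6, 9] 1 309169 1523 = true := by decide +kernel

theorem chk_pow19_13_9 : tab.minOKc [1, 2, 3, 6, 1, 2, 3, 6, 1, 2, 3, 6, 1, 2, 3, 6, 1, 2, 3, 6, 9] 1 310692 1523 = true := by decide +kernel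

theorem chk_pow19_13_10 : tab.minOKc [1, 2, 3, 6, 1, 2, 3, 6, 1, 2, 3, 6, 1, 2, 3, 6, 1, 2, 3, 6, 9] 1 312215 1523 = true := by decide +kernel

theorem chk_pow19_13_11 : tab.minOKc [1, 2, 3, 6, 1, 2, 3, 6, 1, 2, 3, 6, 1, 2, 3, 6, 1, 2, 3, 6, 9] 1 313738 1523 = true := by decide +kernel

theorem chk_pow19_13_12 : tab.minOKc [1, 2, 3, 6, 1, 2, 3, 6, 1, 2, 3, 6, 1, 2, 3, 6, 1, 2, 3, 6, 9] 1 315261 1523 = true := by decide +kernel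

theorem chk_pow19_13_13 : tab.minOKc [1, 2, 3, 6, 1, 2, 3, 6, 1, 2, 3, 6, 1, 2, 3, 6, 1, 2, 3, 6, 9] 1 316784 1523 = true := by decide +kernel

theorem chk_pow19_13_14 : tab.minOKc [1, 2, 3, 6, 1, 2, 3, 6, 1, 2, 3, 6, 1, 2, 3, 6, 1, 2, 3, 6, 9] 1 318307 1523 = true := by decide +kernel

theorem chk_pow19_13 : tab.minOKc [1, 2, 3, 6, 1, 2, 3, 6, 1, 2, 3, 6, 1, 2, 3, 6, 1, 2, 3, 6, 9] 1 296985 22845 = true := by
  refine tab.minOKc_of_chunks [1, 2, 3, 6, 1, 2, 3, 6, 1, 2, 3, 6, 1, 2, 3, 6, 1, 2, 3, 6, 9] 1 296985 1523 15 (by norm_num) ?_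
  intro i hi
  interval_cases i
  · exact chk_pow19_13_0
  · exact chk_pow19_13_1
  · exact chk_pow19_13_2
  · exact chk_pow19_13_3
  · exact chk_pow19_13_4
  · exact chk_pow19_13_5
  · exact chk_pow19_13_6
  · exact chk_pow19_13_7
  · exact chk_pow19_13_8
  · exact chk_pow19_13_9
  · exact chk_pow19_13_10
  · exact chk_pow19_13_11
  · exact chk_pow19_13_12
  · exact chk_pow19_13_13
  · exact chk_pow19_13_14


end Cfsg.Agent.Lib.Lead.ON3.C3
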