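import Cfsg.Agent.Lib.Lead.ON3.C3Data
import Cfsg.Agent.Lib.Helper6.TCRel3
import Cfsg.Agent.Lib.Lead.ON3.C3Rel22

/-! # The triple cover of O'N: the kernel check of a part of the relators on the table -/

set_option autoImplicit false

namespace Cfsg.Agent.Lib.Lead.ON3.C3

open Cfsg.Agent.Lib.Helper6.TC

theorem chk_pow20_1_0 : tab.minOKc [6, 1, 2, 6, 2, 1, 6, 1, 2, 6, 2, 9] 1 39990 2666 = true := by decide +kernel

theorem chk_pow20_1_1 : tab.minOKc [6, 1, 2, 6, 2, 1, 6, 1, 2, 6, 2, 9] 1 42656 2666 = true := by decide +kernel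

theorem chk_pow20_1_2 : tab.minOKc [6, 1, 2, 6, 2, 1, 6, 1, 2, 6, 2, 9] 1 45322 2666 = true := by decide +kernel

theorem chk_pow20_1_3 : tab.minOKc [6, 1, 2, 6, 2, 1, 6, 1, 2, 6, 2, 9] 1 47988 2666 = true := by decide +kernel

theorem chk_pow20_1_4 : tab.minOKc [6, 1, 2, 6, 2, 1, 6, 1, 2, 6, 2, 9] 1 50654 2666 = true := by decide +kernel

theorem chk_pow20_1_5 : tab.minOKc [6, 1, 2, 6, 2, 1, 6, 1, 2, 6, 2, 9] 1 53320 2666 = true := by decide +kernel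

theorem chk_pow20_1_6 : tab.minOKc [6, 1, 2, 6, 2, 1, 6, 1, 2, 6, 2, 9] 1 55986 2666 = true := by decide +kernel

theorem chk_pow20_1_7 : tab.minOKc [6, 1, 2, 6, 2, 1, 6, 1, 2, 6, 2, 9] 1 58652 2666 = true := by decide +kernel

theorem chk_pow20_1_8 : tab.minOKc [6, 1, 2, 6, 2, 1, 6, 1, 2, 6, 2, 9] 1 61318 2666 = true := by decide +kernel

theorem chk_pow20_1_9 : tab.minOKc [6, 1, 2, 6, 2, 1, 6, 1, 2, 6, 2, 9] 1 63984 2666 = true := by decide +kernel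

theorem chk_pow20_1_10 : tab.minOKc [6, 1, 2, 6, 2, 1, 6, 1, 2, 6, 2, 9] 1 66650 2666 = true := by decide +kernel

theorem chk_pow20_1_11 : tab.minOKc [6, 1, 2, 6, 2, 1, 6, 1, 2, 6, 2, 9] 1 69316 2666 = true := by decide +kernel

theorem chk_pow20_1_12 : tab.minOKc [6, 1, 2, 6, 2, 1, 6, 1, 2, 6, 2, 9] 1 71982 2666 = true := by decide +kernel

theorem chk_pow20_1_13 : tab.minOKc [6, 1, 2, 6, 2, 1, 6, 1, 2, 6, 2, 9] 1 74648 2666 = true := by decide +kernel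

theorem chk_pow20_1_14 : tab.minOKc [6, 1, 2, 6, 2, 1, 6, 1, 2, 6, 2, 9] 1 77314 2666 = true := by decide +kernel

theorem chk_pow20_1 : tab.minOKc [6, 1, 2, 6, 2, 1, 6, 1, 2, 6, 2, 9] 1 39990 39990 = true := by
  refine tab.minOKc_of_chunks [6, 1, 2, 6, 2, 1, 6, 1, 2, 6, 2, 9] 1 39990 2666 15 (by norm_num) ?_
  intro i hi
  interval_cases i
  · exact chk_pow20_1_0
  · exact chk_pow20_1_1
  · exact chk_pow20_1_2
  · exact chk_pow20_1_3
  · exact chk_pow20_1_4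
  · exact chk_pow20_1_5
  · exact chk_pow20_1_6
  · exact chk_pow20_1_7
  · exact chk_pow20_1_8
  · exact chk_pow20_1_9
  · exact chk_pow20_1_10
  · exact chk_pow20_1_11
  · exact chk_pow20_1_12
  · exact chk_pow20_1_13
  · exact chk_pow20_1_14

theorem chk_pow20_2_0 : tab.minOKc [6, 1, 2, 6, 2, 1, 6, 1, 2, 6, 2, 9] 1 79980 2666 = true := by decide +kernel

theorem chk_pow20_2_1 : tab.minOKc [6, 1, 2, 6, 2, 1, 6, 1, 2, 6, 2, 9] 1 82646 2666 = true := by decide +kernel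

theorem chk_pow20_2_2 : tab.minOKc [6, 1, 2, 6, 2, 1, 6, 1, 2, 6, 2, 9] 1 85312 2666 = true := by decide +kernel

theorem chk_pow20_2_3 : tab.minOKc [6, 1, 2, 6, 2, 1, 6, 1, 2, 6, 2, 9] 1 87978 2666 = true := by decide +kernel

theorem chk_pow20_2_4 : tab.minOKc [6, 1, 2, 6, 2, 1, 6, 1, 2, 6, 2, 9] 1 90644 2666 = true := by decide +kernel

theorem chk_pow20_2_5 : tab.minOKc [6, 1, 2, 6, 2, 1, 6, 1, 2, 6, 2, 9] 1 93310 2666 = true := by decide +kernel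

theorem chk_pow20_2_6 : tab.minOKc [6, 1, 2, 6, 2, 1, 6, 1, 2, 6, 2, 9] 1 95976 2666 = true := by decide +kernel

theorem chk_pow20_2_7 : tab.minOKc [6, 1, 2, 6, 2, 1, 6, 1, 2, 6, 2, 9] 1 98642 2666 = true := by decide +kernel

theorem chk_pow20_2_8 : tab.minOKc [6, 1, 2, 6, 2, 1, 6, 1, 2, 6, 2, 9] 1 101308 2666 = true := by decide +kernel

theorem chk_pow20_2_9 : tab.minOKc [6, 1, 2, 6, 2, 1, 6, 1, 2, 6, 2, 9] 1 103974 2666 = true := by decide +kernel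

theorem chk_pow20_2_10 : tab.minOKc [6, 1, 2, 6, 2, 1, 6, 1, 2, 6, 2, 9] 1 106640 2666 = true := by decide +kernel

theorem chk_pow20_2_11 : tab.minOKc [6, 1, 2, 6, 2, 1, 6, 1, 2, 6, 2, 9] 1 109306 2666 = true := by decide +kernel

theorem chk_pow20_2_12 : tab.minOKc [6, 1, 2, 6, 2, 1, 6, 1, 2, 6, 2, 9] 1 111972 2666 = true := by decide +kernel

theorem chk_pow20_2_13 : tab.minOKc [6, 1, 2, 6, 2, 1, 6, 1, 2, 6, 2, 9] 1 114638 2666 = true := by decide +kernel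

theorem chk_pow20_2_14 : tab.minOKc [6, 1, 2, 6, 2, 1, 6, 1, 2, 6, 2, 9] 1 117304 2666 = true := by decide +kernel

theorem chk_pow20_2 : tab.minOKc [6, 1, 2, 6, 2, 1, 6, 1, 2, 6, 2, 9] 1 79980 39990 = true := by
  refine tab.minOKc_of_chunks [6, 1, 2, 6, 2, 1, 6, 1, 2, 6, 2, 9] 1 79980 2666 15 (by norm_num) ?_
  intro i hi
  interval_cases i
  · exact chk_pow20_2_0
  · exact chk_pow20_2_1
  · exact chk_pow20_2_2
  · exact chk_pow20_2_3
  · exact chk_pow20_2_4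
  · exact chk_pow20_2_5
  · exact chk_pow20_2_6
  · exact chk_pow20_2_7
  · exact chk_pow20_2_8
  · exact chk_pow20_2_9
  · exact chk_pow20_2_10
  · exact chk_pow20_2_11
  · exact chk_pow20_2_12
  · exact chk_pow20_2_13
  · exact chk_pow20_2_14


end Cfsg.Agent.Lib.Lead.ON3.C3
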