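import Cfsg.Agent.Lib.Lead.ON3.C3Data
import Cfsg.Agent.Lib.Helper6.TCRel3
import Cfsg.Agent.Lib.Lead.ON3.C3Rel24

/-! # The triple cover of O'N: the kernel check of a part of the relators on the table -/

set_option autoImplicit false

namespace Cfsg.Agent.Lib.Lead.ON3.C3

open Cfsg.Agent.Lib.Helper6.TC

theorem chk_pow20_5_0 : tab.minOKc [6, 1, 2, 6, 2, 1, 6, 1, 2, 6, 2, 9] 1 199950 2666 = true := by decide +kernel

theorem chk_pow20_5_1 : tab.minOKc [6, 1, 2, 6, 2, 1, 6, 1, 2, 6, 2, 9] 1 202616 2666 = true := by decide +kernel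

theorem chk_pow20_5_2 : tab.minOKc [6, 1, 2, 6, 2, 1, 6, 1, 2, 6, 2, 9] 1 205282 2666 = true := by decide +kernel

theorem chk_pow20_5_3 : tab.minOKc [6, 1, 2, 6, 2, 1, 6, 1, 2, 6, 2, 9] 1 207948 2666 = true := by decide +kernel

theorem chk_pow20_5_4 : tab.minOKc [6, 1, 2, 6, 2, 1, 6, 1, 2, 6, 2, 9] 1 210614 2666 = true := by decide +kernel

theorem chk_pow20_5_5 : tab.minOKc [6, 1, 2, 6, 2, 1, 6, 1, 2, 6, 2, 9] 1 213280 2666 = true := by decide +kernel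

theorem chk_pow20_5_6 : tab.minOKc [6, 1, 2, 6, 2, 1, 6, 1, 2, 6, 2, 9] 1 215946 2666 = true := by decide +kernel

theorem chk_pow20_5_7 : tab.minOKc [6, 1, 2, 6, 2, 1, 6, 1, 2, 6, 2, 9] 1 218612 2666 = true := by decide +kernel

theorem chk_pow20_5_8 : tab.minOKc [6, 1, 2, 6, 2, 1, 6, 1, 2, 6, 2, 9] 1 221278 2666 = true := by decide +kernel

theorem chk_pow20_5_9 : tab.minOKc [6, 1, 2, 6, 2, 1, 6, 1, 2, 6, 2, 9] 1 223944 2666 = true := by decide +kernel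

theorem chk_pow20_5_10 : tab.minOKc [6, 1, 2, 6, 2, 1, 6, 1, 2, 6, 2, 9] 1 226610 2666 = true := by decide +kernel

theorem chk_pow20_5_11 : tab.minOKc [6, 1, 2, 6, 2, 1, 6, 1, 2, 6, 2, 9] 1 229276 2666 = true := by decide +kernel

theorem chk_pow20_5_12 : tab.minOKc [6, 1, 2, 6, 2, 1, 6, 1, 2, 6, 2, 9] 1 231942 2666 = true := by decide +kernel

theorem chk_pow20_5_13 : tab.minOKc [6, 1, 2, 6, 2, 1, 6, 1, 2, 6, 2, 9] 1 234608 2666 = true := by decide +kernel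

theorem chk_pow20_5_14 : tab.minOKc [6, 1, 2, 6, 2, 1, 6, 1, 2, 6, 2, 9] 1 237274 2666 = true := by decide +kernel

theorem chk_pow20_5 : tab.minOKc [6, 1, 2, 6, 2, 1, 6, 1, 2, 6, 2, 9] 1 199950 39990 = true := by
  refine tab.minOKc_of_chunks [6, 1, 2, 6, 2, 1, 6, 1, 2, 6, 2, 9] 1 199950 2666 15 (by norm_num) ?_
  intro i hi
  interval_cases i
  · exact chk_pow20_5_0
  · exact chk_pow20_5_1
  · exact chk_pow20_5_2
  · exact chk_pow20_5_3
  · exact chk_pow20_5_4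
  · exact chk_pow20_5_5
  · exact chk_pow20_5_6
  · exact chk_pow20_5_7
  · exact chk_pow20_5_8
  · exact chk_pow20_5_9
  · exact chk_pow20_5_10
  · exact chk_pow20_5_11
  · exact chk_pow20_5_12
  · exact chk_pow20_5_13
  · exact chk_pow20_5_14

theorem chk_pow20_6_0 : tab.minOKc [6, 1, 2, 6, 2, 1, 6, 1, 2, 6, 2, 9] 1 239940 2666 = true := by decide +kernel

theorem chk_pow20_6_1 : tab.minOKc [6, 1, 2, 6, 2, 1, 6, 1, 2, 6, 2, 9] 1 242606 2666 = true := by decide +kernel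

theorem chk_pow20_6_2 : tab.minOKc [6, 1, 2, 6, 2, 1, 6, 1, 2, 6, 2, 9] 1 245272 2666 = true := by decide +kernel

theorem chk_pow20_6_3 : tab.minOKc [6, 1, 2, 6, 2, 1, 6, 1, 2, 6, 2, 9] 1 247938 2666 = true := by decide +kernel

theorem chk_pow20_6_4 : tab.minOKc [6, 1, 2, 6, 2, 1, 6, 1, 2, 6, 2, 9] 1 250604 2666 = true := by decide +kernel

theorem chk_pow20_6_5 : tab.minOKc [6, 1, 2, 6, 2, 1, 6, 1, 2, 6, 2, 9] 1 253270 2666 = true := by decide +kernel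

theorem chk_pow20_6_6 : tab.minOKc [6, 1, 2, 6, 2, 1, 6, 1, 2, 6, 2, 9] 1 255936 2666 = true := by decide +kernel

theorem chk_pow20_6_7 : tab.minOKc [6, 1, 2, 6, 2, 1, 6, 1, 2, 6, 2, 9] 1 258602 2666 = true := by decide +kernel

theorem chk_pow20_6_8 : tab.minOKc [6, 1, 2, 6, 2, 1, 6, 1, 2, 6, 2, 9] 1 261268 2666 = true := by decide +kernel

theorem chk_pow20_6_9 : tab.minOKc [6, 1, 2, 6, 2, 1, 6, 1, 2, 6, 2, 9] 1 263934 2666 = true := by decide +kernel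

theorem chk_pow20_6_10 : tab.minOKc [6, 1, 2, 6, 2, 1, 6, 1, 2, 6, 2, 9] 1 266600 2666 = true := by decide +kernel

theorem chk_pow20_6_11 : tab.minOKc [6, 1, 2, 6, 2, 1, 6, 1, 2, 6, 2, 9] 1 269266 2666 = true := by decide +kernel

theorem chk_pow20_6_12 : tab.minOKc [6, 1, 2, 6, 2, 1, 6, 1, 2, 6, 2, 9] 1 271932 2666 = true := by decide +kernel

theorem chk_pow20_6_13 : tab.minOKc [6, 1, 2, 6, 2, 1, 6, 1, 2, 6, 2, 9] 1 274598 2666 = true := by decide +kernel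

theorem chk_pow20_6_14 : tab.minOKc [6, 1, 2, 6, 2, 1, 6, 1, 2, 6, 2, 9] 1 277264 2666 = true := by decide +kernel

theorem chk_pow20_6 : tab.minOKc [6, 1, 2, 6, 2, 1, 6, 1, 2, 6, 2, 9] 1 239940 39990 = true := by
  refine tab.minOKc_of_chunks [6, 1, 2, 6, 2, 1, 6, 1, 2, 6, 2, 9] 1 239940 2666 15 (by norm_num) ?_
  intro i hi
  interval_cases i
  · exact chk_pow20_6_0
  · exact chk_pow20_6_1
  · exact chk_pow20_6_2
  · exact chk_pow20_6_3
  · exact chk_pow20_6_4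
  · exact chk_pow20_6_5
  · exact chk_pow20_6_6
  · exact chk_pow20_6_7
  · exact chk_pow20_6_8
  · exact chk_pow20_6_9
  · exact chk_pow20_6_10
  · exact chk_pow20_6_11
  · exact chk_pow20_6_12
  · exact chk_pow20_6_13
  · exact chk_pow20_6_14


end Cfsg.Agent.Lib.Lead.ON3.C3
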