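import Cfsg.Agent.Lib.Lead.ON3.C3Data
import Cfsg.Agent.Lib.Helper6.TCRel3
import Cfsg.Agent.Lib.Lead.ON3.C3Rel28

/-! # The triple cover of O'N: the kernel check of a part of the relators on the table -/

set_option autoImplicit false

namespace Cfsg.Agent.Lib.Lead.ON3.C3

open Cfsg.Agent.Lib.Helper6.TC

theorem chk_pow21_3_0 : tab.minOKc [6, 4, 3, 6, 3, 4, 6, 4, 3, 6, 3, 9] 1 119970 2666 = true := by decide +kernel

theorem chk_pow21_3_1 : tab.minOKc [6, 4, 3, 6, 3, 4, 6, 4, 3, 6, 3, 9] 1 122636 2666 = true := by decide +kernel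

theorem chk_pow21_3_2 : tab.minOKc [6, 4, 3, 6, 3, 4, 6, 4, 3, 6, 3, 9] 1 125302 2666 = true := by decide +kernel

theorem chk_pow21_3_3 : tab.minOKc [6, 4, 3, 6, 3, 4, 6, 4, 3, 6, 3, 9] 1 127968 2666 = true := by decide +kernel

theorem chk_pow21_3_4 : tab.minOKc [6, 4, 3, 6, 3, 4, 6, 4, 3, 6, 3, 9] 1 130634 2666 = true := by decide +kernel

theorem chk_pow21_3_5 : tab.minOKc [6, 4, 3, 6, 3, 4, 6, 4, 3, 6, 3, 9] 1 133300 2666 = true := by decide +kernel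

theorem chk_pow21_3_6 : tab.minOKc [6, 4, 3, 6, 3, 4, 6, 4, 3, 6, 3, 9] 1 135966 2666 = true := by decide +kernel

theorem chk_pow21_3_7 : tab.minOKc [6, 4, 3, 6, 3, 4, 6, 4, 3, 6, 3, 9] 1 138632 2666 = true := by decide +kernel

theorem chk_pow21_3_8 : tab.minOKc [6, 4, 3, 6, 3, 4, 6, 4, 3, 6, 3, 9] 1 141298 2666 = true := by decide +kernel

theorem chk_pow21_3_9 : tab.minOKc [6, 4, 3, 6, 3, 4, 6, 4, 3, 6, 3, 9] 1 143964 2666 = true := by decide +kernel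

theorem chk_pow21_3_10 : tab.minOKc [6, 4, 3, 6, 3, 4, 6, 4, 3, 6, 3, 9] 1 146630 2666 = true := by decide +kernel

theorem chk_pow21_3_11 : tab.minOKc [6, 4, 3, 6, 3, 4, 6, 4, 3, 6, 3, 9] 1 149296 2666 = true := by decide +kernel

theorem chk_pow21_3_12 : tab.minOKc [6, 4, 3, 6, 3, 4, 6, 4, 3, 6, 3, 9] 1 151962 2666 = true := by decide +kernel

theorem chk_pow21_3_13 : tab.minOKc [6, 4, 3, 6, 3, 4, 6, 4, 3, 6, 3, 9] 1 154628 2666 = true := by decide +kernel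

theorem chk_pow21_3_14 : tab.minOKc [6, 4, 3, 6, 3, 4, 6, 4, 3, 6, 3, 9] 1 157294 2666 = true := by decide +kernel

theorem chk_pow21_3 : tab.minOKc [6, 4, 3, 6, 3, 4, 6, 4, 3, 6, 3, 9] 1 119970 39990 = true := by
  refine tab.minOKc_of_chunks [6, 4, 3, 6, 3, 4, 6, 4, 3, 6, 3, 9] 1 119970 2666 15 (by norm_num) ?_
  intro i hi
  interval_cases i
  · exact chk_pow21_3_0
  · exact chk_pow21_3_1
  · exact chk_pow21_3_2
  · exact chk_pow21_3_3
  · exact chk_pow21_3_4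
  · exact chk_pow21_3_5
  · exact chk_pow21_3_6
  · exact chk_pow21_3_7
  · exact chk_pow21_3_8
  · exact chk_pow21_3_9
  · exact chk_pow21_3_10
  · exact chk_pow21_3_11
  · exact chk_pow21_3_12
  · exact chk_pow21_3_13
  · exact chk_pow21_3_14

theorem chk_pow21_4_0 : tab.minOKc [6, 4, 3, 6, 3, 4, 6, 4, 3, 6, 3, 9] 1 159960 2666 = true := by decide +kernel

theorem chk_pow21_4_1 : tab.minOKc [6, 4, 3, 6, 3, 4, 6, 4, 3, 6, 3, 9] 1 162626 2666 = true := by decide +kernel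

theorem chk_pow21_4_2 : tab.minOKc [6, 4, 3, 6, 3, 4, 6, 4, 3, 6, 3, 9] 1 165292 2666 = true := by decide +kernel

theorem chk_pow21_4_3 : tab.minOKc [6, 4, 3, 6, 3, 4, 6, 4, 3, 6, 3, 9] 1 167958 2666 = true := by decide +kernel

theorem chk_pow21_4_4 : tab.minOKc [6, 4, 3, 6, 3, 4, 6, 4, 3, 6, 3, 9] 1 170624 2666 = true := by decide +kernel

theorem chk_pow21_4_5 : tab.minOKc [6, 4, 3, 6, 3, 4, 6, 4, 3, 6, 3, 9] 1 173290 2666 = true := by decide +kernel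

theorem chk_pow21_4_6 : tab.minOKc [6, 4, 3, 6, 3, 4, 6, 4, 3, 6, 3, 9] 1 175956 2666 = true := by decide +kernel

theorem chk_pow21_4_7 : tab.minOKc [6, 4, 3, 6, 3, 4, 6, 4, 3, 6, 3, 9] 1 178622 2666 = true := by decide +kernel

theorem chk_pow21_4_8 : tab.minOKc [6, 4, 3, 6, 3, 4, 6, 4, 3, 6, 3, 9] 1 181288 2666 = true := by decide +kernel

theorem chk_pow21_4_9 : tab.minOKc [6, 4, 3, 6, 3, 4, 6, 4, 3, 6, 3, 9] 1 183954 2666 = true := by decide +kernel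

theorem chk_pow21_4_10 : tab.minOKc [6, 4, 3, 6, 3, 4, 6, 4, 3, 6, 3, 9] 1 186620 2666 = true := by decide +kernel

theorem chk_pow21_4_11 : tab.minOKc [6, 4, 3, 6, 3, 4, 6, 4, 3, 6, 3, 9] 1 189286 2666 = true := by decide +kernel

theorem chk_pow21_4_12 : tab.minOKc [6, 4, 3, 6, 3, 4, 6, 4, 3, 6, 3, 9] 1 191952 2666 = true := by decide +kernel

theorem chk_pow21_4_13 : tab.minOKc [6, 4, 3, 6, 3, 4, 6, 4, 3, 6, 3, 9] 1 194618 2666 = true := by decide +kernel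

theorem chk_pow21_4_14 : tab.minOKc [6, 4, 3, 6, 3, 4, 6, 4, 3, 6, 3, 9] 1 197284 2666 = true := by decide +kernel

theorem chk_pow21_4 : tab.minOKc [6, 4, 3, 6, 3, 4, 6, 4, 3, 6, 3, 9] 1 159960 39990 = true := by
  refine tab.minOKc_of_chunks [6, 4, 3, 6, 3, 4, 6, 4, 3, 6, 3, 9] 1 159960 2666 15 (by norm_num) ?_
  intro i hi
  interval_cases i
  · exact chk_pow21_4_0
  · exact chk_pow21_4_1
  · exact chk_pow21_4_2
  · exact chk_pow21_4_3
  · exact chk_pow21_4_4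
  · exact chk_pow21_4_5
  · exact chk_pow21_4_6
  · exact chk_pow21_4_7
  · exact chk_pow21_4_8
  · exact chk_pow21_4_9
  · exact chk_pow21_4_10
  · exact chk_pow21_4_11
  · exact chk_pow21_4_12
  · exact chk_pow21_4_13
  · exact chk_pow21_4_14


end Cfsg.Agent.Lib.Lead.ON3.C3
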