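import Cfsg.Agent.Lib.Lead.ON3.C3Data
import Cfsg.Agent.Lib.Helper6.TCRel3
import Cfsg.Agent.Lib.Lead.ON3.C3Rel30

/-! # The triple cover of O'N: the kernel check of a part of the relators on the table -/

set_option autoImplicit false

namespace Cfsg.Agent.Lib.Lead.ON3.C3

open Cfsg.Agent.Lib.Helper6.TC

theorem chk_pow21_7_0 : tab.minOKc [6, 4, 3, 6, 3, 4, 6, 4, 3, 6, 3, 9] 1 279930 2666 = true := by decide +kernel

theorem chk_pow21_7_1 : tab.minOKc [6, 4, 3, 6, 3, 4, 6, 4, 3, 6, 3, 9] 1 282596 2666 = true := by decide +kernel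

theorem chk_pow21_7_2 : tab.minOKc [6, 4, 3, 6, 3, 4, 6, 4, 3, 6, 3, 9] 1 285262 2666 = true := by decide +kernel

theorem chk_pow21_7_3 : tab.minOKc [6, 4, 3, 6, 3, 4, 6, 4, 3, 6, 3, 9] 1 287928 2666 = true := by decide +kernel

theorem chk_pow21_7_4 : tab.minOKc [6, 4, 3, 6, 3, 4, 6, 4, 3, 6, 3, 9] 1 290594 2666 = true := by decide +kernel

theorem chk_pow21_7_5 : tab.minOKc [6, 4, 3, 6, 3, 4, 6, 4, 3, 6, 3, 9] 1 293260 2666 = true := by decide +kernel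

theorem chk_pow21_7_6 : tab.minOKc [6, 4, 3, 6, 3, 4, 6, 4, 3, 6, 3, 9] 1 295926 2666 = true := by decide +kernel

theorem chk_pow21_7_7 : tab.minOKc [6, 4, 3, 6, 3, 4, 6, 4, 3, 6, 3, 9] 1 298592 2666 = true := by decide +kernel

theorem chk_pow21_7_8 : tab.minOKc [6, 4, 3, 6, 3, 4, 6, 4, 3, 6, 3, 9] 1 301258 2666 = true := by decide +kernel

theorem chk_pow21_7_9 : tab.minOKc [6, 4, 3, 6, 3, 4, 6, 4, 3, 6, 3, 9] 1 303924 2666 = true := by decide +kernel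

theorem chk_pow21_7_10 : tab.minOKc [6, 4, 3, 6, 3, 4, 6, 4, 3, 6, 3, 9] 1 306590 2666 = true := by decide +kernel

theorem chk_pow21_7_11 : tab.minOKc [6, 4, 3, 6, 3, 4, 6, 4, 3, 6, 3, 9] 1 309256 2666 = true := by decide +kernel

theorem chk_pow21_7_12 : tab.minOKc [6, 4, 3, 6, 3, 4, 6, 4, 3, 6, 3, 9] 1 311922 2666 = true := by decide +kernel

theorem chk_pow21_7_13 : tab.minOKc [6, 4, 3, 6, 3, 4, 6, 4, 3, 6, 3, 9] 1 314588 2666 = true := by decide +kernel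

theorem chk_pow21_7_14 : tab.minOKc [6, 4, 3, 6, 3, 4, 6, 4, 3, 6, 3, 9] 1 317254 2666 = true := by decide +kernel

theorem chk_pow21_7 : tab.minOKc [6, 4, 3, 6, 3, 4, 6, 4, 3, 6, 3, 9] 1 279930 39990 = true := by
  refine tab.minOKc_of_chunks [6, 4, 3, 6, 3, 4, 6, 4, 3, 6, 3, 9] 1 279930 2666 15 (by norm_num) ?_
  intro i hi
  interval_cases i
  · exact chk_pow21_7_0
  · exact chk_pow21_7_1
  · exact chk_pow21_7_2
  · exact chk_pow21_7_3
  · exact chk_pow21_7_4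
  · exact chk_pow21_7_5
  · exact chk_pow21_7_6
  · exact chk_pow21_7_7
  · exact chk_pow21_7_8
  · exact chk_pow21_7_9
  · exact chk_pow21_7_10
  · exact chk_pow21_7_11
  · exact chk_pow21_7_12
  · exact chk_pow21_7_13
  · exact chk_pow21_7_14

theorem chk_pow21_8_0 : tab.minOKc [6, 4, 3, 6, 3, 4, 6, 4, 3, 6, 3, 9] 1 319920 2666 = true := by decide +kernel

theorem chk_pow21_8_1 : tab.minOKc [6, 4, 3, 6, 3, 4, 6, 4, 3, 6, 3, 9] 1 322586 2666 = true := by decide +kernel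

theorem chk_pow21_8_2 : tab.minOKc [6, 4, 3, 6, 3, 4, 6, 4, 3, 6, 3, 9] 1 325252 2666 = true := by decide +kernel

theorem chk_pow21_8_3 : tab.minOKc [6, 4, 3, 6, 3, 4, 6, 4, 3, 6, 3, 9] 1 327918 2666 = true := by decide +kernel

theorem chk_pow21_8_4 : tab.minOKc [6, 4, 3, 6, 3, 4, 6, 4, 3, 6, 3, 9] 1 330584 2666 = true := by decide +kernel

theorem chk_pow21_8_5 : tab.minOKc [6, 4, 3, 6, 3, 4, 6, 4, 3, 6, 3, 9] 1 333250 2666 = true := by decide +kernel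

theorem chk_pow21_8_6 : tab.minOKc [6, 4, 3, 6, 3, 4, 6, 4, 3, 6, 3, 9] 1 335916 2666 = true := by decide +kernel

theorem chk_pow21_8_7 : tab.minOKc [6, 4, 3, 6, 3, 4, 6, 4, 3, 6, 3, 9] 1 338582 2666 = true := by decide +kernel

theorem chk_pow21_8_8 : tab.minOKc [6, 4, 3, 6, 3, 4, 6, 4, 3, 6, 3, 9] 1 341248 2666 = true := by decide +kernel

theorem chk_pow21_8_9 : tab.minOKc [6, 4, 3, 6, 3, 4, 6, 4, 3, 6, 3, 9] 1 343914 2666 = true := by decide +kernel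

theorem chk_pow21_8_10 : tab.minOKc [6, 4, 3, 6, 3, 4, 6, 4, 3, 6, 3, 9] 1 346580 2666 = true := by decide +kernel

theorem chk_pow21_8_11 : tab.minOKc [6, 4, 3, 6, 3, 4, 6, 4, 3, 6, 3, 9] 1 349246 2666 = true := by decide +kernel

theorem chk_pow21_8_12 : tab.minOKc [6, 4, 3, 6, 3, 4, 6, 4, 3, 6, 3, 9] 1 351912 2666 = true := by decide +kernel

theorem chk_pow21_8_13 : tab.minOKc [6, 4, 3, 6, 3, 4, 6, 4, 3, 6, 3, 9] 1 354578 2666 = true := by decide +kernel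

theorem chk_pow21_8_14 : tab.minOKc [6, 4, 3, 6, 3, 4, 6, 4, 3, 6, 3, 9] 1 357244 2666 = true := by decide +kernel

theorem chk_pow21_8 : tab.minOKc [6, 4, 3, 6, 3, 4, 6, 4, 3, 6, 3, 9] 1 319920 39990 = true := by
  refine tab.minOKc_of_chunks [6, 4, 3, 6, 3, 4, 6, 4, 3, 6, 3, 9] 1 319920 2666 15 (by norm_num) ?_
  intro i hi
  interval_cases i
  · exact chk_pow21_8_0
  · exact chk_pow21_8_1
  · exact chk_pow21_8_2
  · exact chk_pow21_8_3
  · exact chk_pow21_8_4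
  · exact chk_pow21_8_5
  · exact chk_pow21_8_6
  · exact chk_pow21_8_7
  · exact chk_pow21_8_8
  · exact chk_pow21_8_9
  · exact chk_pow21_8_10
  · exact chk_pow21_8_11
  · exact chk_pow21_8_12
  · exact chk_pow21_8_13
  · exact chk_pow21_8_14


end Cfsg.Agent.Lib.Lead.ON3.C3
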