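import Cfsg.Agent.Lib.Lead.ON3.C3Data
import Cfsg.Agent.Lib.Helper6.TCRel3
import Cfsg.Agent.Lib.Lead.ON3.C3Rel31

/-! # The triple cover of O'N: the kernel check of a part of the relators on the table -/

set_option autoImplicit false

namespace Cfsg.Agent.Lib.Lead.ON3.C3

open Cfsg.Agent.Lib.Helper6.TC

theorem chk_pow21_9_0 : tab.minOKc [6, 4, 3, 6, 3, 4, 6, 4, 3, 6, 3, 9] 1 359910 2666 = true := by decide +kernel

theorem chk_pow21_9_1 : tab.minOKc [6, 4, 3, 6, 3, 4, 6, 4, 3, 6, 3, 9] 1 362576 2666 = true := by decide +kernel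

theorem chk_pow21_9_2 : tab.minOKc [6, 4, 3, 6, 3, 4, 6, 4, 3, 6, 3, 9] 1 365242 2666 = true := by decide +kernel

theorem chk_pow21_9_3 : tab.minOKc [6, 4, 3, 6, 3, 4, 6, 4, 3, 6, 3, 9] 1 367908 2666 = true := by decide +kernel

theorem chk_pow21_9_4 : tab.minOKc [6, 4, 3, 6, 3, 4, 6, 4, 3, 6, 3, 9] 1 370574 2666 = true := by decide +kernel

theorem chk_pow21_9_5 : tab.minOKc [6, 4, 3, 6, 3, 4, 6, 4, 3, 6, 3, 9] 1 373240 2666 = true := by decide +kernel

theorem chk_pow21_9_6 : tab.minOKc [6, 4, 3, 6, 3, 4, 6, 4, 3, 6, 3, 9] 1 375906 2666 = true := by decide +kernel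

theorem chk_pow21_9_7 : tab.minOKc [6, 4, 3, 6, 3, 4, 6, 4, 3, 6, 3, 9] 1 378572 2666 = true := by decide +kernel

theorem chk_pow21_9_8 : tab.minOKc [6, 4, 3, 6, 3, 4, 6, 4, 3, 6, 3, 9] 1 381238 2666 = true := by decide +kernel

theorem chk_pow21_9_9 : tab.minOKc [6, 4, 3, 6, 3, 4, 6, 4, 3, 6, 3, 9] 1 383904 2666 = true := by decide +kernel

theorem chk_pow21_9_10 : tab.minOKc [6, 4, 3, 6, 3, 4, 6, 4, 3, 6, 3, 9] 1 386570 2666 = true := by decide +kernel

theorem chk_pow21_9_11 : tab.minOKc [6, 4, 3, 6, 3, 4, 6, 4, 3, 6, 3, 9] 1 389236 2666 = true := by decide +kernel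

theorem chk_pow21_9_12 : tab.minOKc [6, 4, 3, 6, 3, 4, 6, 4, 3, 6, 3, 9] 1 391902 2666 = true := by decide +kernel

theorem chk_pow21_9_13 : tab.minOKc [6, 4, 3, 6, 3, 4, 6, 4, 3, 6, 3, 9] 1 394568 2666 = true := by decide +kernel

theorem chk_pow21_9_14 : tab.minOKc [6, 4, 3, 6, 3, 4, 6, 4, 3, 6, 3, 9] 1 397234 2666 = true := by decide +kernel

theorem chk_pow21_9 : tab.minOKc [6, 4, 3, 6, 3, 4, 6, 4, 3, 6, 3, 9] 1 359910 39990 = true := by
  refine tab.minOKc_of_chunks [6, 4, 3, 6, 3, 4, 6, 4, 3, 6, 3, 9] 1 359910 2666 15 (by norm_num) ?_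
  intro i hi
  interval_cases i
  · exact chk_pow21_9_0
  · exact chk_pow21_9_1
  · exact chk_pow21_9_2
  · exact chk_pow21_9_3
  · exact chk_pow21_9_4
  · exact chk_pow21_9_5
  · exact chk_pow21_9_6
  · exact chk_pow21_9_7
  · exact chk_pow21_9_8
  · exact chk_pow21_9_9
  · exact chk_pow21_9_10
  · exact chk_pow21_9_11
  · exact chk_pow21_9_12
  · exact chk_pow21_9_13
  · exact chk_pow21_9_14

theorem chk_pow22_0_0 : tab.minOKc [8, 6, 9, 7] 1 0 8000 = true := by decide +kernel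

theorem chk_pow22_0_1 : tab.minOKc [8, 6, 9, 7] 1 8000 8000 = true := by decide +kernel

theorem chk_pow22_0_2 : tab.minOKc [8, 6, 9, 7] 1 16000 8000 = true := by decide +kernel

theorem chk_pow22_0_3 : tab.minOKc [8, 6, 9, 7] 1 24000 8000 = true := by decide +kernel

theorem chk_pow22_0_4 : tab.minOKc [8, 6, 9, 7] 1 32000 8000 = true := by decide +kernel

theorem chk_pow22_0_5 : tab.minOKc [8, 6, 9, 7] 1 40000 8000 = true := by decide +kernel

theorem chk_pow22_0_6 : tab.minOKc [8, 6, 9, 7] 1 48000 8000 = true := by decide +kernel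

theorem chk_pow22_0_7 : tab.minOKc [8, 6, 9, 7] 1 56000 8000 = true := by decide +kernel

theorem chk_pow22_0_8 : tab.minOKc [8, 6, 9, 7] 1 64000 8000 = true := by decide +kernel

theorem chk_pow22_0_9 : tab.minOKc [8, 6, 9, 7] 1 72000 8000 = true := by decide +kernel

theorem chk_pow22_0_10 : tab.minOKc [8, 6, 9, 7] 1 80000 8000 = true := by decide +kernel

theorem chk_pow22_0_11 : tab.minOKc [8, 6, 9, 7] 1 88000 8000 = true := by decide +kernel

theorem chk_pow22_0_12 : tab.minOKc [8, 6, 9, 7] 1 96000 8000 = true := by decide +kernel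

theorem chk_pow22_0_13 : tab.minOKc [8, 6, 9, 7] 1 104000 8000 = true := by decide +kernel

theorem chk_pow22_0_14 : tab.minOKc [8, 6, 9, 7] 1 112000 8000 = true := by decide +kernel

theorem chk_pow22_0 : tab.minOKc [8, 6, 9, 7] 1 0 120000 = true := by
  refine tab.minOKc_of_chunks [8, 6, 9, 7] 1 0 8000 15 (by norm_num) ?_
  intro i hi
  interval_cases i
  · exact chk_pow22_0_0
  · exact chk_pow22_0_1
  · exact chk_pow22_0_2
  · exact chk_pow22_0_3
  · exact chk_pow22_0_4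
  · exact chk_pow22_0_5
  · exact chk_pow22_0_6
  · exact chk_pow22_0_7
  · exact chk_pow22_0_8
  · exact chk_pow22_0_9
  · exact chk_pow22_0_10
  · exact chk_pow22_0_11
  · exact chk_pow22_0_12
  · exact chk_pow22_0_13
  · exact chk_pow22_0_14


end Cfsg.Agent.Lib.Lead.ON3.C3
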