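import Cfsg.Agent.Lib.Lead.ON3.C3Data
import Cfsg.Agent.Lib.Helper6.TCRel3
import Cfsg.Agent.Lib.Lead.ON3.C3Rel34

/-! # The triple cover of O'N: the kernel check of a part of the relators on the table -/

set_option autoImplicit false

namespace Cfsg.Agent.Lib.Lead.ON3.C3

open Cfsg.Agent.Lib.Helper6.TC

theorem chk_pow23_1_0 : tab.minOKc [8, 0, 9, 0] 1 120000 8000 = true := by decide +kernel

theorem chk_pow23_1_1 : tab.minOKc [8, 0, 9, 0] 1 128000 8000 = true := by decide +kernel

theorem chk_pow23_1_2 : tab.minOKc [8, 0, 9, 0] 1 136000 8000 = true := by decide +kernel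

theorem chk_pow23_1_3 : tab.minOKc [8, 0, 9, 0] 1 144000 8000 = true := by decide +kernel

theorem chk_pow23_1_4 : tab.minOKc [8, 0, 9, 0] 1 152000 8000 = true := by decide +kernel

theorem chk_pow23_1_5 : tab.minOKc [8, 0, 9, 0] 1 160000 8000 = true := by decide +kernel

theorem chk_pow23_1_6 : tab.minOKc [8, 0, 9, 0] 1 168000 8000 = true := by decide +kernel

theorem chk_pow23_1_7 : tab.minOKc [8, 0, 9, 0] 1 176000 8000 = true := by decide +kernel

theorem chk_pow23_1_8 : tab.minOKc [8, 0, 9, 0] 1 184000 8000 = true := by decide +kernel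

theorem chk_pow23_1_9 : tab.minOKc [8, 0, 9, 0] 1 192000 8000 = true := by decide +kernel

theorem chk_pow23_1_10 : tab.minOKc [8, 0, 9, 0] 1 200000 8000 = true := by decide +kernel

theorem chk_pow23_1_11 : tab.minOKc [8, 0, 9, 0] 1 208000 8000 = true := by decide +kernel

theorem chk_pow23_1_12 : tab.minOKc [8, 0, 9, 0] 1 216000 8000 = true := by decide +kernel

theorem chk_pow23_1_13 : tab.minOKc [8, 0, 9, 0] 1 224000 8000 = true := by decide +kernel

theorem chk_pow23_1_14 : tab.minOKc [8, 0, 9, 0] 1 232000 8000 = true := by decide +kernel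

theorem chk_pow23_1 : tab.minOKc [8, 0, 9, 0] 1 120000 120000 = true := by
  refine tab.minOKc_of_chunks [8, 0, 9, 0] 1 120000 8000 15 (by norm_num) ?_
  intro i hi
  interval_cases i
  · exact chk_pow23_1_0
  · exact chk_pow23_1_1
  · exact chk_pow23_1_2
  · exact chk_pow23_1_3
  · exact chk_pow23_1_4
  · exact chk_pow23_1_5
  · exact chk_pow23_1_6
  · exact chk_pow23_1_7
  · exact chk_pow23_1_8
  · exact chk_pow23_1_9
  · exact chk_pow23_1_10
  · exact chk_pow23_1_11
  · exact chk_pow23_1_12
  · exact chk_pow23_1_13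
  · exact chk_pow23_1_14

theorem chk_pow23_2_0 : tab.minOKc [8, 0, 9, 0] 1 240000 8000 = true := by decide +kernel

theorem chk_pow23_2_1 : tab.minOKc [8, 0, 9, 0] 1 248000 8000 = true := by decide +kernel

theorem chk_pow23_2_2 : tab.minOKc [8, 0, 9, 0] 1 256000 8000 = true := by decide +kernel

theorem chk_pow23_2_3 : tab.minOKc [8, 0, 9, 0] 1 264000 8000 = true := by decide +kernel

theorem chk_pow23_2_4 : tab.minOKc [8, 0, 9, 0] 1 272000 8000 = true := by decide +kernel

theorem chk_pow23_2_5 : tab.minOKc [8, 0, 9, 0] 1 280000 8000 = true := by decide +kernel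

theorem chk_pow23_2_6 : tab.minOKc [8, 0, 9, 0] 1 288000 8000 = true := by decide +kernel

theorem chk_pow23_2_7 : tab.minOKc [8, 0, 9, 0] 1 296000 8000 = true := by decide +kernel

theorem chk_pow23_2_8 : tab.minOKc [8, 0, 9, 0] 1 304000 8000 = true := by decide +kernel

theorem chk_pow23_2_9 : tab.minOKc [8, 0, 9, 0] 1 312000 8000 = true := by decide +kernel

theorem chk_pow23_2_10 : tab.minOKc [8, 0, 9, 0] 1 320000 8000 = true := by decide +kernel

theorem chk_pow23_2_11 : tab.minOKc [8, 0, 9, 0] 1 328000 8000 = true := by decide +kernel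

theorem chk_pow23_2_12 : tab.minOKc [8, 0, 9, 0] 1 336000 8000 = true := by decide +kernel

theorem chk_pow23_2_13 : tab.minOKc [8, 0, 9, 0] 1 344000 8000 = true := by decide +kernel

theorem chk_pow23_2_14 : tab.minOKc [8, 0, 9, 0] 1 352000 8000 = true := by decide +kernel

theorem chk_pow23_2 : tab.minOKc [8, 0, 9, 0] 1 240000 120000 = true := by
  refine tab.minOKc_of_chunks [8, 0, 9, 0] 1 240000 8000 15 (by norm_num) ?_
  intro i hi
  interval_cases i
  · exact chk_pow23_2_0
  · exact chk_pow23_2_1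
  · exact chk_pow23_2_2
  · exact chk_pow23_2_3
  · exact chk_pow23_2_4
  · exact chk_pow23_2_5
  · exact chk_pow23_2_6
  · exact chk_pow23_2_7
  · exact chk_pow23_2_8
  · exact chk_pow23_2_9
  · exact chk_pow23_2_10
  · exact chk_pow23_2_11
  · exact chk_pow23_2_12
  · exact chk_pow23_2_13
  · exact chk_pow23_2_14


end Cfsg.Agent.Lib.Lead.ON3.C3
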