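import Cfsg.Agent.Lib.Lead.ON3.C3Data
import Cfsg.Agent.Lib.Helper6.TCRel3
import Cfsg.Agent.Lib.Lead.ON3.C3Rel20

/-! # The triple cover of O'N: the kernel check of a part of the relators on the table -/

set_option autoImplicit false

namespace Cfsg.Agent.Lib.Lead.ON3.C3

open Cfsg.Agent.Lib.Helper6.TC

theorem chk_pow19_14_0 : tab.minOKc [1, 2, 3, 6, 1, 2, 3, 6, 1, 2, 3, 6, 1, 2, 3, 6, 1, 2, 3, 6, 9] 1 319830 1523 = true := by decide +kernel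

theorem chk_pow19_14_1 : tab.minOKc [1, 2, 3, 6, 1, 2, 3, 6, 1, 2, 3, 6, 1, 2, 3, 6, 1, 2, 3, 6, 9] 1 321353 1523 = true := by decide +kernel

theorem chk_pow19_14_2 : tab.minOKc [1, 2, 3, 6, 1, 2, 3, 6, 1, 2, 3, 6, 1, 2, 3, 6, 1, 2, 3, 6, 9] 1 322876 1523 = true := by decide +kernel

theorem chk_pow19_14_3 : tab.minOKc [1, 2, 3, 6, 1, 2, 3, 6, 1, 2, 3, 6, 1, 2, 3, 6, 1, 2, 3, 6, 9] 1 324399 1523 = true := by decide +kernel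

theorem chk_pow19_14_4 : tab.minOKc [1, 2, 3, 6, 1, 2, 3, 6, 1, 2, 3, 6, 1, 2, 3, 6, 1, 2, 3, 6, 9] 1 325922 1523 = true := by decide +kernel

theorem chk_pow19_14_5 : tab.minOKc [1, 2, 3, 6, 1, 2, 3, 6, 1, 2, 3, 6, 1, 2, 3, 6, 1, 2, 3, 6, 9] 1 327445 1523 = true := by decide +kernel

theorem chk_pow19_14_6 : tab.minOKc [1, 2, 3, 6, 1, 2, 3, 6, 1, 2, 3, 6, 1, 2, 3, 6, 1, 2, 3, 6, 9] 1 328968 1523 = true := by decide +kernel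

theorem chk_pow19_14_7 : tab.minOKc [1, 2, 3, 6, 1, 2, 3, 6, 1, 2, 3, 6, 1, 2, 3, 6, 1, 2, 3, 6, 9] 1 330491 1523 = true := by decide +kernel

theorem chk_pow19_14_8 : tab.minOKc [1, 2, 3, 6, 1, 2, 3, 6, 1, 2, 3, 6, 1, 2, 3, 6, 1, 2, 3, 6, 9] 1 332014 1523 = true := by decide +kernel

theorem chk_pow19_14_9 : tab.minOKc [1, 2, 3, 6, 1, 2, 3, 6, 1, 2, 3, 6, 1, 2, 3, 6, 1, 2, 3, 6, 9] 1 333537 1523 = true := by decide +kernel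

theorem chk_pow19_14_10 : tab.minOKc [1, 2, 3, 6, 1, 2, 3, 6, 1, 2, 3, 6, 1, 2, 3, 6, 1, 2, 3, 6, 9] 1 335060 1523 = true := by decide +kernel

theorem chk_pow19_14_11 : tab.minOKc [1, 2, 3, 6, 1, 2, 3, 6, 1, 2, 3, 6, 1, 2, 3, 6, 1, 2, 3, 6, 9] 1 336583 1523 = true := by decide +kernel

theorem chk_pow19_14_12 : tab.minOKc [1, 2, 3, 6, 1, 2, 3, 6, 1, 2, 3, 6, 1, 2, 3, 6, 1, 2, 3, 6, 9] 1 338106 1523 = true := by decide +kernel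

theorem chk_pow19_14_13 : tab.minOKc [1, 2, 3, 6, 1, 2, 3, 6, 1, 2, 3, 6, 1, 2, 3, 6, 1, 2, 3, 6, 9] 1 339629 1523 = true := by decide +kernel

theorem chk_pow19_14_14 : tab.minOKc [1, 2, 3, 6, 1, 2, 3, 6, 1, 2, 3, 6, 1, 2, 3, 6, 1, 2, 3, 6, 9] 1 341152 1523 = true := by decide +kernel

theorem chk_pow19_14 : tab.minOKc [1, 2, 3, 6, 1, 2, 3, 6, 1, 2, 3, 6, 1, 2, 3, 6, 1, 2, 3, 6, 9] 1 319830 22845 = true := by
  refine tab.minOKc_of_chunks [1, 2, 3, 6, 1, 2, 3, 6, 1, 2, 3, 6, 1, 2, 3, 6, 1, 2, 3, 6, 9] 1 319830 1523 15 (by norm_num) ?_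
  intro i hi
  interval_cases i
  · exact chk_pow19_14_0
  · exact chk_pow19_14_1
  · exact chk_pow19_14_2
  · exact chk_pow19_14_3
  · exact chk_pow19_14_4
  · exact chk_pow19_14_5
  · exact chk_pow19_14_6
  · exact chk_pow19_14_7
  · exact chk_pow19_14_8
  · exact chk_pow19_14_9
  · exact chk_pow19_14_10
  · exact chk_pow19_14_11
  · exact chk_pow19_14_12
  · exact chk_pow19_14_13
  · exact chk_pow19_14_14

theorem chk_pow19_15_0 : tab.minOKc [1, 2, 3, 6, 1, 2, 3, 6, 1, 2, 3, 6, 1, 2, 3, 6, 1, 2, 3, 6, 9] 1 342675 1523 = true := by decide +kernel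

theorem chk_pow19_15_1 : tab.minOKc [1, 2, 3, 6, 1, 2, 3, 6, 1, 2, 3, 6, 1, 2, 3, 6, 1, 2, 3, 6, 9] 1 344198 1523 = true := by decide +kernel

theorem chk_pow19_15_2 : tab.minOKc [1, 2, 3, 6, 1, 2, 3, 6, 1, 2, 3, 6, 1, 2, 3, 6, 1, 2, 3, 6, 9] 1 345721 1523 = true := by decide +kernel

theorem chk_pow19_15_3 : tab.minOKc [1, 2, 3, 6, 1, 2, 3, 6, 1, 2, 3, 6, 1, 2, 3, 6, 1, 2, 3, 6, 9] 1 347244 1523 = true := by decide +kernel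

theorem chk_pow19_15_4 : tab.minOKc [1, 2, 3, 6, 1, 2, 3, 6, 1, 2, 3, 6, 1, 2, 3, 6, 1, 2, 3, 6, 9] 1 348767 1523 = true := by decide +kernel

theorem chk_pow19_15_5 : tab.minOKc [1, 2, 3, 6, 1, 2, 3, 6, 1, 2, 3, 6, 1, 2, 3, 6, 1, 2, 3, 6, 9] 1 350290 1523 = true := by decide +kernel

theorem chk_pow19_15_6 : tab.minOKc [1, 2, 3, 6, 1, 2, 3, 6, 1, 2, 3, 6, 1, 2, 3, 6, 1, 2, 3, 6, 9] 1 351813 1523 = true := by decide +kernel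

theorem chk_pow19_15_7 : tab.minOKc [1, 2, 3, 6, 1, 2, 3, 6, 1, 2, 3, 6, 1, 2, 3, 6, 1, 2, 3, 6, 9] 1 353336 1523 = true := by decide +kernel

theorem chk_pow19_15_8 : tab.minOKc [1, 2, 3, 6, 1, 2, 3, 6, 1, 2, 3, 6, 1, 2, 3, 6, 1, 2, 3, 6, 9] 1 354859 1523 = true := by decide +kernel

theorem chk_pow19_15_9 : tab.minOKc [1, 2, 3, 6, 1, 2, 3, 6, 1, 2, 3, 6, 1, 2, 3, 6, 1, 2, 3, 6, 9] 1 356382 1523 = true := by decide +kernel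

theorem chk_pow19_15_10 : tab.minOKc [1, 2, 3, 6, 1, 2, 3, 6, 1, 2, 3, 6, 1, 2, 3, 6, 1, 2, 3, 6, 9] 1 357905 1523 = true := by decide +kernel

theorem chk_pow19_15_11 : tab.minOKc [1, 2, 3, 6, 1, 2, 3, 6, 1, 2, 3, 6, 1, 2, 3, 6, 1, 2, 3, 6, 9] 1 359428 1523 = true := by decide +kernel

theorem chk_pow19_15_12 : tab.minOKc [1, 2, 3, 6, 1, 2, 3, 6, 1, 2, 3, 6, 1, 2, 3, 6, 1, 2, 3, 6, 9] 1 360951 1523 = true := by decide +kernel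

theorem chk_pow19_15_13 : tab.minOKc [1, 2, 3, 6, 1, 2, 3, 6, 1, 2, 3, 6, 1, 2, 3, 6, 1, 2, 3, 6, 9] 1 362474 1523 = true := by decide +kernel

theorem chk_pow19_15_14 : tab.minOKc [1, 2, 3, 6, 1, 2, 3, 6, 1, 2, 3, 6, 1, 2, 3, 6, 1, 2, 3, 6, 9] 1 363997 1523 = true := by decide +kernel

theorem chk_pow19_15 : tab.minOKc [1, 2, 3, 6, 1, 2, 3, 6, 1, 2, 3, 6, 1, 2, 3, 6, 1, 2, 3, 6, 9] 1 342675 22845 = true := by
  refine tab.minOKc_of_chunks [1, 2, 3, 6, 1, 2, 3, 6, 1, 2, 3, 6, 1, 2, 3, 6, 1, 2, 3, 6, 9] 1 342675 1523 15 (by norm_num) ?_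
  intro i hi
  interval_cases i
  · exact chk_pow19_15_0
  · exact chk_pow19_15_1
  · exact chk_pow19_15_2
  · exact chk_pow19_15_3
  · exact chk_pow19_15_4
  · exact chk_pow19_15_5
  · exact chk_pow19_15_6
  · exact chk_pow19_15_7
  · exact chk_pow19_15_8
  · exact chk_pow19_15_9
  · exact chk_pow19_15_10
  · exact chk_pow19_15_11
  · exact chk_pow19_15_12
  · exact chk_pow19_15_13
  · exact chk_pow19_15_14


end Cfsg.Agent.Lib.Lead.ON3.C3
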