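import Cfsg.Agent.Lib.Lead.ON3.C3Data
import Cfsg.Agent.Lib.Helper6.TCRel3
import Cfsg.Agent.Lib.Lead.ON3.C3Rel43

/-! # The triple cover of O'N: the kernel check of a part of the relators on the table -/

set_option autoImplicit false

namespace Cfsg.Agent.Lib.Lead.ON3.C3

open Cfsg.Agent.Lib.Helper6.TC

theorem chk_pow27_3_0 : tab.minOKc [8, 4, 9, 4] 1 360000 8000 = true := by decide +kernel

theorem chk_pow27_3_1 : tab.minOKc [8, 4, 9, 4] 1 368000 8000 = true := by decide +kernel

theorem chk_pow27_3_2 : tab.minOKc [8, 4, 9, 4] 1 376000 8000 = true := by decide +kernel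

theorem chk_pow27_3_3 : tab.minOKc [8, 4, 9, 4] 1 384000 8000 = true := by decide +kernel

theorem chk_pow27_3_4 : tab.minOKc [8, 4, 9, 4] 1 392000 8000 = true := by decide +kernel

theorem chk_pow27_3_5 : tab.minOKc [8, 4, 9, 4] 1 400000 8000 = true := by decide +kernel

theorem chk_pow27_3_6 : tab.minOKc [8, 4, 9, 4] 1 408000 8000 = true := by decide +kernel

theorem chk_pow27_3_7 : tab.minOKc [8, 4, 9, 4] 1 416000 8000 = true := by decide +kernel

theorem chk_pow27_3_8 : tab.minOKc [8, 4, 9, 4] 1 424000 8000 = true := by decide +kernel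

theorem chk_pow27_3_9 : tab.minOKc [8, 4, 9, 4] 1 432000 8000 = true := by decide +kernel

theorem chk_pow27_3_10 : tab.minOKc [8, 4, 9, 4] 1 440000 8000 = true := by decide +kernel

theorem chk_pow27_3_11 : tab.minOKc [8, 4, 9, 4] 1 448000 8000 = true := by decide +kernel

theorem chk_pow27_3_12 : tab.minOKc [8, 4, 9, 4] 1 456000 8000 = true := by decide +kernel

theorem chk_pow27_3_13 : tab.minOKc [8, 4, 9, 4] 1 464000 8000 = true := by decide +kernel

theorem chk_pow27_3_14 : tab.minOKc [8, 4, 9, 4] 1 472000 8000 = true := by decide +kernel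

theorem chk_pow27_3 : tab.minOKc [8, 4, 9, 4] 1 360000 120000 = true := by
  refine tab.minOKc_of_chunks [8, 4, 9, 4] 1 360000 8000 15 (by norm_num) ?_
  intro i hi
  interval_cases i
  · exact chk_pow27_3_0
  · exact chk_pow27_3_1
  · exact chk_pow27_3_2
  · exact chk_pow27_3_3
  · exact chk_pow27_3_4
  · exact chk_pow27_3_5
  · exact chk_pow27_3_6
  · exact chk_pow27_3_7
  · exact chk_pow27_3_8
  · exact chk_pow27_3_9
  · exact chk_pow27_3_10
  · exact chk_pow27_3_11
  · exact chk_pow27_3_12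
  · exact chk_pow27_3_13
  · exact chk_pow27_3_14

theorem chk_pow28_0_0 : tab.minOKc [8, 5, 9, 5] 1 0 8000 = true := by decide +kernel

theorem chk_pow28_0_1 : tab.minOKc [8, 5, 9, 5] 1 8000 8000 = true := by decide +kernel

theorem chk_pow28_0_2 : tab.minOKc [8, 5, 9, 5] 1 16000 8000 = true := by decide +kernel

theorem chk_pow28_0_3 : tab.minOKc [8, 5, 9, 5] 1 24000 8000 = true := by decide +kernel

theorem chk_pow28_0_4 : tab.minOKc [8, 5, 9, 5] 1 32000 8000 = true := by decide +kernel

theorem chk_pow28_0_5 : tab.minOKc [8, 5, 9, 5] 1 40000 8000 = true := by decide +kernel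

theorem chk_pow28_0_6 : tab.minOKc [8, 5, 9, 5] 1 48000 8000 = true := by decide +kernel

theorem chk_pow28_0_7 : tab.minOKc [8, 5, 9, 5] 1 56000 8000 = true := by decide +kernel

theorem chk_pow28_0_8 : tab.minOKc [8, 5, 9, 5] 1 64000 8000 = true := by decide +kernel

theorem chk_pow28_0_9 : tab.minOKc [8, 5, 9, 5] 1 72000 8000 = true := by decide +kernel

theorem chk_pow28_0_10 : tab.minOKc [8, 5, 9, 5] 1 80000 8000 = true := by decide +kernel

theorem chk_pow28_0_11 : tab.minOKc [8, 5, 9, 5] 1 88000 8000 = true := by decide +kernel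

theorem chk_pow28_0_12 : tab.minOKc [8, 5, 9, 5] 1 96000 8000 = true := by decide +kernel

theorem chk_pow28_0_13 : tab.minOKc [8, 5, 9, 5] 1 104000 8000 = true := by decide +kernel

theorem chk_pow28_0_14 : tab.minOKc [8, 5, 9, 5] 1 112000 8000 = true := by decide +kernel

theorem chk_pow28_0 : tab.minOKc [8, 5, 9, 5] 1 0 120000 = true := by
  refine tab.minOKc_of_chunks [8, 5, 9, 5] 1 0 8000 15 (by norm_num) ?_
  intro i hi
  interval_cases i
  · exact chk_pow28_0_0
  · exact chk_pow28_0_1
  · exact chk_pow28_0_2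
  · exact chk_pow28_0_3
  · exact chk_pow28_0_4
  · exact chk_pow28_0_5
  · exact chk_pow28_0_6
  · exact chk_pow28_0_7
  · exact chk_pow28_0_8
  · exact chk_pow28_0_9
  · exact chk_pow28_0_10
  · exact chk_pow28_0_11
  · exact chk_pow28_0_12
  · exact chk_pow28_0_13
  · exact chk_pow28_0_14


end Cfsg.Agent.Lib.Lead.ON3.C3
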