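import Cfsg.Agent.Lib.Lead.ON3.C3Data
import Cfsg.Agent.Lib.Helper6.TCRel3
import Cfsg.Agent.Lib.Lead.ON3.C3Rel45

/-! # The triple cover of O'N: the kernel check of a part of the relators on the table -/

set_option autoImplicit false

namespace Cfsg.Agent.Lib.Lead.ON3.C3

open Cfsg.Agent.Lib.Helper6.TC

theorem chk_pow28_3_0 : tab.minOKc [8, 5, 9, 5] 1 360000 8000 = true := by decide +kernel

theorem chk_pow28_3_1 : tab.minOKc [8, 5, 9, 5] 1 368000 8000 = true := by decide +kernel

theorem chk_pow28_3_2 : tab.minOKc [8, 5, 9, 5] 1 376000 8000 = true := by decide +kernel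

theorem chk_pow28_3_3 : tab.minOKc [8, 5, 9, 5] 1 384000 8000 = true := by decide +kernel

theorem chk_pow28_3_4 : tab.minOKc [8, 5, 9, 5] 1 392000 8000 = true := by decide +kernel

theorem chk_pow28_3_5 : tab.minOKc [8, 5, 9, 5] 1 400000 8000 = true := by decide +kernel

theorem chk_pow28_3_6 : tab.minOKc [8, 5, 9, 5] 1 408000 8000 = true := by decide +kernel

theorem chk_pow28_3_7 : tab.minOKc [8, 5, 9, 5] 1 416000 8000 = true := by decide +kernel

theorem chk_pow28_3_8 : tab.minOKc [8, 5, 9, 5] 1 424000 8000 = true := by decide +kernel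

theorem chk_pow28_3_9 : tab.minOKc [8, 5, 9, 5] 1 432000 8000 = true := by decide +kernel

theorem chk_pow28_3_10 : tab.minOKc [8, 5, 9, 5] 1 440000 8000 = true := by decide +kernel

theorem chk_pow28_3_11 : tab.minOKc [8, 5, 9, 5] 1 448000 8000 = true := by decide +kernel

theorem chk_pow28_3_12 : tab.minOKc [8, 5, 9, 5] 1 456000 8000 = true := by decide +kernel

theorem chk_pow28_3_13 : tab.minOKc [8, 5, 9, 5] 1 464000 8000 = true := by decide +kernel

theorem chk_pow28_3_14 : tab.minOKc [8, 5, 9, 5] 1 472000 8000 = true := by decide +kernel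

theorem chk_pow28_3 : tab.minOKc [8, 5, 9, 5] 1 360000 120000 = true := by
  refine tab.minOKc_of_chunks [8, 5, 9, 5] 1 360000 8000 15 (by norm_num) ?_
  intro i hi
  interval_cases i
  · exact chk_pow28_3_0
  · exact chk_pow28_3_1
  · exact chk_pow28_3_2
  · exact chk_pow28_3_3
  · exact chk_pow28_3_4
  · exact chk_pow28_3_5
  · exact chk_pow28_3_6
  · exact chk_pow28_3_7
  · exact chk_pow28_3_8
  · exact chk_pow28_3_9
  · exact chk_pow28_3_10
  · exact chk_pow28_3_11
  · exact chk_pow28_3_12
  · exact chk_pow28_3_13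
  · exact chk_pow28_3_14

theorem chk_pow29_0_0 : tab.minOKc [8] 3 0 32000 = true := by decide +kernel

theorem chk_pow29_0_1 : tab.minOKc [8] 3 32000 32000 = true := by decide +kernel

theorem chk_pow29_0_2 : tab.minOKc [8] 3 64000 32000 = true := by decide +kernel

theorem chk_pow29_0_3 : tab.minOKc [8] 3 96000 32000 = true := by decide +kernel

theorem chk_pow29_0_4 : tab.minOKc [8] 3 128000 32000 = true := by decide +kernel

theorem chk_pow29_0_5 : tab.minOKc [8] 3 160000 32000 = true := by decide +kernel

theorem chk_pow29_0_6 : tab.minOKc [8] 3 192000 32000 = true := by decide +kernel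

theorem chk_pow29_0_7 : tab.minOKc [8] 3 224000 32000 = true := by decide +kernel

theorem chk_pow29_0_8 : tab.minOKc [8] 3 256000 32000 = true := by decide +kernel

theorem chk_pow29_0_9 : tab.minOKc [8] 3 288000 32000 = true := by decide +kernel

theorem chk_pow29_0_10 : tab.minOKc [8] 3 320000 32000 = true := by decide +kernel

theorem chk_pow29_0_11 : tab.minOKc [8] 3 352000 32000 = true := by decide +kernel

theorem chk_pow29_0_12 : tab.minOKc [8] 3 384000 32000 = true := by decide +kernel

theorem chk_pow29_0_13 : tab.minOKc [8] 3 416000 32000 = true := by decide +kernel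

theorem chk_pow29_0_14 : tab.minOKc [8] 3 448000 32000 = true := by decide +kernel

theorem chk_pow29_0 : tab.minOKc [8] 3 0 480000 = true := by
  refine tab.minOKc_of_chunks [8] 3 0 32000 15 (by norm_num) ?_
  intro i hi
  interval_cases i
  · exact chk_pow29_0_0
  · exact chk_pow29_0_1
  · exact chk_pow29_0_2
  · exact chk_pow29_0_3
  · exact chk_pow29_0_4
  · exact chk_pow29_0_5
  · exact chk_pow29_0_6
  · exact chk_pow29_0_7
  · exact chk_pow29_0_8
  · exact chk_pow29_0_9
  · exact chk_pow29_0_10
  · exact chk_pow29_0_11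
  · exact chk_pow29_0_12
  · exact chk_pow29_0_13
  · exact chk_pow29_0_14


end Cfsg.Agent.Lib.Lead.ON3.C3
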