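import Cfsg.Agent.Lib.Lead.ON3.C3Data
import Cfsg.Agent.Lib.Helper6.TCRel3
import Cfsg.Agent.Lib.Lead.ON3.C3Rel0
import Cfsg.Agent.Lib.Lead.ON3.C3Rel1
import Cfsg.Agent.Lib.Lead.ON3.C3Rel2
import Cfsg.Agent.Lib.Lead.ON3.C3Rel3
import Cfsg.Agent.Lib.Lead.ON3.C3Rel4
import Cfsg.Agent.Lib.Lead.ON3.C3Rel5
import Cfsg.Agent.Lib.Lead.ON3.C3Rel6
import Cfsg.Agent.Lib.Lead.ON3.C3Rel7
import Cfsg.Agent.Lib.Lead.ON3.C3Rel8
import Cfsg.Agent.Lib.Lead.ON3.C3Rel9
import Cfsg.Agent.Lib.Lead.ON3.C3Rel10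
import Cfsg.Agent.Lib.Lead.ON3.C3Rel11
import Cfsg.Agent.Lib.Lead.ON3.C3Rel12
import Cfsg.Agent.Lib.Lead.ON3.C3Rel13
import Cfsg.Agent.Lib.Lead.ON3.C3Rel14
import Cfsg.Agent.Lib.Lead.ON3.C3Rel15
import Cfsg.Agent.Lib.Lead.ON3.C3Rel16
import Cfsg.Agent.Lib.Lead.ON3.C3Rel17
import Cfsg.Agent.Lib.Lead.ON3.C3Rel18
import Cfsg.Agent.Lib.Lead.ON3.C3Rel19
import Cfsg.Agent.Lib.Lead.ON3.C3Rel20
import Cfsg.Agent.Lib.Lead.ON3.C3Rel21
import Cfsg.Agent.Lib.Lead.ON3.C3Rel22
import Cfsg.Agent.Lib.Lead.ON3.C3Rel23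
import Cfsg.Agent.Lib.Lead.ON3.C3Rel24
import Cfsg.Agent.Lib.Lead.ON3.C3Rel25
import Cfsg.Agent.Lib.Lead.ON3.C3Rel26
import Cfsg.Agent.Lib.Lead.ON3.C3Rel27
import Cfsg.Agent.Lib.Lead.ON3.C3Rel28
import Cfsg.Agent.Lib.Lead.ON3.C3Rel29
import Cfsg.Agent.Lib.Lead.ON3.C3Rel30
import Cfsg.Agent.Lib.Lead.ON3.C3Rel31
import Cfsg.Agent.Lib.Lead.ON3.C3Rel32
import Cfsg.Agent.Lib.Lead.ON3.C3Rel33
import Cfsg.Agent.Lib.Lead.ON3.C3Rel34
import Cfsg.Agent.Lib.Lead.ON3.C3Rel35
import Cfsg.Agent.Lib.Lead.ON3.C3Rel36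
import Cfsg.Agent.Lib.Lead.ON3.C3Rel37
import Cfsg.Agent.Lib.Lead.ON3.C3Rel38
import Cfsg.Agent.Lib.Lead.ON3.C3Rel39
import Cfsg.Agent.Lib.Lead.ON3.C3Rel40
import Cfsg.Agent.Lib.Lead.ON3.C3Rel41
import Cfsg.Agent.Lib.Lead.ON3.C3Rel42
import Cfsg.Agent.Lib.Lead.ON3.C3Rel43
import Cfsg.Agent.Lib.Lead.ON3.C3Rel44
import Cfsg.Agent.Lib.Lead.ON3.C3Rel45
import Cfsg.Agent.Lib.Lead.ON3.C3Rel46
import Cfsg.Agent.Lib.Lead.ON3.C3Rel47
import Cfsg.Agent.Lib.Lead.ON3.C3Rel48
import Cfsg.Agent.Lib.Lead.ON3.C3Rel49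
import Cfsg.Agent.Lib.Lead.ON3.C3Rel50
import Cfsg.Agent.Lib.Lead.ON3.C3Rel51
import Cfsg.Agent.Lib.Lead.ON3.C3Rel52
import Cfsg.Agent.Lib.Lead.ON3.C3Rel53
import Cfsg.Agent.Lib.Lead.ON3.C3Rel54
import Cfsg.Agent.Lib.Lead.ON3.C3Rel55
import Cfsg.Agent.Lib.Lead.ON3.C3Rel56
import Cfsg.Agent.Lib.Lead.ON3.C3Rel57
import Cfsg.Agent.Lib.Lead.ON3.C3Rel58
import Cfsg.Agent.Lib.Lead.ON3.C3Rel59
import Cfsg.Agent.Lib.Lead.ON3.C3Rel60
import Cfsg.Agent.Lib.Lead.ON3.C3Rel61

/-! # The triple cover of O'N: the relators hold on the table -/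

set_option autoImplicit false

namespace Cfsg.Agent.Lib.Lead.ON3.C3

open Cfsg.Agent.Lib.Helper6.TC

theorem chk_pow0 : tab.minOK [0, 1] 3 = true := by
  refine tab.minOK_of_chunks [0, 1] 3 240000 2 (by decide +kernel) (by norm_num) (by show 368280 ≤ 2 * 240000; norm_num) ?_
  intro i hi
  interval_cases i
  · exact chk_pow0_0
  · exact chk_pow0_1

theorem chk_pow1 : tab.minOK [0, 2] 2 = true := by
  refine tab.minOK_of_chunks [0, 2] 2 240000 2 (by decide +kernel) (by norm_num) (by show 368280 ≤ 2 * 240000; norm_num) ?_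
  intro i hi
  interval_cases i
  · exact chk_pow1_0
  · exact chk_pow1_1

theorem chk_pow2 : tab.minOK [1, 2] 3 = true := by
  refine tab.minOK_of_chunks [1, 2] 3 240000 2 (by decide +kernel) (by norm_num) (by show 368280 ≤ 2 * 240000; norm_num) ?_
  intro i hi
  interval_cases i
  · exact chk_pow2_0
  · exact chk_pow2_1

theorem chk_pow3 : tab.minOK [0, 3] 2 = true := by
  refine tab.minOK_of_chunks [0, 3] 2 240000 2 (by decide +kernel) (by norm_num) (by show 368280 ≤ 2 * 240000; norm_num) ?_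
  intro i hi
  interval_cases i
  · exact chk_pow3_0
  · exact chk_pow3_1

theorem chk_pow4 : tab.minOK [1, 3] 2 = true := by
  refine tab.minOK_of_chunks [1, 3] 2 240000 2 (by decide +kernel) (by norm_num) (by show 368280 ≤ 2 * 240000; norm_num) ?_
  intro i hi
  interval_cases i
  · exact chk_pow4_0
  · exact chk_pow4_1

theorem chk_pow5 : tab.minOK [2, 3] 8 = true := by
  refine tab.minOK_of_chunks [2, 3] 8 240000 2 (by decide +kernel) (by norm_num) (by show 368280 ≤ 2 * 240000; norm_num) ?_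
  intro i hi
  interval_cases i
  · exact chk_pow5_0
  · exact chk_pow5_1

theorem chk_pow6 : tab.minOK [0, 4] 2 = true := by
  refine tab.minOK_of_chunks [0, 4] 2 240000 2 (by decide +kernel) (by norm_num) (by show 368280 ≤ 2 * 240000; norm_num) ?_
  intro i hi
  interval_cases i
  · exact chk_pow6_0
  · exact chk_pow6_1

theorem chk_pow7 : tab.minOK [1, 4] 2 = true := by
  refine tab.minOK_of_chunks [1, 4] 2 240000 2 (by decide +kernel) (by norm_num) (by show 368280 ≤ 2 * 240000; norm_num) ?_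
  intro i hi
  interval_cases i
  · exact chk_pow7_0
  · exact chk_pow7_1

theorem chk_pow8 : tab.minOK [2, 4] 2 = true := by
  refine tab.minOK_of_chunks [2, 4] 2 240000 2 (by decide +kernel) (by norm_num) (by show 368280 ≤ 2 * 240000; norm_num) ?_
  intro i hi
  interval_cases i
  · exact chk_pow8_0
  · exact chk_pow8_1

theorem chk_pow9 : tab.minOK [3, 4] 3 = true := by
  refine tab.minOK_of_chunks [3, 4] 3 240000 2 (by decide +kernel) (by norm_num) (by show 368280 ≤ 2 * 240000; norm_num) ?_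
  intro i hi
  interval_cases i
  · exact chk_pow9_0
  · exact chk_pow9_1

theorem chk_pow10 : tab.minOK [0, 5] 2 = true := by
  refine tab.minOK_of_chunks [0, 5] 2 240000 2 (by decide +kernel) (by norm_num) (by show 368280 ≤ 2 * 240000; norm_num) ?_
  intro i hi
  interval_cases i
  · exact chk_pow10_0
  · exact chk_pow10_1

theorem chk_pow11 : tab.minOK [1, 5] 2 = true := by
  refine tab.minOK_of_chunks [1, 5] 2 240000 2 (by decide +kernel) (by norm_num) (by show 368280 ≤ 2 * 240000; norm_num) ?_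
  intro i hi
  interval_cases i
  · exact chk_pow11_0
  · exact chk_pow11_1

theorem chk_pow12 : tab.minOK [2, 5] 2 = true := by
  refine tab.minOK_of_chunks [2, 5] 2 240000 2 (by decide +kernel) (by norm_num) (by show 368280 ≤ 2 * 240000; norm_num) ?_
  intro i hi
  interval_cases i
  · exact chk_pow12_0
  · exact chk_pow12_1

theorem chk_pow13 : tab.minOK [3, 5] 2 = true := by
  refine tab.minOK_of_chunks [3, 5] 2 240000 2 (by decide +kernel) (by norm_num) (by show 368280 ≤ 2 * 240000; norm_num) ?_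
  intro i hi
  interval_cases i
  · exact chk_pow13_0
  · exact chk_pow13_1

theorem chk_pow14 : tab.minOK [4, 5] 3 = true := by
  refine tab.minOK_of_chunks [4, 5] 3 240000 2 (by decide +kernel) (by norm_num) (by show 368280 ≤ 2 * 240000; norm_num) ?_
  intro i hi
  interval_cases i
  · exact chk_pow14_0
  · exact chk_pow14_1

theorem chk_pow15 : tab.minOK [0, 5, 7, 7] 1 = true := by
  refine tab.minOK_of_chunks [0, 5, 7, 7] 1 120000 4 (by decide +kernel) (by norm_num) (by show 368280 ≤ 4 * 120000; norm_num) ?_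
  intro i hi
  interval_cases i
  · exact chk_pow15_0
  · exact chk_pow15_1
  · exact chk_pow15_2
  · exact chk_pow15_3

theorem chk_pow16 : tab.minOK [0, 5, 3, 2, 3, 2, 3, 2, 3, 2] 1 = true := by
  refine tab.minOK_of_chunks [0, 5, 3, 2, 3, 2, 3, 2, 3, 2] 1 48000 8 (by decide +kernel) (by norm_num) (by show 368280 ≤ 8 * 48000; norm_num) ?_
  intro i hi
  interval_cases i
  · exact chk_pow16_0
  · exact chk_pow16_1
  · exact chk_pow16_2
  · exact chk_pow16_3
  · exact chk_pow16_4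
  · exact chk_pow16_5
  · exact chk_pow16_6
  · exact chk_pow16_7

theorem chk_pow17 : tab.minOK [2, 7, 3, 7, 3, 2, 3, 6, 3, 6] 1 = true := by
  refine tab.minOK_of_chunks [2, 7, 3, 7, 3, 2, 3, 6, 3, 6] 1 48000 8 (by decide +kernel) (by norm_num) (by show 368280 ≤ 8 * 48000; norm_num) ?_
  intro i hi
  interval_cases i
  · exact chk_pow17_0
  · exact chk_pow17_1
  · exact chk_pow17_2
  · exact chk_pow17_3
  · exact chk_pow17_4
  · exact chk_pow17_5
  · exact chk_pow17_6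
  · exact chk_pow17_7

theorem chk_pow18 : tab.minOK [3, 7, 2, 7, 2, 3, 2, 6, 2, 6] 1 = true := by
  refine tab.minOK_of_chunks [3, 7, 2, 7, 2, 3, 2, 6, 2, 6] 1 48000 8 (by decide +kernel) (by norm_num) (by show 368280 ≤ 8 * 48000; norm_num) ?_
  intro i hi
  interval_cases i
  · exact chk_pow18_0
  · exact chk_pow18_1
  · exact chk_pow18_2
  · exact chk_pow18_3
  · exact chk_pow18_4
  · exact chk_pow18_5
  · exact chk_pow18_6
  · exact chk_pow18_7

theorem chk_pow19 : tab.minOK [1, 2, 3, 6, 1, 2, 3, 6, 1, 2, 3, 6, 1, 2, 3, 6, 1, 2, 3, 6, 9] 1 = true := by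
  refine tab.minOK_of_chunks [1, 2, 3, 6, 1, 2, 3, 6, 1, 2, 3, 6, 1, 2, 3, 6, 1, 2, 3, 6, 9] 1 22845 17 (by decide +kernel) (by norm_num) (by show 368280 ≤ 17 * 22845; norm_num) ?_
  intro i hi
  interval_cases i
  · exact chk_pow19_0
  · exact chk_pow19_1
  · exact chk_pow19_2
  · exact chk_pow19_3
  · exact chk_pow19_4
  · exact chk_pow19_5
  · exact chk_pow19_6
  · exact chk_pow19_7
  · exact chk_pow19_8
  · exact chk_pow19_9
  · exact chk_pow19_10
  · exact chk_pow19_11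
  · exact chk_pow19_12
  · exact chk_pow19_13
  · exact chk_pow19_14
  · exact chk_pow19_15
  · exact chk_pow19_16

theorem chk_pow20 : tab.minOK [6, 1, 2, 6, 2, 1, 6, 1, 2, 6, 2, 9] 1 = true := by
  refine tab.minOK_of_chunks [6, 1, 2, 6, 2, 1, 6, 1, 2, 6, 2, 9] 1 39990 10 (by decide +kernel) (by norm_num) (by show 368280 ≤ 10 * 39990; norm_num) ?_
  intro i hi
  interval_cases i
  · exact chk_pow20_0
  · exact chk_pow20_1
  · exact chk_pow20_2
  · exact chk_pow20_3
  · exact chk_pow20_4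
  · exact chk_pow20_5
  · exact chk_pow20_6
  · exact chk_pow20_7
  · exact chk_pow20_8
  · exact chk_pow20_9

theorem chk_pow21 : tab.minOK [6, 4, 3, 6, 3, 4, 6, 4, 3, 6, 3, 9] 1 = true := by
  refine tab.minOK_of_chunks [6, 4, 3, 6, 3, 4, 6, 4, 3, 6, 3, 9] 1 39990 10 (by decide +kernel) (by norm_num) (by show 368280 ≤ 10 * 39990; norm_num) ?_
  intro i hi
  interval_cases i
  · exact chk_pow21_0
  · exact chk_pow21_1
  · exact chk_pow21_2
  · exact chk_pow21_3
  · exact chk_pow21_4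
  · exact chk_pow21_5
  · exact chk_pow21_6
  · exact chk_pow21_7
  · exact chk_pow21_8
  · exact chk_pow21_9

theorem chk_pow22 : tab.minOK [8, 6, 9, 7] 1 = true := by
  refine tab.minOK_of_chunks [8, 6, 9, 7] 1 120000 4 (by decide +kernel) (by norm_num) (by show 368280 ≤ 4 * 120000; norm_num) ?_
  intro i hi
  interval_cases i
  · exact chk_pow22_0
  · exact chk_pow22_1
  · exact chk_pow22_2
  · exact chk_pow22_3

theorem chk_pow23 : tab.minOK [8, 0, 9, 0] 1 = true := by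
  refine tab.minOK_of_chunks [8, 0, 9, 0] 1 120000 4 (by decide +kernel) (by norm_num) (by show 368280 ≤ 4 * 120000; norm_num) ?_
  intro i hi
  interval_cases i
  · exact chk_pow23_0
  · exact chk_pow23_1
  · exact chk_pow23_2
  · exact chk_pow23_3

theorem chk_pow24 : tab.minOK [8, 1, 9, 1] 1 = true := by
  refine tab.minOK_of_chunks [8, 1, 9, 1] 1 120000 4 (by decide +kernel) (by norm_num) (by show 368280 ≤ 4 * 120000; norm_num) ?_
  intro i hi
  interval_cases i
  · exact chk_pow24_0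
  · exact chk_pow24_1
  · exact chk_pow24_2
  · exact chk_pow24_3

theorem chk_pow25 : tab.minOK [8, 2, 9, 2] 1 = true := by
  refine tab.minOK_of_chunks [8, 2, 9, 2] 1 120000 4 (by decide +kernel) (by norm_num) (by show 368280 ≤ 4 * 120000; norm_num) ?_
  intro i hi
  interval_cases i
  · exact chk_pow25_0
  · exact chk_pow25_1
  · exact chk_pow25_2
  · exact chk_pow25_3

theorem chk_pow26 : tab.minOK [8, 3, 9, 3] 1 = true := by
  refine tab.minOK_of_chunks [8, 3, 9, 3] 1 120000 4 (by decide +kernel) (by norm_num) (by show 368280 ≤ 4 * 120000; norm_num) ?_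
  intro i hi
  interval_cases i
  · exact chk_pow26_0
  · exact chk_pow26_1
  · exact chk_pow26_2
  · exact chk_pow26_3

theorem chk_pow27 : tab.minOK [8, 4, 9, 4] 1 = true := by
  refine tab.minOK_of_chunks [8, 4, 9, 4] 1 120000 4 (by decide +kernel) (by norm_num) (by show 368280 ≤ 4 * 120000; norm_num) ?_
  intro i hi
  interval_cases i
  · exact chk_pow27_0
  · exact chk_pow27_1
  · exact chk_pow27_2
  · exact chk_pow27_3

theorem chk_pow28 : tab.minOK [8, 5, 9, 5] 1 = true := by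
  refine tab.minOK_of_chunks [8, 5, 9, 5] 1 120000 4 (by decide +kernel) (by norm_num) (by show 368280 ≤ 4 * 120000; norm_num) ?_
  intro i hi
  interval_cases i
  · exact chk_pow28_0
  · exact chk_pow28_1
  · exact chk_pow28_2
  · exact chk_pow28_3

theorem chk_pow29 : tab.minOK [8] 3 = true := by
  refine tab.minOK_of_chunks [8] 3 480000 1 (by decide +kernel) (by norm_num) (by show 368280 ≤ 1 * 480000; norm_num) ?_
  intro i hi
  interval_cases i
  · exact chk_pow29_0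


end Cfsg.Agent.Lib.Lead.ON3.C3
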