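import Cfsg.Agent.Lib.Lead.ON3.C3Data
import Cfsg.Agent.Lib.Helper6.TCGIndex
import Cfsg.Agent.Lib.Lead.ON3.C3Rel58

/-! # The triple cover of O'N: the kernel check of the table, part 12 -/

set_option autoImplicit false

namespace Cfsg.Agent.Lib.Lead.ON3.C3

open Cfsg.Agent.Lib.Helper6.TC

theorem chk_tab108 : Cfsg.Agent.Lib.Helper6.TCG.tabOKc tab ivs 216000 2000 = true := by decide +kernel

theorem chk_tab109 : Cfsg.Agent.Lib.Helper6.TCG.tabOKc tab ivs 218000 2000 = true := by decide +kernel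

theorem chk_tab110 : Cfsg.Agent.Lib.Helper6.TCG.tabOKc tab ivs 220000 2000 = true := by decide +kernel

theorem chk_tab111 : Cfsg.Agent.Lib.Helper6.TCG.tabOKc tab ivs 222000 2000 = true := by decide +kernel

theorem chk_tab112 : Cfsg.Agent.Lib.Helper6.TCG.tabOKc tab ivs 224000 2000 = true := by decide +kernel

theorem chk_tab113 : Cfsg.Agent.Lib.Helper6.TCG.tabOKc tab ivs 226000 2000 = true := by decide +kernel

theorem chk_tab114 : Cfsg.Agent.Lib.Helper6.TCG.tabOKc tab ivs 228000 2000 = true := by decide +kernel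

theorem chk_tab115 : Cfsg.Agent.Lib.Helper6.TCG.tabOKc tab ivs 230000 2000 = true := by decide +kernel

theorem chk_tab116 : Cfsg.Agent.Lib.Helper6.TCG.tabOKc tab ivs 232000 2000 = true := by decide +kernel


end Cfsg.Agent.Lib.Lead.ON3.C3
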