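import Cfsg.Agent.Lib.Lead.ON3.C3Data
import Cfsg.Agent.Lib.Helper6.TCGIndex
import Cfsg.Agent.Lib.Lead.ON3.C3Tab1

/-! # The triple cover of O'N: the kernel check of the table, part 17 -/

set_option autoImplicit false

namespace Cfsg.Agent.Lib.Lead.ON3.C3

open Cfsg.Agent.Lib.Helper6.TC

theorem chk_tab153 : Cfsg.Agent.Lib.Helper6.TCG.tabOKc tab ivs 306000 2000 = true := by decide +kernel

theorem chk_tab154 : Cfsg.Agent.Lib.Helper6.TCG.tabOKc tab ivs 308000 2000 = true := by decide +kernel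

theorem chk_tab155 : Cfsg.Agent.Lib.Helper6.TCG.tabOKc tab ivs 310000 2000 = true := by decide +kernel

theorem chk_tab156 : Cfsg.Agent.Lib.Helper6.TCG.tabOKc tab ivs 312000 2000 = true := by decide +kernel

theorem chk_tab157 : Cfsg.Agent.Lib.Helper6.TCG.tabOKc tab ivs 314000 2000 = true := by decide +kernel

theorem chk_tab158 : Cfsg.Agent.Lib.Helper6.TCG.tabOKc tab ivs 316000 2000 = true := by decide +kernel

theorem chk_tab159 : Cfsg.Agent.Lib.Helper6.TCG.tabOKc tab ivs 318000 2000 = true := by decide +kernel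

theorem chk_tab160 : Cfsg.Agent.Lib.Helper6.TCG.tabOKc tab ivs 320000 2000 = true := by decide +kernel

theorem chk_tab161 : Cfsg.Agent.Lib.Helper6.TCG.tabOKc tab ivs 322000 2000 = true := by decide +kernel


end Cfsg.Agent.Lib.Lead.ON3.C3
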