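import Cfsg.Agent.Lib.Lead.ON3.C3Data
import Cfsg.Agent.Lib.Helper6.TCGIndex
import Cfsg.Agent.Lib.Lead.ON3.C3Tab2

/-! # The triple cover of O'N: the kernel check of the table, part 18 -/

set_option autoImplicit false

namespace Cfsg.Agent.Lib.Lead.ON3.C3

open Cfsg.Agent.Lib.Helper6.TC

theorem chk_tab162 : Cfsg.Agent.Lib.Helper6.TCG.tabOKc tab ivs 324000 2000 = true := by decide +kernel

theorem chk_tab163 : Cfsg.Agent.Lib.Helper6.TCG.tabOKc tab ivs 326000 2000 = true := by decide +kernel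

theorem chk_tab164 : Cfsg.Agent.Lib.Helper6.TCG.tabOKc tab ivs 328000 2000 = true := by decide +kernel

theorem chk_tab165 : Cfsg.Agent.Lib.Helper6.TCG.tabOKc tab ivs 330000 2000 = true := by decide +kernel

theorem chk_tab166 : Cfsg.Agent.Lib.Helper6.TCG.tabOKc tab ivs 332000 2000 = true := by decide +kernel

theorem chk_tab167 : Cfsg.Agent.Lib.Helper6.TCG.tabOKc tab ivs 334000 2000 = true := by decide +kernel

theorem chk_tab168 : Cfsg.Agent.Lib.Helper6.TCG.tabOKc tab ivs 336000 2000 = true := by decide +kernel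

theorem chk_tab169 : Cfsg.Agent.Lib.Helper6.TCG.tabOKc tab ivs 338000 2000 = true := by decide +kernel

theorem chk_tab170 : Cfsg.Agent.Lib.Helper6.TCG.tabOKc tab ivs 340000 2000 = true := by decide +kernel


end Cfsg.Agent.Lib.Lead.ON3.C3
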