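import Cfsg.Agent.Lib.Lead.ON3.C3Data
import Cfsg.Agent.Lib.Helper6.TCGIndex
import Cfsg.Agent.Lib.Lead.ON3.C3Tab3

/-! # The triple cover of O'N: the kernel check of the table, part 19 -/

set_option autoImplicit false

namespace Cfsg.Agent.Lib.Lead.ON3.C3

open Cfsg.Agent.Lib.Helper6.TC

theorem chk_tab171 : Cfsg.Agent.Lib.Helper6.TCG.tabOKc tab ivs 342000 2000 = true := by decide +kernel

theorem chk_tab172 : Cfsg.Agent.Lib.Helper6.TCG.tabOKc tab ivs 344000 2000 = true := by decide +kernel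

theorem chk_tab173 : Cfsg.Agent.Lib.Helper6.TCG.tabOKc tab ivs 346000 2000 = true := by decide +kernel

theorem chk_tab174 : Cfsg.Agent.Lib.Helper6.TCG.tabOKc tab ivs 348000 2000 = true := by decide +kernel

theorem chk_tab175 : Cfsg.Agent.Lib.Helper6.TCG.tabOKc tab ivs 350000 2000 = true := by decide +kernel

theorem chk_tab176 : Cfsg.Agent.Lib.Helper6.TCG.tabOKc tab ivs 352000 2000 = true := by decide +kernel

theorem chk_tab177 : Cfsg.Agent.Lib.Helper6.TCG.tabOKc tab ivs 354000 2000 = true := by decide +kernel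

theorem chk_tab178 : Cfsg.Agent.Lib.Helper6.TCG.tabOKc tab ivs 356000 2000 = true := by decide +kernel

theorem chk_tab179 : Cfsg.Agent.Lib.Helper6.TCG.tabOKc tab ivs 358000 2000 = true := by decide +kernel


end Cfsg.Agent.Lib.Lead.ON3.C3
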