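import Cfsg.Agent.Lib.Lead.ON3.C3Data
import Cfsg.Agent.Lib.Helper6.TCGIndex
import Cfsg.Agent.Lib.Lead.ON3.C3Tab4

/-! # The triple cover of O'N: the kernel check of the table, part 20 -/

set_option autoImplicit false

namespace Cfsg.Agent.Lib.Lead.ON3.C3

open Cfsg.Agent.Lib.Helper6.TC

theorem chk_tab180 : Cfsg.Agent.Lib.Helper6.TCG.tabOKc tab ivs 360000 2000 = true := by decide +kernel

theorem chk_tab181 : Cfsg.Agent.Lib.Helper6.TCG.tabOKc tab ivs 362000 2000 = true := by decide +kernel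

theorem chk_tab182 : Cfsg.Agent.Lib.Helper6.TCG.tabOKc tab ivs 364000 2000 = true := by decide +kernel

theorem chk_tab183 : Cfsg.Agent.Lib.Helper6.TCG.tabOKc tab ivs 366000 2000 = true := by decide +kernel

theorem chk_tab184 : Cfsg.Agent.Lib.Helper6.TCG.tabOKc tab ivs 368000 2000 = true := by decide +kernel


end Cfsg.Agent.Lib.Lead.ON3.C3
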