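import Cfsg.Agent.Lib.Lead.ON3.C3Data
import Cfsg.Agent.Lib.Helper6.TCGIndex
import Cfsg.Agent.Lib.Lead.ON3.C3Rel53

/-! # The triple cover of O'N: the kernel check of the table, part 7 -/

set_option autoImplicit false

namespace Cfsg.Agent.Lib.Lead.ON3.C3

open Cfsg.Agent.Lib.Helper6.TC

theorem chk_tab63 : Cfsg.Agent.Lib.Helper6.TCG.tabOKc tab ivs 126000 2000 = true := by decide +kernel

theorem chk_tab64 : Cfsg.Agent.Lib.Helper6.TCG.tabOKc tab ivs 128000 2000 = true := by decide +kernel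

theorem chk_tab65 : Cfsg.Agent.Lib.Helper6.TCG.tabOKc tab ivs 130000 2000 = true := by decide +kernel

theorem chk_tab66 : Cfsg.Agent.Lib.Helper6.TCG.tabOKc tab ivs 132000 2000 = true := by decide +kernel

theorem chk_tab67 : Cfsg.Agent.Lib.Helper6.TCG.tabOKc tab ivs 134000 2000 = true := by decide +kernel

theorem chk_tab68 : Cfsg.Agent.Lib.Helper6.TCG.tabOKc tab ivs 136000 2000 = true := by decide +kernel

theorem chk_tab69 : Cfsg.Agent.Lib.Helper6.TCG.tabOKc tab ivs 138000 2000 = true := by decide +kernel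

theorem chk_tab70 : Cfsg.Agent.Lib.Helper6.TCG.tabOKc tab ivs 140000 2000 = true := by decide +kernel

theorem chk_tab71 : Cfsg.Agent.Lib.Helper6.TCG.tabOKc tab ivs 142000 2000 = true := by decide +kernel


end Cfsg.Agent.Lib.Lead.ON3.C3
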