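import Cfsg.Agent.Lib.Lead.ON3.C3Data
import Cfsg.Agent.Lib.Helper6.TCGIndex
import Cfsg.Agent.Lib.Lead.ON3.C3Rel55

/-! # The triple cover of O'N: the kernel check of the table, part 9 -/

set_option autoImplicit false

namespace Cfsg.Agent.Lib.Lead.ON3.C3

open Cfsg.Agent.Lib.Helper6.TC

theorem chk_tab81 : Cfsg.Agent.Lib.Helper6.TCG.tabOKc tab ivs 162000 2000 = true := by decide +kernel

theorem chk_tab82 : Cfsg.Agent.Lib.Helper6.TCG.tabOKc tab ivs 164000 2000 = true := by decide +kernel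

theorem chk_tab83 : Cfsg.Agent.Lib.Helper6.TCG.tabOKc tab ivs 166000 2000 = true := by decide +kernel

theorem chk_tab84 : Cfsg.Agent.Lib.Helper6.TCG.tabOKc tab ivs 168000 2000 = true := by decide +kernel

theorem chk_tab85 : Cfsg.Agent.Lib.Helper6.TCG.tabOKc tab ivs 170000 2000 = true := by decide +kernel

theorem chk_tab86 : Cfsg.Agent.Lib.Helper6.TCG.tabOKc tab ivs 172000 2000 = true := by decide +kernel

theorem chk_tab87 : Cfsg.Agent.Lib.Helper6.TCG.tabOKc tab ivs 174000 2000 = true := by decide +kernel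

theorem chk_tab88 : Cfsg.Agent.Lib.Helper6.TCG.tabOKc tab ivs 176000 2000 = true := by decide +kernel

theorem chk_tab89 : Cfsg.Agent.Lib.Helper6.TCG.tabOKc tab ivs 178000 2000 = true := by decide +kernel


end Cfsg.Agent.Lib.Lead.ON3.C3
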