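import Cfsg.Agent.Lib.Lead.ON3.C3Data
import Cfsg.Agent.Lib.Helper6.TCGInst
import Cfsg.Agent.Lib.Lead.ON3.C3Chk3
import Cfsg.Agent.Lib.Lead.ON3.C3Tab0
import Cfsg.Agent.Lib.Lead.ON3.C3Tab1
import Cfsg.Agent.Lib.Lead.ON3.C3Tab2
import Cfsg.Agent.Lib.Lead.ON3.C3Tab3
import Cfsg.Agent.Lib.Lead.ON3.C3Tab4
import Cfsg.Agent.Lib.Lead.ON3.C3Tab5
import Cfsg.Agent.Lib.Lead.ON3.C3Tab6
import Cfsg.Agent.Lib.Lead.ON3.C3Tab7
import Cfsg.Agent.Lib.Lead.ON3.C3Tab8
import Cfsg.Agent.Lib.Lead.ON3.C3Tab9
import Cfsg.Agent.Lib.Lead.ON3.C3Tab10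
import Cfsg.Agent.Lib.Lead.ON3.C3Tab11
import Cfsg.Agent.Lib.Lead.ON3.C3Tab12
import Cfsg.Agent.Lib.Lead.ON3.C3Tab13
import Cfsg.Agent.Lib.Lead.ON3.C3Tab14
import Cfsg.Agent.Lib.Lead.ON3.C3Tab15
import Cfsg.Agent.Lib.Lead.ON3.C3Tab16
import Cfsg.Agent.Lib.Lead.ON3.C3Tab17
import Cfsg.Agent.Lib.Lead.ON3.C3Tab18
import Cfsg.Agent.Lib.Lead.ON3.C3Tab19
import Cfsg.Agent.Lib.Lead.ON3.C3Tab20

/-! # The triple cover of O'N: the checks of the table and the relators -/

set_option autoImplicit false

namespace Cfsg.Agent.Lib.Lead.ON3.C3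

open Cfsg.Agent.Lib.Helper6.TC Cfsg.Agent.Lib.Helper6.TCG

theorem chk_tab : Cfsg.Agent.Lib.Helper6.TCG.tabOK tab ivs = true := by
  refine Cfsg.Agent.Lib.Helper6.TCG.tabOK_of_chunks tab ivs 2000 185 (by decide +kernel) (by norm_num) (by show 368280 ≤ 185 * 2000; norm_num) ?_
  intro k hk
  interval_cases k
  · exact chk_tab0
  · exact chk_tab1
  · exact chk_tab2
  · exact chk_tab3
  · exact chk_tab4
  · exact chk_tab5
  · exact chk_tab6
  · exact chk_tab7
  · exact chk_tab8
  · exact chk_tab9
  · exact chk_tab10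
  · exact chk_tab11
  · exact chk_tab12
  · exact chk_tab13
  · exact chk_tab14
  · exact chk_tab15
  · exact chk_tab16
  · exact chk_tab17
  · exact chk_tab18
  · exact chk_tab19
  · exact chk_tab20
  · exact chk_tab21
  · exact chk_tab22
  · exact chk_tab23
  · exact chk_tab24
  · exact chk_tab25
  · exact chk_tab26
  · exact chk_tab27
  · exact chk_tab28
  · exact chk_tab29
  · exact chk_tab30
  · exact chk_tab31
  · exact chk_tab32
  · exact chk_tab33
  · exact chk_tab34
  · exact chk_tab35
  · exact chk_tab36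
  · exact chk_tab37
  · exact chk_tab38
  · exact chk_tab39
  · exact chk_tab40
  · exact chk_tab41
  · exact chk_tab42
  · exact chk_tab43
  · exact chk_tab44
  · exact chk_tab45
  · exact chk_tab46
  · exact chk_tab47
  · exact chk_tab48
  · exact chk_tab49
  · exact chk_tab50
  · exact chk_tab51
  · exact chk_tab52
  · exact chk_tab53
  · exact chk_tab54
  · exact chk_tab55
  · exact chk_tab56
  · exact chk_tab57
  · exact chk_tab58
  · exact chk_tab59
  · exact chk_tab60
  · exact chk_tab61
  · exact chk_tab62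
  · exact chk_tab63
  · exact chk_tab64
  · exact chk_tab65
  · exact chk_tab66
  · exact chk_tab67
  · exact chk_tab68
  · exact chk_tab69
  · exact chk_tab70
  · exact chk_tab71
  · exact chk_tab72
  · exact chk_tab73
  · exact chk_tab74
  · exact chk_tab75
  · exact chk_tab76
  · exact chk_tab77
  · exact chk_tab78
  · exact chk_tab79
  · exact chk_tab80
  · exact chk_tab81
  · exact chk_tab82
  · exact chk_tab83
  · exact chk_tab84
  · exact chk_tab85
  · exact chk_tab86
  · exact chk_tab87
  · exact chk_tab88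
  · exact chk_tab89
  · exact chk_tab90
  · exact chk_tab91
  · exact chk_tab92
  · exact chk_tab93
  · exact chk_tab94
  · exact chk_tab95
  · exact chk_tab96
  · exact chk_tab97
  · exact chk_tab98
  · exact chk_tab99
  · exact chk_tab100
  · exact chk_tab101
  · exact chk_tab102
  · exact chk_tab103
  · exact chk_tab104
  · exact chk_tab105
  · exact chk_tab106
  · exact chk_tab107
  · exact chk_tab108
  · exact chk_tab109
  · exact chk_tab110
  · exact chk_tab111
  · exact chk_tab112
  · exact chk_tab113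
  · exact chk_tab114
  · exact chk_tab115
  · exact chk_tab116
  · exact chk_tab117
  · exact chk_tab118
  · exact chk_tab119
  · exact chk_tab120
  · exact chk_tab121
  · exact chk_tab122
  · exact chk_tab123
  · exact chk_tab124
  · exact chk_tab125
  · exact chk_tab126
  · exact chk_tab127
  · exact chk_tab128
  · exact chk_tab129
  · exact chk_tab130
  · exact chk_tab131
  · exact chk_tab132
  · exact chk_tab133
  · exact chk_tab134
  · exact chk_tab135
  · exact chk_tab136
  · exact chk_tab137
  · exact chk_tab138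
  · exact chk_tab139
  · exact chk_tab140
  · exact chk_tab141
  · exact chk_tab142
  · exact chk_tab143
  · exact chk_tab144
  · exact chk_tab145
  · exact chk_tab146
  · exact chk_tab147
  · exact chk_tab148
  · exact chk_tab149
  · exact chk_tab150
  · exact chk_tab151
  · exact chk_tab152
  · exact chk_tab153
  · exact chk_tab154
  · exact chk_tab155
  · exact chk_tab156
  · exact chk_tab157
  · exact chk_tab158
  · exact chk_tab159
  · exact chk_tab160
  · exact chk_tab161
  · exact chk_tab162
  · exact chk_tab163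
  · exact chk_tab164
  · exact chk_tab165
  · exact chk_tab166
  · exact chk_tab167
  · exact chk_tab168
  · exact chk_tab169
  · exact chk_tab170
  · exact chk_tab171
  · exact chk_tab172
  · exact chk_tab173
  · exact chk_tab174
  · exact chk_tab175
  · exact chk_tab176
  · exact chk_tab177
  · exact chk_tab178
  · exact chk_tab179
  · exact chk_tab180
  · exact chk_tab181
  · exact chk_tab182
  · exact chk_tab183
  · exact chk_tab184

theorem chk_allPow : tab.minsOK allPow = true := by
  simp only [allPow, Tab.minsOK_cons, Tab.minsOK_nil, Bool.and_eq_true, and_true]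
  exact ⟨chk_pow0, chk_pow1, chk_pow2, chk_pow3, chk_pow4, chk_pow5, chk_pow6, chk_pow7, chk_pow8, chk_pow9, chk_pow10, chk_pow11, chk_pow12, chk_pow13, chk_pow14, chk_pow15, chk_pow16, chk_pow17, chk_pow18, chk_pow19, chk_pow20, chk_pow21, chk_pow22, chk_pow23, chk_pow24, chk_pow25, chk_pow26, chk_pow27, chk_pow28, chk_pow29⟩

end Cfsg.Agent.Lib.Lead.ON3.C3
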