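import Cfsg.Agent.Lib.Lead.ON3.C3Glue
import Cfsg.Agent.Lib.Lead.ON3.C3Chk2

/-! # The triple cover of O'N: the table with its checks, and the central element moves a row -/


set_option autoImplicit false
set_option maxRecDepth 1000000

namespace Cfsg.Agent.Lib.Lead.ON3.C3

open Cfsg.Agent.Lib.Helper6.TC Cfsg.Agent.Lib.Helper6.TCG Cfsg.Agent.Lib.Helper6.TCGS Cfsg.Spor Cfsg.Agent.Lib.Lead.ON3




/-- the table of the triple cover with the checks -/
noncomputable def data : HomData cedges cextra where
  gen := cgen
  sgn := csgn
  code := ccode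
  ivs := ivs
  gn := 6
  extraPow := extraPow
  T := tab
  hnode := by decide
  hlow := by
    intro x hx
    interval_cases x <;> decide
  hgn := by decide
  hcode := by intro y; cases y <;> decide
  hletter := by
    intro x hx
    have hx' : x < 10 := hx
    interval_cases x <;> decide
  hTn := show 0 < 368280 by norm_num
  chk_tab := chk_tab
  chk_pows := by
    rw [pows_eq]
    exact chk_allPow
  hextra := fun f hf h => (extra_iff f hf).2 h

theorem hmove : data.T.nxt 0 (ivN data.ivs (data.code .z)) ≠ 0 := by
  show tab.nxt 0 (ivN ivs 8) ≠ 0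
  decide +kernel

end Cfsg.Agent.Lib.Lead.ON3.C3
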