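import Cfsg.Agent.Lib.Lead.ON3.C3Tb

/-! # The triple cover of the presented O'Nan group: table, relators as words (generated) -/

set_option autoImplicit false
set_option maxRecDepth 1000000
set_option maxHeartbeats 40000000

namespace Cfsg.Agent.Lib.Lead.ON3.C3

open Cfsg.Agent.Lib.Helper6.TC

/-- the inverses of the letters -/
def ivs : ℕ := 0x8967543210

/-- the further relators of the presentation as powers -/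
def extraPow : List (List ℕ × ℕ) := [([0, 5, 7, 7], 1), ([0, 5, 3, 2, 3, 2, 3, 2, 3, 2], 1), ([2, 7, 3, 7, 3, 2, 3, 6, 3, 6], 1), ([3, 7, 2, 7, 2, 3, 2, 6, 2, 6], 1), ([1, 2, 3, 6, 1, 2, 3, 6, 1, 2, 3, 6, 1, 2, 3, 6, 1, 2, 3, 6, 9], 1), ([6, 1, 2, 6, 2, 1, 6, 1, 2, 6, 2, 9], 1), ([6, 4, 3, 6, 3, 4, 6, 4, 3, 6, 3, 9], 1), ([8, 6, 9, 7], 1), ([8, 0, 9, 0], 1), ([8, 1, 9, 1], 1), ([8, 2, 9, 2], 1), ([8, 3, 9, 3], 1), ([8, 4, 9, 4], 1), ([8, 5, 9, 5], 1), ([8], 3)]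

/-- all relators of the presentation as powers -/
def allPow : List (List ℕ × ℕ) := [([0, 1], 3), ([0, 2], 2), ([1, 2], 3), ([0, 3], 2), ([1, 3], 2), ([2, 3], 8), ([0, 4], 2), ([1, 4], 2), ([2, 4], 2), ([3, 4], 3), ([0, 5], 2), ([1, 5], 2), ([2, 5], 2), ([3, 5], 2), ([4, 5], 3), ([0, 5, 7, 7], 1), ([0, 5, 3, 2, 3, 2, 3, 2, 3, 2], 1), ([2, 7, 3, 7, 3, 2, 3, 6, 3, 6], 1), ([3, 7, 2, 7, 2, 3, 2, 6, 2, 6], 1), ([1, 2, 3, 6, 1, 2, 3, 6, 1, 2, 3, 6, 1, 2, 3, 6, 1, 2, 3, 6, 9], 1), ([6, 1, 2, 6, 2, 1, 6, 1, 2, 6, 2, 9], 1), ([6, 4, 3, 6, 3, 4, 6, 4, 3, 6, 3, 9], 1), ([8, 6, 9, 7], 1), ([8, 0, 9, 0], 1), ([8, 1, 9, 1], 1), ([8, 2, 9, 2], 1), ([8, 3, 9, 3], 1), ([8, 4, 9, 4], 1), ([8, 5, 9, 5], 1), ([8], 3)]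

/-- the table -/
noncomputable def tab : Tab := ⟨10, 19, 368280, arrT⟩

end Cfsg.Agent.Lib.Lead.ON3.C3
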