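import Cfsg.Agent.Lib.Helper6.TCGInst

/-! # A permutation representation of a presented group from a table on which the relators hold

A light version of helper6's `GenData`: no enumeration certificate, only the table (a permutation for each letter)
and the check that the relators hold on every row. The result is the homomorphism `ρ` to the permutations of the rows. -/

set_option autoImplicit false

noncomputable section

namespace Cfsg.Agent.Lib.Lead.ON3

open Cfsg.Agent.Lib.Helper6.NatArr Cfsg.Agent.Lib.Helper6.TC Cfsg.Agent.Lib.Helper6.TCG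
  Cfsg.Agent.Lib.Helper6.TCGS Cfsg.Spor

variable {α : Type} [DecidableEq α]

/-- a table on which the relators of the presentation hold; the first `gn` letters are the nodes of the graph -/
structure HomData (edges : List (α × ℕ × α)) (extra : List (FreeGroup α)) where
  gen : ℕ → α
  sgn : ℕ → Bool
  code : α → ℕ
  ivs : ℕ
  gn : ℕ
  extraPow : List (List ℕ × ℕ)
  T : Tab
  hnode : ∀ a ∈ coxNodes edges, code a < gn
  hlow : ∀ x, x < gn → gen x ∈ coxNodes edges ∧ sgn x = false ∧ ivN ivs x = x ∧ code (gen x) = x
  hgn : gn ≤ T.g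
  hcode : ∀ a, code a < T.g ∧ gen (code a) = a ∧ sgn (code a) = false
  hletter : ∀ x, x < T.g → gen (ivN ivs x) = gen x ∧
    (sgn x = true → sgn (ivN ivs x) = false ∧ code (gen x) = ivN ivs x) ∧
    (sgn x = false → code (gen x) = x ∧ (ivN ivs x = x → gen x ∈ coxNodes edges) ∧
      (ivN ivs x ≠ x → sgn (ivN ivs x) = true))
  hTn : 0 < T.n
  chk_tab : tabOK T ivs = true
  chk_pows : T.minsOK (coxPairs edges gen gn ++ extraPow) = true
  hextra : ∀ {K : Type} [Group K] (f : α → K), (∀ a ∈ coxNodes edges, f a * f a = 1) →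
    (∀ p ∈ extraPow, (((List.replicate p.2 p.1).flatten).map
        (fun x => FreeGroup.lift f (lt gen sgn x))).prod = 1) →
      ∀ r ∈ extra, FreeGroup.lift f r = 1

namespace HomData

variable {edges : List (α × ℕ × α)} {extra : List (FreeGroup α)} (D : HomData edges extra)

/-- the permutation of a letter -/
def P (x : ℕ) : Equiv.Perm (Fin D.T.n) := perm D.chk_tab x

/-- the permutation of a generator -/
def f (a : α) : Equiv.Perm (Fin D.T.n) := (D.P (D.code a))⁻¹

theorem lift_lt {x : ℕ} (hx : x < D.T.g) :
    FreeGroup.lift D.f (lt D.gen D.sgn x) = (D.P x)⁻¹ := by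
  obtain ⟨h1, h2, h3⟩ := D.hletter x hx
  unfold lt
  cases hs : D.sgn x
  · obtain ⟨h4, _, _⟩ := h3 hs
    rw [cond_false, FreeGroup.lift_apply_of]
    unfold f
    rw [h4]
  · obtain ⟨_, h4⟩ := h2 hs
    rw [cond_true, map_inv, FreeGroup.lift_apply_of]
    unfold f P
    rw [h4, perm_iv D.chk_tab hx, inv_inv]

theorem lift_word {w : List ℕ} (hw : ∀ x ∈ w, x < D.T.g) :
    (w.map (fun x => FreeGroup.lift D.f (lt D.gen D.sgn x))).prod =
      ((w.reverse.map D.P).prod)⁻¹ := by
  rw [← prod_inv_eq]
  congr 1
  apply List.map_congr_left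
  intro x hx
  exact D.lift_lt (hw x hx)

theorem P_node_mul_self {x : ℕ} (hx : x < D.gn) : D.P x * D.P x = 1 := by
  obtain ⟨_, _, h3, _⟩ := D.hlow x hx
  have h := perm_iv D.chk_tab (x := x) (lt_of_lt_of_le hx D.hgn)
  rw [h3] at h
  unfold P
  nth_rewrite 1 [h]
  exact inv_mul_cancel _

theorem pair_eq_one {i j : ℕ} (hij : i < j) (hj : j < D.gn) :
    (D.P j * D.P i) ^ coxLabel edges (D.gen i) (D.gen j) = 1 := by
  have hm := List.mem_append_left D.extraPow (mem_coxPairs edges D.gen hij hj)
  have := (pow_eq_one_of_minOK D.chk_tab (List.all_eq_true.1 D.chk_pows _ hm)).2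
  simpa [P] using this

theorem lift_eq_one : ∀ r ∈ coxRelators edges ∪ {r | r ∈ extra}, FreeGroup.lift D.f r = 1 := by
  intro r hr
  rcases hr with ⟨x, hx, y, hy, rfl⟩ | hr
  · rw [map_pow, map_mul, FreeGroup.lift_apply_of, FreeGroup.lift_apply_of]
    have hcx := D.hnode x hx
    have hcy := D.hnode y hy
    have hgx := (D.hcode x).2.1
    have hgy := (D.hcode y).2.1
    have key : (D.P (D.code y) * D.P (D.code x)) ^ coxLabel edges x y = 1 := by
      rcases Nat.lt_trichotomy (D.code x) (D.code y) with h | h | h
      · have := D.pair_eq_one h hcy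
        rwa [hgx, hgy] at this
      · have hxy : x = y := by rw [← hgx, ← hgy, h]
        subst hxy
        have : coxLabel edges x x = 1 := by simp [coxLabel]
        rw [this, pow_one]
        exact D.P_node_mul_self hcx
      · have := D.pair_eq_one h hcx
        rw [hgx, hgy, coxLabel_comm edges y x] at this
        exact pow_comm_eq_one this
    unfold f
    rw [← mul_inv_rev, inv_pow, key, inv_one]
  · have hnode : ∀ a ∈ coxNodes edges, D.f a * D.f a = 1 := by
      intro a ha
      unfold f
      rw [← mul_inv_rev, D.P_node_mul_self (D.hnode a ha), inv_one]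
    refine D.hextra D.f hnode ?_ r hr
    intro p hp
    have hm := List.mem_append_right (coxPairs edges D.gen D.gn) hp
    obtain ⟨h1, h2⟩ := rev_prod_eq_one_of_minsOK D.chk_tab D.chk_pows hm
    have hl : ∀ x ∈ (List.replicate p.2 p.1).flatten, x < D.T.g := by
      intro x hx
      rw [List.mem_flatten] at hx
      obtain ⟨l, hl, hxl⟩ := hx
      rw [List.eq_of_mem_replicate hl] at hxl
      exact h1 x hxl
    rw [D.lift_word hl]
    unfold P
    rw [h2, inv_one]

/-- the action on the rows of the table -/
def ρ : CoxPresented α edges extra →* Equiv.Perm (Fin D.T.n) :=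
  PresentedGroup.toGroup D.lift_eq_one

theorem ρ_of (a : α) : D.ρ (PresentedGroup.of a) = (D.P (D.code a))⁻¹ := by
  unfold ρ
  rw [PresentedGroup.toGroup.of]
  rfl

/-- the generator `a` moves the row `k` to the row that the table gives for the inverse letter -/
theorem ρ_of_apply (a : α) (k : Fin D.T.n) :
    (D.ρ (PresentedGroup.of a) k).val = D.T.nxt k.val (ivN D.ivs (D.code a)) := by
  rw [D.ρ_of]
  unfold P
  rw [← perm_iv D.chk_tab (D.hcode a).1, perm_apply D.chk_tab (iv_spec D.chk_tab (D.hcode a).1).1]

end HomData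

end Cfsg.Agent.Lib.Lead.ON3
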