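import Cfsg.Agent.Lib.Lead.ON3.Defs
import Cfsg.Agent.Lib.Lead.ON3.HomData
import Cfsg.Agent.Lib.Lead.ON3.C3Data

/-! # The triple cover of O'N: the words of the table check are the relators of the presentation -/

set_option autoImplicit false
set_option maxRecDepth 1000000
set_option maxHeartbeats 4000000
set_option linter.unusedSimpArgs false

namespace Cfsg.Agent.Lib.Lead.ON3.C3

open Cfsg.Agent.Lib.Helper6.TC Cfsg.Agent.Lib.Helper6.TCG Cfsg.Spor Cfsg.Agent.Lib.Lead.ON3

theorem extra_iff {K : Type} [Group K] (f : CGen → K)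
    (hf : ∀ a ∈ coxNodes cedges, f a * f a = 1) :
    (∀ r ∈ cextra, FreeGroup.lift f r = 1) ↔
      ∀ p ∈ extraPow, (((List.replicate p.2 p.1).flatten).map
        (fun x => FreeGroup.lift f (lt cgen csgn x))).prod = 1 := by
  have ha : (f .a)⁻¹ = f .a := inv_eq_of_mul_eq_one_left (hf _ (by decide))
  have hb : (f .b)⁻¹ = f .b := inv_eq_of_mul_eq_one_left (hf _ (by decide))
  have hc : (f .c)⁻¹ = f .c := inv_eq_of_mul_eq_one_left (hf _ (by decide))
  have hd : (f .d)⁻¹ = f .d := inv_eq_of_mul_eq_one_left (hf _ (by decide))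
  have he : (f .e)⁻¹ = f .e := inv_eq_of_mul_eq_one_left (hf _ (by decide))
  have hff : (f .f)⁻¹ = f .f := inv_eq_of_mul_eq_one_left (hf _ (by decide))
  simp only [cextra, extraPow, List.forall_mem_cons, List.not_mem_nil, false_imp_iff,
    implies_true, and_true, IsEmpty.forall_iff]
  simp only [CGen.wg, CGen.wa, CGen.wb, CGen.wc, CGen.wd, CGen.we, CGen.wf, CGen.wz, map_mul, map_inv, map_pow,
    FreeGroup.lift_apply_of, List.map_cons, List.map_nil, List.prod_cons, List.prod_nil, cgen, csgn, lt,
    List.replicate, List.flatten_cons, List.flatten_nil, List.cons_append, List.nil_append, List.append_nil,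
    cond_true, cond_false,
    mul_inv_rev, inv_pow, inv_inv, ha, hb, hc, hd, he, hff, pow_succ, pow_zero, one_mul, mul_one, mul_assoc]

theorem pows_eq : coxPairs cedges cgen 6 ++ extraPow = allPow := by decide

end Cfsg.Agent.Lib.Lead.ON3.C3
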