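import Cfsg.Agent.Lib.Lead.ON3.C3Tb0
import Cfsg.Agent.Lib.Lead.ON3.C3Tb1
import Cfsg.Agent.Lib.Lead.ON3.C3Tb2
import Cfsg.Agent.Lib.Lead.ON3.C3Tb3
import Cfsg.Agent.Lib.Lead.ON3.C3Tb4
import Cfsg.Agent.Lib.Lead.ON3.C3Tb5
import Cfsg.Agent.Lib.Lead.ON3.C3Tb6
import Cfsg.Agent.Lib.Lead.ON3.C3Tb7

/-! # The triple cover of the presented O'Nan group: the table (generated) -/

set_option autoImplicit false
set_option maxRecDepth 1000000
set_option maxHeartbeats 40000000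

namespace Cfsg.Agent.Lib.Lead.ON3.C3

open Cfsg.Agent.Lib.Helper6.TC

/-- the table of the triple cover -/
noncomputable def arrT : BT :=
  (.node (.node (.node arrT_0 arrT_1) (.node arrT_2 arrT_3)) (.node (.node arrT_4 arrT_5) (.node arrT_6 arrT_7)))


end Cfsg.Agent.Lib.Lead.ON3.C3
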