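import Cfsg.Agent.Lib.Lead.ON3.Defs
import Cfsg.Agent.Lib.Lead.ON3.HomData
import Cfsg.Prelude.Def_KGroupFacts

/-! # The triple cover of the presented O'Nan group is a stem extension with kernel of order three

`Cov → ON` sends `z` to `1`. The kernel is generated by `z`: the presented group `ON` maps back to `Cov / ⟨z⟩`.
`z` is central, lies in the commutator subgroup (it dies in every abelian quotient), has `z³ = 1`, and `z ≠ 1` as soon
as `Cov` acts on a set with `z` moving a point: that action is a table `HomData`. -/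

set_option autoImplicit false
set_option maxHeartbeats 1000000

noncomputable section

namespace Cfsg.Agent.Lib.Lead.ON3

open Cfsg.Spor

/-- the relators of the cover -/
abbrev crels : Set (FreeGroup CGen) := coxRelators cedges ∪ {r | r ∈ cextra}

/-- the relators of the O'Nan group -/
abbrev orels : Set (FreeGroup ON.Gen) := coxRelators ON.edges ∪ {r | r ∈ ON.extra}

/-- the generators of the cover as elements -/
def cg (x : CGen) : Cov := PresentedGroup.of x

/-- the generators of the O'Nan group as elements -/
def og (x : ON.Gen) : ON := PresentedGroup.of x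

/-- the node of the cover for a node of the O'Nan graph -/
def up : ON.Gen → CGen
  | .g => .g
  | .a => .a
  | .b => .b
  | .c => .c
  | .d => .d
  | .e => .e
  | .f => .f

/-- the image of a generator of the cover -/
def down : CGen → ON
  | .g => og .g
  | .a => og .a
  | .b => og .b
  | .c => og .c
  | .d => og .d
  | .e => og .e
  | .f => og .f
  | .z => 1

theorem crel_cox {x y : CGen} (hx : x ∈ coxNodes cedges) (hy : y ∈ coxNodes cedges) :
    (cg x * cg y) ^ coxLabel cedges x y = 1 := by
  have hm : (FreeGroup.of x * FreeGroup.of y) ^ coxLabel cedges x y ∈ crels := Or.inl ⟨x, hx, y, hy, rfl⟩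
  have := PresentedGroup.one_of_mem hm
  rwa [map_pow, map_mul] at this

theorem orel_cox {x y : ON.Gen} (hx : x ∈ coxNodes ON.edges) (hy : y ∈ coxNodes ON.edges) :
    (og x * og y) ^ coxLabel ON.edges x y = 1 := by
  have hm : (FreeGroup.of x * FreeGroup.of y) ^ coxLabel ON.edges x y ∈ orels := Or.inl ⟨x, hx, y, hy, rfl⟩
  have := PresentedGroup.one_of_mem hm
  rwa [map_pow, map_mul] at this

theorem crel_extra {r : FreeGroup CGen} (hr : r ∈ cextra) : (PresentedGroup.mk crels r : Cov) = 1 :=
  PresentedGroup.one_of_mem (Or.inr hr)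

theorem orel_extra {r : FreeGroup ON.Gen} (hr : r ∈ ON.extra) : (PresentedGroup.mk orels r : ON) = 1 :=
  PresentedGroup.one_of_mem (Or.inr hr)

theorem mem_nodes_up {x : ON.Gen} (hx : x ∈ coxNodes ON.edges) : up x ∈ coxNodes cedges := by
  revert hx
  cases x <;> decide

theorem label_up (x y : ON.Gen) : coxLabel cedges (up x) (up y) = coxLabel ON.edges x y := by
  cases x <;> cases y <;> decide

theorem nodes_c {x : CGen} (hx : x ∈ coxNodes cedges) : ∃ x' : ON.Gen, x' ∈ coxNodes ON.edges ∧ up x' = x := by
  revert hx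
  cases x
  · decide
  · intro _; exact ⟨.a, by decide, rfl⟩
  · intro _; exact ⟨.b, by decide, rfl⟩
  · intro _; exact ⟨.c, by decide, rfl⟩
  · intro _; exact ⟨.d, by decide, rfl⟩
  · intro _; exact ⟨.e, by decide, rfl⟩
  · intro _; exact ⟨.f, by decide, rfl⟩
  · decide

theorem down_up (x : ON.Gen) : down (up x) = og x := by
  cases x <;> rfl

/-! ### the relators of the O'Nan group, as equations -/

theorem og_sq {x : ON.Gen} (hx : x ∈ coxNodes ON.edges) : og x * og x = 1 := by
  have := orel_cox hx hx
  have e : coxLabel ON.edges x x = 1 := by simp [coxLabel]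
  rwa [e, pow_one] at this

theorem cg_sq {x : CGen} (hx : x ∈ coxNodes cedges) : cg x * cg x = 1 := by
  have := crel_cox hx hx
  have e : coxLabel cedges x x = 1 := by simp [coxLabel]
  rwa [e, pow_one] at this

/-- the homomorphism from the cover to the O'Nan group -/
def σ : Cov →* ON :=
  PresentedGroup.toGroup (f := down) (by
    intro r hr
    rcases hr with ⟨x, hx, y, hy, rfl⟩ | hr
    · obtain ⟨x', hx', rfl⟩ := nodes_c hx
      obtain ⟨y', hy', rfl⟩ := nodes_c hy
      rw [map_pow, map_mul, FreeGroup.lift_apply_of, FreeGroup.lift_apply_of, down_up, down_up, label_up]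
      exact orel_cox hx' hy'
    · have h1 := orel_extra (r := ON.extra[0]) (by decide)
      have h2 := orel_extra (r := ON.extra[1]) (by decide)
      have h3 := orel_extra (r := ON.extra[2]) (by decide)
      have h4 := orel_extra (r := ON.extra[3]) (by decide)
      have h5 := orel_extra (r := ON.extra[4]) (by decide)
      have h6 := orel_extra (r := ON.extra[5]) (by decide)
      have h7 := orel_extra (r := ON.extra[6]) (by decide)
      simp only [ON.extra, List.getElem_cons_zero, List.getElem_cons_succ, ON.g, ON.a, ON.b, ON.c, ON.d, ON.e,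
        ON.f, map_mul, map_inv, map_pow] at h1 h2 h3 h4 h5 h6 h7
      simp only [cextra, List.mem_cons, List.not_mem_nil, or_false] at hr
      rcases hr with rfl | rfl | rfl | rfl | rfl | rfl | rfl | rfl | rfl | rfl | rfl | rfl | rfl | rfl | rfl <;>
        simp only [CGen.wg, CGen.wa, CGen.wb, CGen.wc, CGen.wd, CGen.we, CGen.wf, CGen.wz, map_mul, map_inv,
          map_pow, FreeGroup.lift_apply_of, down, inv_one, mul_one, one_mul, one_pow, mul_inv_cancel]
      · exact h1
      · exact h2
      · exact h3
      · exact h4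
      · exact h5
      · exact h6
      · exact h7)

theorem σ_cg (x : CGen) : σ (cg x) = down x := PresentedGroup.toGroup.of _

theorem σ_surjective : Function.Surjective σ := by
  rw [← MonoidHom.range_eq_top, eq_top_iff, ← PresentedGroup.closure_range_of, Subgroup.closure_le]
  rintro _ ⟨x, rfl⟩
  exact ⟨cg (up x), by rw [σ_cg, down_up]; rfl⟩

/-- the central element -/
def zC : Cov := cg .z

theorem σ_zC : σ zC = 1 := σ_cg .z

theorem zC_pow : zC ^ 3 = 1 := by
  have := crel_extra (r := cextra[14]) (by decide)
  simp only [cextra, List.getElem_cons_zero, List.getElem_cons_succ, map_pow] at this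
  exact this

theorem zC_comm_gen (x : CGen) : zC * cg x = cg x * zC := by
  have key : ∀ x : CGen, x ≠ .z → zC * cg x * zC⁻¹ * (cg x)⁻¹ = 1 := by
    intro x hx
    cases x
    · have := crel_extra (r := cextra[7]) (by decide)
      simp only [cextra, List.getElem_cons_zero, List.getElem_cons_succ, map_mul, map_inv] at this
      exact this
    · have := crel_extra (r := cextra[8]) (by decide)
      simp only [cextra, List.getElem_cons_zero, List.getElem_cons_succ, map_mul, map_inv] at this
      exact this
    · have := crel_extra (r := cextra[9]) (by decide)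
      simp only [cextra, List.getElem_cons_zero, List.getElem_cons_succ, map_mul, map_inv] at this
      exact this
    · have := crel_extra (r := cextra[10]) (by decide)
      simp only [cextra, List.getElem_cons_zero, List.getElem_cons_succ, map_mul, map_inv] at this
      exact this
    · have := crel_extra (r := cextra[11]) (by decide)
      simp only [cextra, List.getElem_cons_zero, List.getElem_cons_succ, map_mul, map_inv] at this
      exact this
    · have := crel_extra (r := cextra[12]) (by decide)
      simp only [cextra, List.getElem_cons_zero, List.getElem_cons_succ, map_mul, map_inv] at this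
      exact this
    · have := crel_extra (r := cextra[13]) (by decide)
      simp only [cextra, List.getElem_cons_zero, List.getElem_cons_succ, map_mul, map_inv] at this
      exact this
    · exact absurd rfl hx
  by_cases hx : x = .z
  · subst hx
    rfl
  · have h := key x hx
    have : zC * cg x * zC⁻¹ = cg x := by
      rw [mul_inv_eq_one] at h
      exact h
    calc zC * cg x = zC * cg x * zC⁻¹ * zC := by group
      _ = cg x * zC := by rw [this]

theorem zC_central : zC ∈ Subgroup.center Cov := by
  rw [Subgroup.mem_center_iff]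
  intro y
  have hy : y ∈ Subgroup.closure (Set.range (PresentedGroup.of : CGen → Cov)) := by
    rw [PresentedGroup.closure_range_of]
    exact Subgroup.mem_top y
  induction hy using Subgroup.closure_induction with
  | mem y hy =>
    obtain ⟨x, rfl⟩ := hy
    exact (zC_comm_gen x).symm
  | one => simp
  | mul a b _ _ ha hb => rw [mul_assoc, hb, ← mul_assoc, ha, mul_assoc]
  | inv a _ ha =>
    calc a⁻¹ * zC = a⁻¹ * (zC * a) * a⁻¹ := by group
      _ = a⁻¹ * (a * zC) * a⁻¹ := by rw [ha]
      _ = zC * a⁻¹ := by group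

/-- the subgroup generated by the central element -/
abbrev Z : Subgroup Cov := Subgroup.zpowers zC

instance Z_normal : Z.Normal := by
  refine ⟨fun m hm x => ?_⟩
  have hc : m ∈ Subgroup.center Cov := by
    obtain ⟨k, rfl⟩ := hm
    exact Subgroup.zpow_mem _ zC_central k
  have : x * m * x⁻¹ = m := by
    rw [Subgroup.mem_center_iff] at hc
    rw [hc x, mul_inv_cancel_right]
  rw [this]
  exact hm

/-- the image of a generator of the O'Nan group in the quotient of the cover -/
def back (x : ON.Gen) : Cov ⧸ Z := QuotientGroup.mk (cg (up x))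

theorem mk_zC : (QuotientGroup.mk zC : Cov ⧸ Z) = 1 :=
  (QuotientGroup.eq_one_iff _).2 (Subgroup.mem_zpowers zC)

/-- the homomorphism from the O'Nan group to the quotient of the cover by the central element -/
def τ : ON →* Cov ⧸ Z :=
  PresentedGroup.toGroup (f := back) (by
    intro r hr
    rcases hr with ⟨x, hx, y, hy, rfl⟩ | hr
    · rw [map_pow, map_mul, FreeGroup.lift_apply_of, FreeGroup.lift_apply_of]
      unfold back
      rw [← QuotientGroup.mk_mul, ← QuotientGroup.mk_pow, ← label_up,
        crel_cox (mem_nodes_up hx) (mem_nodes_up hy)]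
      rfl
    · have h1 := congrArg (QuotientGroup.mk (s := Z)) (crel_extra (r := cextra[0]) (by decide))
      have h2 := congrArg (QuotientGroup.mk (s := Z)) (crel_extra (r := cextra[1]) (by decide))
      have h3 := congrArg (QuotientGroup.mk (s := Z)) (crel_extra (r := cextra[2]) (by decide))
      have h4 := congrArg (QuotientGroup.mk (s := Z)) (crel_extra (r := cextra[3]) (by decide))
      have h5 := congrArg (QuotientGroup.mk (s := Z)) (crel_extra (r := cextra[4]) (by decide))
      have h6 := congrArg (QuotientGroup.mk (s := Z)) (crel_extra (r := cextra[5]) (by decide))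
      have h7 := congrArg (QuotientGroup.mk (s := Z)) (crel_extra (r := cextra[6]) (by decide))
      have hz : (QuotientGroup.mk ((PresentedGroup.mk crels) (FreeGroup.of CGen.z)) : Cov ⧸ Z) = 1 := mk_zC
      simp only [cextra, List.getElem_cons_zero, List.getElem_cons_succ, CGen.wg, CGen.wa, CGen.wb, CGen.wc,
        CGen.wd, CGen.we, CGen.wf, CGen.wz, map_mul, map_inv, map_pow, QuotientGroup.mk_mul,
        QuotientGroup.mk_inv, QuotientGroup.mk_pow, QuotientGroup.mk_one, hz, inv_one, mul_one]
        at h1 h2 h3 h4 h5 h6 h7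
      simp only [ON.extra, List.mem_cons, List.not_mem_nil, or_false] at hr
      rcases hr with rfl | rfl | rfl | rfl | rfl | rfl | rfl <;>
        simp only [ON.g, ON.a, ON.b, ON.c, ON.d, ON.e, ON.f, map_mul, map_inv,
          map_pow, FreeGroup.lift_apply_of, back, up]
      · exact h1
      · exact h2
      · exact h3
      · exact h4
      · exact h5
      · exact h6
      · exact h7)

theorem τ_og (x : ON.Gen) : τ (og x) = QuotientGroup.mk (cg (up x)) := PresentedGroup.toGroup.of _

theorem τ_σ (y : Cov) : τ (σ y) = QuotientGroup.mk y := by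
  have h : τ.comp σ = QuotientGroup.mk' Z := by
    apply PresentedGroup.ext
    intro x
    show τ (σ (cg x)) = QuotientGroup.mk (cg x)
    rw [σ_cg]
    cases x
    · exact τ_og .g
    · exact τ_og .a
    · exact τ_og .b
    · exact τ_og .c
    · exact τ_og .d
    · exact τ_og .e
    · exact τ_og .f
    · show τ 1 = _
      rw [map_one]
      exact mk_zC.symm
  exact DFunLike.congr_fun h y

theorem ker_σ : σ.ker = Z := by
  apply le_antisymm
  · intro y hy
    rw [MonoidHom.mem_ker] at hy
    have := τ_σ y
    rw [hy, map_one] at this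
    exact (QuotientGroup.eq_one_iff y).1 this.symm
  · rw [Subgroup.zpowers_le]
    exact σ_zC

/-- the central element dies in every commutative quotient -/
theorem zC_ab {A : Type} [CommGroup A] (φ : Cov →* A) : φ zC = 1 := by
  -- the images of the generators
  have sq : ∀ x : CGen, x ∈ coxNodes cedges → φ (cg x) ^ 2 = 1 := by
    intro x hx
    rw [pow_two, ← map_mul, cg_sq hx, map_one]
  have e3 : ∀ x y : CGen, x ∈ coxNodes cedges → y ∈ coxNodes cedges → coxLabel cedges x y = 3 →
      φ (cg x) = φ (cg y) := by
    intro x y hx hy h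
    have := congrArg φ (crel_cox hx hy)
    rw [h, map_pow, map_mul, map_one, mul_pow] at this
    have hx2 := sq x hx
    have hy2 := sq y hy
    have hx3 : φ (cg x) ^ 3 = φ (cg x) := by rw [pow_succ, hx2, one_mul]
    have hy3 : φ (cg y) ^ 3 = φ (cg y) := by rw [pow_succ, hy2, one_mul]
    rw [hx3, hy3] at this
    calc φ (cg x) = φ (cg x) * (φ (cg y) ^ 2) := by rw [hy2, mul_one]
      _ = (φ (cg x) * φ (cg y)) * φ (cg y) := by rw [pow_two, mul_assoc]
      _ = φ (cg y) := by rw [this, one_mul]
  have hab := e3 .a .b (by decide) (by decide) (by decide)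
  have hbc := e3 .b .c (by decide) (by decide) (by decide)
  have hde := e3 .d .e (by decide) (by decide) (by decide)
  have hef := e3 .e .f (by decide) (by decide) (by decide)
  have h2 := congrArg φ (crel_extra (r := cextra[1]) (by decide))
  have h1 := congrArg φ (crel_extra (r := cextra[0]) (by decide))
  have h6 := congrArg φ (crel_extra (r := cextra[5]) (by decide))
  have h15 := congrArg φ (crel_extra (r := cextra[14]) (by decide))
  simp only [cextra, List.getElem_cons_zero, List.getElem_cons_succ, CGen.wg, CGen.wa, CGen.wb, CGen.wc,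
    CGen.wd, CGen.we, CGen.wf, CGen.wz, map_mul, map_inv, map_pow, map_one] at h1 h2 h6 h15
  change φ (cg .a) * φ (cg .f) * ((φ (cg .g)) ^ 2)⁻¹ = 1 at h1
  change φ (cg .a) * φ (cg .f) * ((φ (cg .c) * φ (cg .d)) ^ 4)⁻¹ = 1 at h2
  change φ (cg .g) * φ (cg .b) * ((φ (cg .c))⁻¹ * φ (cg .g) * φ (cg .c)) *
    ((φ (cg .b))⁻¹ * φ (cg .g) * φ (cg .b)) * ((φ (cg .c))⁻¹ * φ (cg .g) * φ (cg .c)) * (φ (cg .z))⁻¹ = 1 at h6
  change φ (cg .z) ^ 3 = 1 at h15
  have sa := sq .a (by decide)
  have sc := sq .c (by decide)
  have sd := sq .d (by decide)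
  have sf := sq .f (by decide)
  -- a f = (c d)^4 = 1
  have hcd : (φ (cg .c) * φ (cg .d)) ^ 4 = 1 := by
    rw [mul_pow, show 4 = 2 * 2 from rfl, pow_mul, pow_mul, sc, sd]
    simp
  rw [hcd, inv_one, mul_one] at h2
  -- g ^ 2 = a f = 1
  have hg2 : φ (cg .g) ^ 2 = 1 := by
    rw [h2, one_mul, inv_eq_one] at h1
    exact h1
  -- z = g ^ 4 * b = b
  have hz : φ (cg .z) = φ (cg .b) := by
    have e : φ (cg .g) * φ (cg .b) * ((φ (cg .c))⁻¹ * φ (cg .g) * φ (cg .c)) *
        ((φ (cg .b))⁻¹ * φ (cg .g) * φ (cg .b)) * ((φ (cg .c))⁻¹ * φ (cg .g) * φ (cg .c)) =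
        (φ (cg .g) ^ 2) ^ 2 * φ (cg .b) := by
      rw [mul_comm ((φ (cg .c))⁻¹) (φ (cg .g)), mul_assoc (φ (cg .g)) ((φ (cg .c))⁻¹), inv_mul_cancel, mul_one,
        mul_comm ((φ (cg .b))⁻¹) (φ (cg .g)), mul_assoc (φ (cg .g)) ((φ (cg .b))⁻¹), inv_mul_cancel, mul_one]
      rw [pow_two, pow_two]
      simp only [mul_assoc, mul_comm, mul_left_comm]
    rw [e, hg2, one_pow, one_mul, mul_inv_eq_one] at h6
    exact h6.symm
  have hb2 := sq .b (by decide)
  show φ (cg .z) = 1
  have hz2 : φ (cg .z) ^ 2 = 1 := by rw [hz, hb2]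
  calc φ (cg .z) = φ (cg .z) ^ 3 * (φ (cg .z) ^ 2)⁻¹ := by group
    _ = 1 := by rw [h15, hz2, inv_one, mul_one]

theorem zC_mem_commutator : zC ∈ commutator Cov := by
  have := zC_ab (Abelianization.of (G := Cov))
  exact (QuotientGroup.eq_one_iff zC).1 this

theorem isStem_σ : Cfsg.IsStemExtension σ := by
  refine ⟨σ_surjective, ?_, ?_⟩
  · rw [ker_σ, Subgroup.zpowers_le]
    exact zC_central
  · rw [ker_σ, Subgroup.zpowers_le]
    exact zC_mem_commutator

/-- the central element is not trivial, by an action in which it moves a point -/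
theorem zC_ne_one (D : HomData cedges cextra)
    (hmove : D.T.nxt 0 (Cfsg.Agent.Lib.Helper6.TCGS.ivN D.ivs (D.code .z)) ≠ 0) : zC ≠ 1 := by
  intro h
  have h1 := D.ρ_of_apply .z ⟨0, D.hTn⟩
  have h2 : D.ρ (PresentedGroup.of CGen.z) = 1 := by
    have : (PresentedGroup.of CGen.z : Cov) = 1 := h
    rw [this, map_one]
  rw [h2] at h1
  exact hmove h1.symm

theorem orderOf_zC (D : HomData cedges cextra)
    (hmove : D.T.nxt 0 (Cfsg.Agent.Lib.Helper6.TCGS.ivN D.ivs (D.code .z)) ≠ 0) : orderOf zC = 3 := by
  have hp : Nat.Prime 3 := by norm_num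
  exact orderOf_eq_prime zC_pow (zC_ne_one D hmove)

/-- **the lower bound**: a finite stem extension of the O'Nan group with kernel of order three -/
theorem exists_cover (D : HomData cedges cextra)
    (hmove : D.T.nxt 0 (Cfsg.Agent.Lib.Helper6.TCGS.ivN D.ivs (D.code .z)) ≠ 0) (hfin : Finite ON) :
    ∃ (Γ : Type) (_ : Group Γ) (_ : Finite Γ) (s : Γ →* ON),
      Cfsg.IsStemExtension s ∧ Nonempty (s.ker ≃* Multiplicative (ZMod 3)) := by
  have ho := orderOf_zC D hmove
  have hcard : Nat.card σ.ker = 3 := by
    rw [ker_σ, Nat.card_zpowers, ho]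
  have hkfin : Finite σ.ker := Nat.finite_of_card_ne_zero (by rw [hcard]; norm_num)
  have hCfin : Finite Cov := by
    have e1 : Cov ≃ (Cov ⧸ σ.ker) × σ.ker := Subgroup.groupEquivQuotientProdSubgroup
    have e2 : (Cov ⧸ σ.ker) ≃* ON := QuotientGroup.quotientKerEquivOfSurjective σ σ_surjective
    have : Finite (Cov ⧸ σ.ker) := Finite.of_equiv ON e2.symm.toEquiv
    exact Finite.of_equiv _ e1.symm
  haveI : Fact (Nat.Prime 3) := ⟨by norm_num⟩
  refine ⟨Cov, inferInstance, hCfin, σ, isStem_σ, ⟨?_⟩⟩
  exact mulEquivOfPrimeCardEq (p := 3) hcard (by simp)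

end Cfsg.Agent.Lib.Lead.ON3
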