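import Cfsg.Prelude.Def_Spor_ON

/-! # A triple cover of the presented O'Nan group, as a presented group

`Cov` is the group on `g, a, b, c, d, e, f, z` with the Coxeter relations of the O'Nan presentation, its first four
further relators, the other three further relators set equal to `z`, and `z` central of order three.
Letters: `0..5 = a..f`, `6 = g`, `7 = g⁻¹`, `8 = z`, `9 = z⁻¹`. -/

set_option autoImplicit false

namespace Cfsg.Agent.Lib.Lead.ON3

open Cfsg.Spor

/-- the generators `g, a, b, c, d, e, f, z` -/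
inductive CGen
  | g
  | a
  | b
  | c
  | d
  | e
  | f
  | z
  deriving DecidableEq

namespace CGen

/-- the generator `g` as a word -/ abbrev wg : FreeGroup CGen := FreeGroup.of CGen.g
/-- the generator `a` as a word -/ abbrev wa : FreeGroup CGen := FreeGroup.of CGen.a
/-- the generator `b` as a word -/ abbrev wb : FreeGroup CGen := FreeGroup.of CGen.b
/-- the generator `c` as a word -/ abbrev wc : FreeGroup CGen := FreeGroup.of CGen.c
/-- the generator `d` as a word -/ abbrev wd : FreeGroup CGen := FreeGroup.of CGen.d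
/-- the generator `e` as a word -/ abbrev we : FreeGroup CGen := FreeGroup.of CGen.e
/-- the generator `f` as a word -/ abbrev wf : FreeGroup CGen := FreeGroup.of CGen.f
/-- the generator `z` as a word -/ abbrev wz : FreeGroup CGen := FreeGroup.of CGen.z

end CGen

/-- the Coxeter path `a –3– b –3– c –8– d –3– e –3– f` -/
def cedges : List (CGen × ℕ × CGen) :=
  [(.a, 3, .b), (.b, 3, .c), (.c, 8, .d), (.d, 3, .e), (.e, 3, .f)]

open CGen in
/-- the further relators of the cover -/
def cextra : List (FreeGroup CGen) := [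
  (wa * wf) * ((wg ^ 2)⁻¹),
  (wa * wf) * (((wc * wd) ^ 4)⁻¹),
  wc * ((wd * wg * wd * wg)⁻¹ * wc * (wd * wg * wd * wg)),
  wd * ((wc * wg * wc * wg)⁻¹ * wd * (wc * wg * wc * wg)),
  (wb * wc * wd * wg) ^ 5 * wz⁻¹,
  wg * wb * (wc⁻¹ * wg * wc) * (wb⁻¹ * wg * wb) * (wc⁻¹ * wg * wc) * wz⁻¹,
  wg * we * (wd⁻¹ * wg * wd) * (we⁻¹ * wg * we) * (wd⁻¹ * wg * wd) * wz⁻¹,
  wz * wg * wz⁻¹ * wg⁻¹,
  wz * wa * wz⁻¹ * wa⁻¹,
  wz * wb * wz⁻¹ * wb⁻¹,
  wz * wc * wz⁻¹ * wc⁻¹,
  wz * wd * wz⁻¹ * wd⁻¹,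
  wz * we * wz⁻¹ * we⁻¹,
  wz * wf * wz⁻¹ * wf⁻¹,
  wz ^ 3 ]

/-- the triple cover of the presented O'Nan group -/
abbrev Cov : Type := CoxPresented CGen cedges cextra

/-- the generator of a letter -/
def cgen : ℕ → CGen
  | 0 => .a
  | 1 => .b
  | 2 => .c
  | 3 => .d
  | 4 => .e
  | 5 => .f
  | 6 => .g
  | 7 => .g
  | _ => .z

/-- is the letter the inverse of its generator? -/
def csgn : ℕ → Bool
  | 7 => true
  | 9 => true
  | _ => false

/-- the letter of a generator -/
def ccode : CGen → ℕ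
  | .a => 0
  | .b => 1
  | .c => 2
  | .d => 3
  | .e => 4
  | .f => 5
  | .g => 6
  | .z => 8

end Cfsg.Agent.Lib.Lead.ON3
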